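import Cfsg.Agent.H24.Wt

/-! Heisenberg counting.  `fx ρ y` is the space of vectors fixed by a family `y` of group elements;
`heis_D` (the non-fixed part of a long root subgroup), `heis_pair` (a root subgroup inside the Heisenberg
group fixes a `1/q` part of the non-fixed part) and `cover_bound` (every weight kills some line). -/

set_option autoImplicit false

namespace H24
open Module

theorem finrank_biSup_le_sum {K V ι : Type*} [Field K] [AddCommGroup V] [Module K V] [FiniteDimensional K V]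
    (p : ι → Submodule K V) (s : Finset ι) : finrank K ↥(⨆ i ∈ s, p i) ≤ ∑ i ∈ s, finrank K (p i) := by
  classical
  induction s using Finset.induction_on with
  | empty => simp
  | insert j s hj ih =>
    rw [Finset.iSup_insert, Finset.sum_insert hj]
    exact (Submodule.finrank_add_le_finrank_add_finrank _ _).trans (by omega)

theorem Act.sum_finrank_le_of_le {A B K V : Type*} [AddCommGroup A] [AddCommGroup B] [Field K]
    [AddCommGroup V] [Module K V] [FiniteDimensional K V] (π : Act A K V) (E : Pairing A B K) {ι : Type*}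
    (s : Finset ι) (c : ι → B) (hc : Function.Injective c) {p : Submodule K V}
    (h : ∀ i ∈ s, π.W E (c i) ≤ p) : ∑ i ∈ s, finrank K (π.W E (c i)) ≤ finrank K p := by
  rw [← Finset.sum_coe_sort s]
  have h1 : iSupIndep fun i : s => π.W E (c i) :=
    (π.W_indep E).comp (f := fun i : s => c i.1) fun _ _ e => Subtype.ext (hc e)
  have h2 : iSupIndep fun i : s => (π.W E (c i)).comap p.subtype := by
    rw [iSupIndep_iff_finsetSum_eq_zero_imp_eq_zero] at h1 ⊢
    intro t v hv h0 i hi
    exact Subtype.ext (h1 t (fun i => (v i : V)) hv (by simpa using congrArg Subtype.val h0) i hi)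
  refine le_trans (le_of_eq (Finset.sum_congr rfl fun i _ => ?_)) (sum_finrank_le_of_indep _ h2)
  exact (Submodule.comapSubtypeEquivOfLe (h i i.2)).finrank_eq.symm

/-- product of pairings -/
def Pairing.prod {A B A' B' K : Type*} [AddCommGroup A] [AddCommGroup B] [AddCommGroup A']
    [AddCommGroup B'] [Field K] (E : Pairing A B K) (E' : Pairing A' B' K) :
    Pairing (A × A') (B × B') K where
  e a b := E.e a.1 b.1 * E'.e a.2 b.2
  add_left a a' b := by simp only [Prod.fst_add, Prod.snd_add, Pairing.add_left]; ring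
  add_right a b b' := by simp only [Prod.fst_add, Prod.snd_add, Pairing.add_right]; ring
  zero_left b := by simp [Pairing.zero_left]
  zero_right a := by simp [Pairing.zero_right]
  nd_left a h := Prod.ext (E.nd_left _ fun b => by simpa [Pairing.zero_right] using h (b, 0))
    (E'.nd_left _ fun b => by simpa [Pairing.zero_right] using h (0, b))
  nd_right b h := Prod.ext (E.nd_right _ fun a => by simpa [Pairing.zero_left] using h (a, 0))
    (E'.nd_right _ fun a => by simpa [Pairing.zero_left] using h (0, a))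

/-- the multiplication pairing of a field -/
def mulPairing {F K : Type*} [Field F] [Field K] {ψ : AddChar F K} (hψ : ψ ≠ 1) : Pairing F F K :=
  Pairing.ofBilin ψ (fun a b => a * b) add_mul mul_add
    (fun _ h => eq_zero_of_forall_addChar_mul hψ fun c => by rw [mul_comm]; exact h c)
    fun _ h => eq_zero_of_forall_addChar_mul hψ h

variable {G M : Type*} [Group G] [AddCommGroup M] [Module ℂ M] (ρ : G →* End ℂ M)

/-- fixed vectors of a family -/
noncomputable def fx {ι : Type*} (y : ι → G) : Submodule ℂ M := jes (fun i => ρ (y i)) fun _ => 1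

theorem mem_fx {ι : Type*} {y : ι → G} {v : M} : v ∈ fx ρ y ↔ ∀ i, ρ (y i) v = v := by
  simp [fx, mem_jes]

theorem rep_inj' (g : G) : Function.Injective (ρ g) :=
  Function.LeftInverse.injective (g := ρ g⁻¹) fun v => by
    rw [← End.mul_apply, ← map_mul, inv_mul_cancel, map_one, End.one_apply]

theorem fx_map {ι κ : Type*} {y : ι → G} {z : κ → G} {g : G} (h : ∀ i, ∃ j, z i * g = g * y j) {v : M}
    (hv : v ∈ fx ρ y) : ρ g v ∈ fx ρ z := (mem_fx ρ).2 fun i => by
  obtain ⟨j, hj⟩ := h i
  rw [← End.mul_apply, ← map_mul, hj, map_mul, End.mul_apply, (mem_fx ρ).1 hv]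

theorem jes_map {ι : Type*} {z : ι → G} {μ : ι → ℂ} {g : G} (h : ∀ i, Commute (z i) g) {v : M}
    (hv : v ∈ jes (fun i => ρ (z i)) μ) : ρ g v ∈ jes (fun i => ρ (z i)) μ := fun i => by
  rw [← End.mul_apply, ← map_mul, (h i).eq, map_mul, End.mul_apply, hv i, map_smul]

variable [FiniteDimensional ℂ M]

theorem heis_jes {ι A : Type*} [Fintype A] {z : ι → G} {μ : ι → ℂ} (T : A → G)
    (hc : ∀ a i, Commute (z i) (T a)) (β : A → A → ι) (hT : ∀ a b, T a * T b = T b * T a * z (β a b))
    (hinj : Function.Injective fun a b => μ (β a b)) (h : jes (fun i => ρ (z i)) μ ≠ ⊥) :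
    Fintype.card A ≤ finrank ℂ (jes (fun i => ρ (z i)) μ) ^ 2 := by
  have : Nontrivial (jes (fun i => ρ (z i)) μ) := Submodule.nontrivial_iff_ne_bot.2 h
  refine heis_bound (fun a => (ρ (T a)).restrict fun _ => jes_map ρ (hc a))
    (fun a => (ρ (T a)⁻¹).restrict fun _ => jes_map ρ fun i => (hc a i).inv_right) (fun a => ?_) _
    (fun a b => ?_) hinj
  · ext m
    simp only [End.mul_apply, LinearMap.restrict_apply, End.one_apply]
    rw [← End.mul_apply, ← map_mul, mul_inv_cancel, map_one, End.one_apply]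
  · ext m
    simp only [End.mul_apply, LinearMap.restrict_apply, LinearMap.smul_apply, Submodule.coe_smul]
    rw [← End.mul_apply, ← map_mul, hT, map_mul, map_mul, End.mul_apply, End.mul_apply, m.2, map_smul,
      map_smul]

variable {k : Type*} [Field k] [Fintype k] {z : k → G} (hz : ∀ a b, z (a + b) = z a * z b)
include hz

theorem heis_D {A : Type*} [Fintype A] (T : A → G) (hc : ∀ a i, Commute (z i) (T a)) (β : A → A → k)
    (hT : ∀ a b, T a * T b = T b * T a * z (β a b))
    (hβ : ∀ a a', a ≠ a' → ∀ c, ∃ b, β a b = c + β a' b)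
    (ht : ∀ l : k, l ≠ 0 → ∃ g, ∀ t, z t * g = g * z (l * t)) (h1 : ∃ t, ρ (z t) ≠ 1) {r : ℕ}
    (hr : r ^ 2 ≤ Fintype.card A) : finrank ℂ (fx ρ z) + (Fintype.card k - 1) * r ≤ finrank ℂ M := by
  classical
  obtain ⟨ψ, hψ⟩ := exists_addChar_complex k
  let E := mulPairing hψ
  have hE : ∀ a b, E.e a b = ψ (a * b) := fun _ _ => rfl
  let π : Act k ℂ M := Act.ofRep ρ z hz
  have hA : (Fintype.card k : ℂ) ≠ 0 := Nat.cast_ne_zero.2 Fintype.card_ne_zero
  obtain ⟨t, h1⟩ := h1
  obtain ⟨m, h2, h3⟩ := π.exists_W_ne_bot E hA (a := t) h1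
  have hm : m ≠ 0 := by
    rintro rfl
    simp [hE] at h2
  have h4 : ∀ b ∈ Finset.univ.erase (0 : k), r ≤ finrank ℂ (π.W E b) := fun b hb => by
    have hb := (Finset.mem_erase.1 hb).1
    obtain ⟨g, hg⟩ := ht (b / m) (div_ne_zero hb hm)
    have h5 : π.W E b ≠ ⊥ := Act.ne_bot_of_map (rep_inj' ρ g) (fun v hv => π.map_W E
      (τ := fun a => b / m * a) (fun a => by
        change ρ _ * _ = _ * ρ _
        rw [← map_mul, ← map_mul, hg]) (fun a => by
        rw [hE, hE]; congr 1; field_simp) hv) h3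
    have h6 := heis_jes ρ (μ := fun a => E.e a b) T hc β hT (fun a a' e => by
      by_contra hne
      refine hb (eq_zero_of_forall_addChar_mul hψ fun c => ?_)
      obtain ⟨x, hx⟩ := hβ a a' hne c
      have := congrFun e x
      simp only [hx, E.add_left] at this
      exact mul_right_cancel₀ (E.ne_zero (β a' x) b) (this.trans (one_mul _).symm)) h5
    exact (Nat.pow_le_pow_iff_left two_ne_zero).1 (hr.trans h6)
  have h5 := Finset.card_nsmul_le_sum _ _ _ h4
  have h6 := π.sum_finrank_W E hA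
  rw [← Finset.add_sum_erase _ _ (Finset.mem_univ 0)] at h6
  rw [Finset.card_erase_of_mem (Finset.mem_univ _), Finset.card_univ, smul_eq_mul] at h5
  have h7 : finrank ℂ (fx ρ z) ≤ finrank ℂ (π.W E 0) :=
    Submodule.finrank_mono fun v hv => (π.mem_W_zero E).2 ((mem_fx ρ).1 hv)
  omega

theorem heis_pair {y w : k → G} (hy : ∀ a b, y (a + b) = y a * y b) (hyz : ∀ a b, Commute (z b) (y a))
    (hwz : ∀ a b, Commute (z b) (w a)) {ε : k} (hε : ε ≠ 0)
    (h : ∀ c t, y t * w c = w c * y t * z (ε * t * c)) :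
    Fintype.card k * finrank ℂ ↥(fx ρ y ⊓ fx ρ z) + finrank ℂ M ≤
      Fintype.card k * finrank ℂ (fx ρ y) + finrank ℂ (fx ρ z) := by
  classical
  obtain ⟨ψ, hψ⟩ := exists_addChar_complex k
  let E := (mulPairing hψ).prod (mulPairing hψ)
  have hE : ∀ a b, E.e a b = ψ (a.1 * b.1) * ψ (a.2 * b.2) := fun _ _ => rfl
  let π : Act (k × k) ℂ M := Act.ofRep ρ (fun a => y a.1 * z a.2) fun a b => by
    simp only [Prod.fst_add, Prod.snd_add, hy, hz, mul_assoc]
    rw [← mul_assoc (z a.2), (hyz b.1 a.2).eq, mul_assoc]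
  have hπ : ∀ a, π.π a = ρ (y a.1 * z a.2) := fun _ => rfl
  have hA : (Fintype.card (k × k) : ℂ) ≠ 0 := Nat.cast_ne_zero.2 Fintype.card_ne_zero
  have y0 : y 0 = 1 := by simpa using hy 0 0
  have z0 : z 0 = 1 := by simpa using hz 0 0
  have h1 := π.sum_finrank_W E hA
  rw [Fintype.sum_prod_type] at h1
  rw [← Finset.sum_congr rfl fun a _ => Finset.add_sum_erase _ (fun b => finrank ℂ (π.W E (a, b)))
    (Finset.mem_univ (0 : k)), Finset.sum_add_distrib] at h1
  have h2 := π.sum_finrank_le_of_le E Finset.univ (fun a => (a, 0)) (fun _ _ e => congrArg Prod.fst e)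
    (p := fx ρ z) fun a _ v hv => (mem_fx ρ).2 fun t => by simpa [hπ, hE, y0] using hv (0, t)
  have h3 := π.sum_finrank_le_of_le E Finset.univ (fun b => (0, b)) (fun _ _ e => congrArg Prod.snd e)
    (p := fx ρ y) fun a _ v hv => (mem_fx ρ).2 fun t => by simpa [hπ, hE, z0] using hv (t, 0)
  rw [← Finset.add_sum_erase _ _ (Finset.mem_univ 0)] at h3
  have h4 : finrank ℂ ↥(fx ρ y ⊓ fx ρ z) ≤ finrank ℂ (π.W E (0, 0)) :=
    Submodule.finrank_mono fun v hv => (π.mem_W_zero E).2 fun a => by
      rw [hπ, map_mul, End.mul_apply, (mem_fx ρ).1 hv.2, (mem_fx ρ).1 hv.1]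
  have h5 : ∑ a, ∑ b ∈ Finset.univ.erase (0 : k), finrank ℂ (π.W E (a, b)) ≤
      Fintype.card k * ∑ b ∈ Finset.univ.erase (0 : k), finrank ℂ (π.W E (0, b)) := by
    rw [← smul_eq_mul, ← Finset.card_univ]
    refine Finset.sum_le_card_nsmul _ _ _ fun a _ => Finset.sum_le_sum fun b hb => ?_
    have hb := (Finset.mem_erase.1 hb).1
    refine Act.finrank_le_of_map (rep_inj' ρ (w (-a / (ε * b)))) fun v hv => π.map_W E
      (τ := fun x => (x.1, x.2 + ε * x.1 * (-a / (ε * b)))) (fun x => ?_) (fun x => ?_) hv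
    · rw [hπ, hπ, ← map_mul, ← map_mul, mul_assoc, (hwz _ _).eq, ← mul_assoc, h, add_comm, hz]
      simp only [mul_assoc]
    · rw [hE, hE, ← AddChar.map_add_eq_mul, ← AddChar.map_add_eq_mul]
      congr 1
      field_simp
      ring
  nlinarith

omit hz [Field k] [Fintype k] in
theorem cover_bound {A B I J : Type*} [AddCommGroup A] [AddCommGroup B] [Fintype A] [Fintype B] [Fintype I]
    (E : Pairing A B ℂ) (T : A → G) (hc : ∀ a i, Commute (z i) (T a))
    (hT : ∀ a a', ∃ i, T a * T a' = T (a + a') * z i) (l : I → J → G)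
    (hk : ∀ b, ∃ i, ∀ j, ∃ a t, E.e a b = 1 ∧ l i j = T a * z t) :
    finrank ℂ (fx ρ z) ≤ ∑ i, finrank ℂ ↥(fx ρ (l i) ⊓ fx ρ z) := by
  let π : Act A ℂ (fx ρ z) :=
    { π a := (ρ (T a)).restrict fun _ => jes_map ρ (hc a)
      map_zero := by
        obtain ⟨i, hi⟩ := hT 0 0
        rw [add_zero, mul_right_inj] at hi
        ext m
        change ρ (T 0) m = m
        rw [hi]
        exact (mem_fx ρ).1 m.2 i
      map_add a a' := by
        obtain ⟨i, hi⟩ := hT a a'
        ext m
        change ρ (T (a + a')) m = ρ (T a) (ρ (T a') m)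
        rw [← End.mul_apply, ← map_mul, hi, map_mul, End.mul_apply, (mem_fx ρ).1 m.2 i] }
  refine le_trans (Submodule.finrank_mono fun v hv => ?_) (finrank_biSup_le_sum _ Finset.univ)
  refine π.W_induction E (Nat.cast_ne_zero.2 Fintype.card_ne_zero)
    (p := (⨆ i ∈ Finset.univ, fx ρ (l i) ⊓ fx ρ z).comap (fx ρ z).subtype) (fun b m hm => ?_) ⟨v, hv⟩
  obtain ⟨i, hi⟩ := hk b
  refine Submodule.mem_iSup_of_mem i (Submodule.mem_iSup_of_mem (Finset.mem_univ _) ⟨(mem_fx ρ).2 fun j => ?_, m.2⟩)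
  obtain ⟨a, t, h1, h2⟩ := hi j
  have := Act.apply_of_mem hm a
  rw [h1, one_smul] at this
  rw [h2, map_mul, End.mul_apply, Submodule.subtype_apply, (mem_fx ρ).1 m.2 t]
  exact congrArg Subtype.val this

end H24
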