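import Cfsg.Agent.H24.Alt
import Cfsg.Agent.H24.HP
import Cfsg.Agent.H5.Central

/-! Abelian unipotent radicals of type `Λ² Y` (`ASys`): weight spaces `ASys.J`, the trace formula and the structure of
small representations (`ASys.small`); `isIntegral_sum_family`. -/

set_option autoImplicit false
set_option linter.unusedSectionVars false

namespace H24
open Module LinearMap Finset H5 Cfsg
open scoped Classical

theorem isIntegral_sum_family {G I : Type*} [Group G] [Finite G] [Fintype I] {χ : G → ℂ} (h : IsIrrCharacter G χ)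
    (x : I → G) (hx : ∀ g, ∃ e : I ≃ I, ∀ i, x (e i) = g * x i * g⁻¹) : IsIntegral ℤ ((∑ i, χ (x i)) / χ 1) := by
  have := Fintype.ofFinite G
  have h1 := h.isIntegral_sum_div (φ := fun g => (#{i | x i = g} : ℂ)) (fun g k => by
    obtain ⟨e, he⟩ := hx k
    exact congrArg Nat.cast (card_equiv e fun i => by simp [he]).symm) fun g => isIntegral_natCast _
  rw [← sum_fiberwise univ x]
  convert h1 using 3 with g
  rw [sum_congr rfl fun i hi => congrArg χ (mem_filter.1 hi).2]
  simp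

/-- a commutative family of long root elements indexed by `Λ² Y` together with a Levi action -/
structure ASys (F Y G : Type*) [Field F] [AddCommGroup Y] [Module F Y] [Group G] where
  s : Y → Y → G
  add_right : ∀ x y y', s x (y + y') = s x y * s x y'
  add_left : ∀ x x' y, s (x + x') y = s x y * s x' y
  smul : ∀ (c : F) x y, s (c • x) y = s x (c • y)
  self : ∀ (c : F) x, s x (c • x) = 1
  comm : ∀ x y x' y', s x y * s x' y' = s x' y' * s x y
  levi : ∀ (g : End F Y) (c : F), c ≠ 0 → LinearMap.det g = c * c → ∃ k, ∀ x y, s x y * k = k * s (g x) (g y)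

namespace ASys
variable {F : Type*} [Field F] [Fintype F] {Y : Type*} [AddCommGroup Y] [Module F Y] [FiniteDimensional F Y]
variable {G M : Type*} [Group G] [AddCommGroup M] [Module ℂ M] (A : ASys F Y G) (ρ : G →* End ℂ M)
variable (ψ : AddChar F ℂ)

theorem zero_right (x : Y) : A.s x 0 = 1 := by simpa using A.self 0 x
theorem zero_left (x : Y) : A.s 0 x = 1 := by simpa using A.add_left 0 0 x
theorem swap (x y : Y) : A.s y x = (A.s x y)⁻¹ := by
  have h := fun x => A.self 1 x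
  have := h (x + y)
  simp only [one_smul] at h this
  rw [A.add_left, A.add_right, A.add_right, h, h, one_mul, mul_one] at this
  exact eq_inv_of_mul_eq_one_right this

/-- weight spaces -/
noncomputable def J (B : Y →ₗ[F] Y →ₗ[F] F) : Submodule ℂ M :=
  jes (fun p : Y × Y => ρ (A.s p.1 p.2)) fun p => ψ (B p.1 p.2)

variable {A ρ ψ}
theorem mem_J {B : Y →ₗ[F] Y →ₗ[F] F} {v : M} : v ∈ A.J ρ ψ B ↔ ∀ x y, ρ (A.s x y) v = ψ (B x y) • v :=
  ⟨fun h x y => h (x, y), fun h p => h p.1 p.2⟩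

theorem J_map {B B' : Y →ₗ[F] Y →ₗ[F] F} {k : G} {g : Y → Y} (hk : ∀ x y, A.s x y * k = k * A.s (g x) (g y))
    (hB : ∀ x y, B (g x) (g y) = B' x y) {v : M} (hv : v ∈ A.J ρ ψ B) : ρ k v ∈ A.J ρ ψ B' := mem_J.2 fun x y => by
  rw [← End.mul_apply, ← map_mul, hk, map_mul, End.mul_apply, mem_J.1 hv, map_smul, hB]

variable (A ρ) (hψ : ψ ≠ 1)
include hψ

theorem J_indep : iSupIndep (A.J ρ ψ) := jes_indep _ _ fun B B' e => LinearMap.ext₂ fun x y =>
  addChar_cancel hψ fun c => by simpa [mul_comm c] using congrFun e (x, c • y)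

theorem iSup_J [Finite G] : ⨆ B, A.J ρ ψ B = ⊤ := by
  let H := Subgroup.closure (Set.range fun p : Y × Y => A.s p.1 p.2)
  let _ : CommGroup H := Subgroup.closureCommGroupOfComm (by
    rintro _ ⟨p, rfl⟩ _ ⟨p', rfl⟩
    exact A.comm _ _ _ _)
  have : Fintype (Additive H) := Fintype.ofFinite _
  have : Fintype (Additive (H →* ℂˣ)) := Fintype.ofFinite _
  let π : Act (Additive H) ℂ M := Act.ofRep ρ (fun a => (a.toMul : G)) fun _ _ => rfl
  refine eq_top_iff.2 fun v _ => π.W_induction (unitsPairing H) (Nat.cast_ne_zero.2 Fintype.card_ne_zero)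
    (fun θ => ?_) v
  let s : Y → Y → H := fun x y => ⟨A.s x y, Subgroup.subset_closure ⟨(x, y), rfl⟩⟩
  have h1 : ∀ x y y', s x (y + y') = s x y * s x y' := fun x y y' => Subtype.ext (A.add_right _ _ _)
  have h2 : ∀ x x' y, s (x + x') y = s x y * s x' y := fun x y y' => Subtype.ext (A.add_left _ _ _)
  have h3 : ∀ (c : F) x y, s (c • x) y = s x (c • y) := fun x y y' => Subtype.ext (A.smul _ _ _)
  have h4 : ∀ x, s x 0 = 1 := fun x => Subtype.ext (A.zero_right _)
  have hψ' : ∃ a, ψ a ≠ 1 := by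
    by_contra hc
    push Not at hc
    exact hψ (DFunLike.ext _ _ hc)
  choose B hB using fun x y : Y => exists_shift ψ.map_zero_eq_one ψ.map_add_eq_mul hψ'
    (χ := fun c => (θ.toMul (s x (c • y)) : ℂ)) (by simp [h4])
    fun a b => by simp only [add_smul, h1, map_mul, Units.val_mul]
  refine le_trans (fun m hm => mem_J.2 fun x y => ?_) (le_iSup _ (LinearMap.mk₂ F B
    (fun x x' y => addChar_cancel hψ fun c => by
      rw [← hB, h2, map_mul, Units.val_mul, hB, hB, ← AddChar.map_add_eq_mul, add_mul])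
    (fun a x y => addChar_cancel hψ fun c => by rw [← hB, h3, smul_smul, hB, smul_eq_mul]; congr 1; ring)
    (fun x y y' => addChar_cancel hψ fun c => by
      rw [← hB, smul_add, h1, map_mul, Units.val_mul, hB, hB, ← AddChar.map_add_eq_mul, add_mul])
    fun a x y => addChar_cancel hψ fun c => by rw [← hB, smul_smul, hB, smul_eq_mul]; congr 1; ring))
  have := hB x y 1
  rw [one_smul, mul_one] at this
  rw [mk₂_apply, ← this]
  exact hm (Additive.ofMul (s x y))

variable [FiniteDimensional ℂ M]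

theorem altW : AltW fun B => finrank ℂ (A.J ρ ψ B) where
  alt B h z := by
    obtain ⟨v, hv, h0⟩ := Submodule.exists_mem_ne_zero_of_ne_bot fun e => h (Submodule.finrank_eq_zero.2 e)
    refine eq_zero_of_forall_addChar_mul hψ fun c => smul_left_injective ℂ h0 ?_
    simpa [A.self, eq_comm] using mem_J.1 hv z (c • z)
  inv g c hc h B := by
    obtain ⟨k, hk⟩ := A.levi g c hc h
    exact Act.finrank_le_of_map (rep_inj' ρ k) fun v => J_map hk fun _ _ => rfl

variable [Finite G] [Fintype (Y →ₗ[F] Y →ₗ[F] F)]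

theorem trace_s (x y : Y) : trace ℂ M (ρ (A.s x y)) = ∑ B, ψ (B x y) * finrank ℂ (A.J ρ ψ B) := by
  rw [trace_eq_sum_trace_restrict ((DirectSum.isInternal_submodule_iff_iSupIndep_and_iSup_eq_top _).2
    ⟨A.J_indep ρ hψ, A.iSup_J ρ hψ⟩) (fun B v hv => by
      rw [mem_J.1 hv]
      exact Submodule.smul_mem _ _ hv)]
  refine sum_congr rfl fun B _ => ?_
  rw [show (ρ (A.s x y)).restrict _ = ψ (B x y) • LinearMap.id from LinearMap.ext fun v => Subtype.ext (mem_J.1 v.2 x y)]
  simp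

theorem sum_J : ∑ B, finrank ℂ (A.J ρ ψ B) = finrank ℂ M := by
  have := A.trace_s ρ hψ 0 0
  simp only [A.zero_right, map_one, trace_one, map_zero, AddChar.map_zero_eq_one, one_mul] at this
  exact_mod_cast this.symm

theorem small (h3 : 3 ≤ finrank F Y) {c : F} (hc : c ≠ 0) (hc' : c * c ≠ 1) (hne : ∃ x y, ρ (A.s x y) ≠ 1)
    (hs : finrank ℂ M < 2 * (Fintype.card F ^ (finrank F Y - 1) - 1) * Fintype.card F ^ (finrank F Y - 2)) :
    (∀ B, B ≠ 0 → DecF B → finrank ℂ (A.J ρ ψ B) = 1) ∧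
    finrank ℂ (A.J ρ ψ 0) + Nat.card {B : Y →ₗ[F] Y →ₗ[F] F // B ≠ 0 ∧ DecF B} = finrank ℂ M ∧
    (Fintype.card F ^ finrank F Y - 1) * (Fintype.card F ^ (finrank F Y - 1) - 1) ≤
      (Fintype.card F ^ 2 - 1) * Nat.card {B : Y →ₗ[F] Y →ₗ[F] F // B ≠ 0 ∧ DecF B} ∧
    ∀ x y, LinearIndependent F ![x, y] →
      trace ℂ M (ρ (A.s x y)) = finrank ℂ M - Fintype.card F ^ (2 * (finrank F Y - 2) + 1) := by
  have : Finite Y := Module.finite_of_finite F
  have : Fintype Y := Fintype.ofFinite _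
  have h := A.altW ρ hψ
  have h4 := A.sum_J ρ hψ
  obtain ⟨B₀, h0, h1⟩ : ∃ B₀, B₀ ≠ 0 ∧ finrank ℂ (A.J ρ ψ B₀) ≠ 0 := by
    by_contra hn
    push Not at hn
    obtain ⟨x, y, hne⟩ := hne
    rw [sum_eq_single 0 (fun B _ => hn B) (by simp)] at h4
    refine hne (LinearMap.ext fun v => ?_)
    simpa using mem_J.1 (Submodule.eq_top_of_finrank_eq h4 ▸ Submodule.mem_top : v ∈ A.J ρ ψ 0) x y
  have h5 := h4
  rw [← add_sum_erase _ _ (mem_univ 0)] at h5
  have hm := h.small h3 hc hc' (by omega) h0 h1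
  have h6 : ∑ B ∈ univ.erase 0, finrank ℂ (A.J ρ ψ B) = Nat.card {B : Y →ₗ[F] Y →ₗ[F] F // B ≠ 0 ∧ DecF B} := by
    rw [sum_congr rfl fun B hB => hm B (mem_erase.1 hB).1, ← sum_filter, ← card_eq_sum_ones,
      Nat.card_eq_fintype_card, Fintype.card_subtype]
    congr 1
    ext B
    simp
  refine ⟨fun B hB hd => by rw [hm B hB, if_pos hd], h6 ▸ h5, h6 ▸ h.card_ge h3 hm h0 h1, fun x y hi => ?_⟩
  have h7 : ∀ f : F → ℂ, ∑ B, f (B x y) * finrank ℂ (A.J ρ ψ B) =
      f 0 * (∑ B with B x y = 0, finrank ℂ (A.J ρ ψ B) : ℕ) +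
        (∑ c ∈ univ.erase 0, f c) * Fintype.card F ^ (2 * (finrank F Y - 2)) := fun f => by
    rw [← sum_fiberwise univ fun B : Y →ₗ[F] Y →ₗ[F] F => B x y, ← add_sum_erase _ _ (mem_univ 0), sum_mul]
    have e : ∀ c, ∑ B with B x y = c, f (B x y) * finrank ℂ (A.J ρ ψ B) =
        f c * (∑ B with B x y = c, finrank ℂ (A.J ρ ψ B) : ℕ) := fun c => by
      rw [Nat.cast_sum, mul_sum]
      exact sum_congr rfl fun B hB => by rw [(mem_filter.1 hB).2]
    rw [e]
    congr 1
    exact sum_congr rfl fun c hc => by rw [e, h.fiber_eq h3 hm h0 h1 hi (mem_erase.1 hc).1, Nat.cast_pow]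
  have h8 := h7 fun _ => 1
  have h9 := add_sum_erase univ ψ (mem_univ 0)
  rw [AddChar.sum_eq_zero_of_ne_one hψ] at h9
  simp only [one_mul, sum_const, card_erase_of_mem (mem_univ _), card_univ, nsmul_eq_mul, mul_one, ← Nat.cast_sum, h4,
    Nat.cast_pred Fintype.card_pos] at h8
  rw [A.trace_s ρ hψ, h7 ψ, h8, eq_neg_of_add_eq_zero_right h9, AddChar.map_zero_eq_one]
  ring

end ASys
end H24
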