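import Cfsg.Agent.H24.SpEv

/-! Invariant multiplicity functions on alternating forms (`AltW`): if the total multiplicity of the non-zero forms is
small then it is the indicator function of the decomposable forms (`AltW.small`); counts `AltW.card_ge`, `AltW.fiber_eq`. -/

set_option autoImplicit false
set_option linter.unusedSectionVars false

namespace H24
open Module LinearMap Finset
open scoped Classical

theorem sum_le_of_injOn {α β : Type*} {s : Finset α} {t : Finset β} (f : α → β) (hf : Set.InjOn f s)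
    (hst : ∀ a ∈ s, f a ∈ t) {u : α → ℕ} {v : β → ℕ} (h : ∀ a ∈ s, u a ≤ v (f a)) :
    ∑ a ∈ s, u a ≤ ∑ b ∈ t, v b :=
  (sum_le_sum h).trans ((sum_image hf).symm.trans_le (sum_le_sum_of_subset (image_subset_iff.2 hst)))

variable {F : Type*} [Field F] [Fintype F] {Y : Type*} [AddCommGroup Y] [Module F Y] [FiniteDimensional F Y]

/-- decomposable alternating forms -/
def DecF (B : Y →ₗ[F] Y →ₗ[F] F) : Prop :=
  (∀ z, B z z = 0) ∧ ∀ x y z w, B x y * B z w = B x z * B y w - B x w * B y z

theorem alt_swap {B : Y →ₗ[F] Y →ₗ[F] F} (h : ∀ z, B z z = 0) (x y : Y) : B y x = -B x y := by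
  have := h (x + y)
  simp only [map_add, LinearMap.add_apply, h] at this
  linear_combination this

theorem exists_one_of_ne_zero {B : Y →ₗ[F] Y →ₗ[F] F} (h : B ≠ 0) : ∃ x y, B x y = 1 := by
  obtain ⟨x, y, h⟩ : ∃ x y, B x y ≠ 0 := by
    by_contra hn
    push Not at hn
    exact h (LinearMap.ext₂ hn)
  exact ⟨x, (B x y)⁻¹ • y, by simp [h]⟩

theorem DecF.ext {B B' : Y →ₗ[F] Y →ₗ[F] F} (h : DecF B) (h' : DecF B') {x y : Y} (h1 : B x y = 1) (h2 : B' x = B x)
    (h3 : ∀ z, B' z y = B z y) : B' = B := LinearMap.ext₂ fun z w => by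
  have e := h.2 x y z w
  have e' := h'.2 x y z w
  rw [h2, alt_swap h'.1 w y, alt_swap h'.1 z y, h3, h3, ← alt_swap h.1, ← alt_swap h.1, ← e, h1] at e'
  simpa using e'

theorem det_shear (x y : Y) (p) : LinearMap.det (shear (F := F) x y p : Y →ₗ[F] Y) = 1 * 1 := by
  have : (shear (F := F) x y p : Y →ₗ[F] Y) = transvection p.1.1 x * transvection p.2.1 y := by
    ext z
    simp [shear_apply, transvection.apply, ann_right, add_right_comm]
  simp [this, transvection.det, ann_left, ann_right]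

theorem exists_det_pair (h3 : 3 ≤ finrank F Y) {x y x' y' : Y} (h : LinearIndependent F ![x, y])
    (h' : LinearIndependent F ![x', y']) : ∃ g : End F Y, LinearMap.det g = 1 * 1 ∧ g x = x' ∧ g y = y' := by
  obtain ⟨g, h1, h2⟩ := exists_equiv_pair h h'
  have h4 := card_ann h
  have : Finite (Dual F Y) := Module.finite_of_finite F
  have : Nontrivial (Submodule.span F {x, y}).dualAnnihilator := by
    rw [← Finite.one_lt_card_iff_nontrivial, h4]
    exact Nat.one_lt_pow (by omega) Fintype.one_lt_card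
  obtain ⟨φ, hφ⟩ := exists_ne (0 : (Submodule.span F {x, y}).dualAnnihilator)
  obtain ⟨e, he⟩ : ∃ e, φ.1 e ≠ 0 := by
    by_contra hn
    push Not at hn
    exact hφ (Subtype.ext (LinearMap.ext hn))
  have hd : LinearMap.det (g : Y →ₗ[F] Y) ≠ 0 := g.isUnit_det'.ne_zero
  refine ⟨(g : Y →ₗ[F] Y) * transvection φ.1 ((((LinearMap.det (g : Y →ₗ[F] Y))⁻¹ - 1) / φ.1 e) • e), ?_, ?_, ?_⟩
  · simp only [map_mul, transvection.det, map_smul, smul_eq_mul]
    field_simp
    ring
  · simp [transvection.apply, ann_left, h1]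
  · simp [transvection.apply, ann_right, h2]

theorem surj_of_det {g : End F Y} {c : F} (hc : c ≠ 0) (h : LinearMap.det g = c * c) : Function.Surjective g :=
  ((LinearMap.isUnit_iff_range_eq_top g).1 ((LinearMap.isUnit_iff_isUnit_det g).2
    (by rw [h]; exact (mul_ne_zero hc hc).isUnit))) |> range_eq_top.1

/-- invariant multiplicity functions on alternating forms -/
structure AltW (m : (Y →ₗ[F] Y →ₗ[F] F) → ℕ) : Prop where
  alt : ∀ B, m B ≠ 0 → ∀ z, B z z = 0
  inv : ∀ (g : End F Y) (c : F), c ≠ 0 → LinearMap.det g = c * c → ∀ B, m B ≤ m (B.compl₁₂ g g)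

variable [Fintype Y] [Fintype (Y →ₗ[F] Y →ₗ[F] F)] {m : (Y →ₗ[F] Y →ₗ[F] F) → ℕ}

theorem AltW.transport (h : AltW m) (h3 : 3 ≤ finrank F Y) {x y x' y' : Y} (hi : LinearIndependent F ![x, y])
    (hi' : LinearIndependent F ![x', y']) : ∑ B with B x' y' = 1, m B ≤ ∑ B with B x y = 1, m B := by
  obtain ⟨g, h1, h2, h4⟩ := exists_det_pair h3 hi hi'
  exact sum_le_of_injOn (fun B => B.compl₁₂ g g) (fun B _ B' _ e => (compl₁₂_inj (surj_of_det one_ne_zero h1)
    (surj_of_det one_ne_zero h1)).1 e) (fun B hB => by simpa [h2, h4] using hB) fun B _ => h.inv g 1 one_ne_zero h1 B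

theorem AltW.shear_le (h : AltW m) {x y : Y} {B₀ : Y →ₗ[F] Y →ₗ[F] F} (h0 : ∀ z, B₀ z z = 0) (h1 : B₀ x y = 1) :
    Fintype.card F ^ (2 * (finrank F Y - 2)) * ∑ B with B x = B₀ x ∧ ∀ z, B z y = B₀ z y, m B ≤
      ∑ B with B x y = 1, m B := by
  have hi := indep_of_bilin B₀ h0 (h1 ▸ one_ne_zero)
  have : Finite (Dual F Y) := Module.finite_of_finite F
  have : Fintype (Submodule.span F {x, y}).dualAnnihilator := Fintype.ofFinite _
  have hc := card_ann hi
  rw [Nat.card_eq_fintype_card] at hc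
  rw [two_mul, pow_add, ← hc, ← Fintype.card_prod, ← card_univ, ← smul_eq_mul, ← sum_const, ← sum_product']
  refine sum_le_of_injOn (fun a => a.2.compl₁₂ (shear x y a.1 : Y →ₗ[F] Y) (shear x y a.1 : Y →ₗ[F] Y)) ?_
    (fun a ha => ?_) fun a _ => h.inv _ 1 one_ne_zero (det_shear _ _ _) _
  · rintro ⟨p, B⟩ hB ⟨p', B'⟩ hB' e
    simp only [coe_product, coe_filter, Set.mem_prod, mem_univ, true_and, Set.mem_setOf_eq] at hB hB'
    have e1 := fun z => congrArg (fun Q : Y →ₗ[F] Y →ₗ[F] F => Q x z) e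
    have e2 := fun z => congrArg (fun Q : Y →ₗ[F] Y →ₗ[F] F => Q z y) e
    simp only [compl₁₂_apply, LinearEquiv.coe_coe, shear_left, shear_right, hB.2.1, hB.2.2, hB'.2.1, hB'.2.2] at e1 e2
    simp only [shear_apply, map_add, map_smul, LinearMap.add_apply, LinearMap.smul_apply, h0, h1, smul_eq_mul, mul_zero, add_zero,
      mul_one, add_right_inj] at e1 e2
    obtain rfl : p = p' := Prod.ext (Subtype.ext (LinearMap.ext e2)) (Subtype.ext (LinearMap.ext e1))
    exact Prod.ext rfl ((compl₁₂_inj (shear x y p).surjective (shear x y p).surjective).1 e)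
  · simp only [mem_product, mem_filter, mem_univ, true_and] at ha ⊢
    simp [shear_left, shear_right, ha.1, h1]

theorem double_count (h2 : 2 ≤ finrank F Y) {k a : ℕ}
    (hk : ∀ x y, LinearIndependent F ![x, y] → k ≤ ∑ B with B x y = 1, m B)
    (ha : ∀ B, m B ≠ 0 → B ≠ 0 → #{x | B x ≠ 0} ≤ a) :
    Fintype.card F * ((Fintype.card F ^ finrank F Y - 1) * (Fintype.card F ^ finrank F Y - Fintype.card F) * k) ≤
      a * Fintype.card F ^ finrank F Y * ∑ B ∈ univ.erase 0, m B := by
  have h1 := card_nsmul_le_sum (univ.filter fun p : Y × Y => LinearIndependent F ![p.1, p.2])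
    (fun p => ∑ B with B p.1 p.2 = 1, m B) k fun p hp => hk _ _ (mem_filter.1 hp).2
  rw [card_pairs h2, smul_eq_mul] at h1
  replace h1 := h1.trans (sum_le_sum_of_subset (subset_univ _))
  rw [sum_sum_filter (fun (p : Y × Y) (B : Y →ₗ[F] Y →ₗ[F] F) => B p.1 p.2 = 1),
    ← add_sum_erase _ _ (mem_univ 0)] at h1
  simp only [LinearMap.zero_apply, zero_ne_one, filter_false, card_empty, zero_mul, zero_add] at h1
  refine (Nat.mul_le_mul_left _ h1).trans ?_
  rw [mul_sum, mul_sum]
  refine sum_le_sum fun B hB => ?_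
  by_cases h0 : m B = 0
  · simp [h0]
  rw [← mul_assoc]
  refine Nat.mul_le_mul_right _ (le_trans ?_ (Nat.mul_le_mul_right _ (ha B h0 (mem_erase.1 hB).1)))
  rw [← Module.card_eq_pow_finrank, card_eq_sum_card_fiberwise (f := Prod.fst) (t := univ.filter fun x => B x ≠ 0)
    (fun p hp => by
      simp only [coe_filter, mem_univ, true_and, Set.mem_setOf_eq] at hp ⊢
      intro e
      simp [e] at hp), mul_sum, ← smul_eq_mul]
  refine sum_le_card_nsmul _ _ _ fun x _ => le_trans (Nat.mul_le_mul_left _ ?_) (card_fiber_le (B x) 1 one_ne_zero)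
  refine card_le_card_of_injOn Prod.snd ?_ ?_
  · rintro ⟨a, b⟩ hp
    simp only [coe_filter, mem_filter, mem_univ, true_and, Set.mem_setOf_eq] at hp ⊢
    rw [← hp.2, hp.1]
  · rintro ⟨a, b⟩ hp ⟨a', b'⟩ hp' e
    simp only [coe_filter, Set.mem_setOf_eq] at hp hp' e
    rw [hp.2, hp'.2, e]

theorem AltW.one_le (h : AltW m) (h3 : 3 ≤ finrank F Y) {B₀ : Y →ₗ[F] Y →ₗ[F] F} (h0 : B₀ ≠ 0) (h1 : m B₀ ≠ 0)
    {x y : Y} (hi : LinearIndependent F ![x, y]) :
    Fintype.card F ^ (2 * (finrank F Y - 2)) ≤ ∑ B with B x y = 1, m B := by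
  obtain ⟨x', y', h2⟩ := exists_one_of_ne_zero h0
  refine le_trans ?_ ((h.shear_le (h.alt _ h1) h2).trans
    (h.transport h3 hi (indep_of_bilin B₀ (h.alt _ h1) (h2 ▸ one_ne_zero))))
  exact Nat.le_mul_of_pos_right _ ((Nat.pos_of_ne_zero h1).trans_le (single_le_sum (f := m) (by simp) (by simp)))

theorem AltW.small (h : AltW m) (h3 : 3 ≤ finrank F Y) {c : F} (hc : c ≠ 0) (hc' : c * c ≠ 1)
    (hs : ∑ B ∈ univ.erase 0, m B < 2 * (Fintype.card F ^ (finrank F Y - 1) - 1) * Fintype.card F ^ (finrank F Y - 2))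
    {B₀ : Y →ₗ[F] Y →ₗ[F] F} (h0 : B₀ ≠ 0) (h1 : m B₀ ≠ 0) (B : Y →ₗ[F] Y →ₗ[F] F) (hB : B ≠ 0) :
    m B = if DecF B then 1 else 0 := by
  have hq : 1 < Fintype.card F := Fintype.one_lt_card
  have key : ∀ B₀ x y, m B₀ ≠ 0 → B₀ x y = 1 → ∑ B with B x = B₀ x ∧ ∀ z, B z y = B₀ z y, m B ≤ 1 := by
    intro B₀ x y h1 h2
    by_contra hn
    have h4 := double_count (m := m) (by omega) (k := Fintype.card F ^ (2 * (finrank F Y - 2)) * 2)
      (a := Fintype.card F ^ finrank F Y - 1) (fun x' y' hi => le_trans (Nat.mul_le_mul_left _ (by omega))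
        ((h.shear_le (h.alt _ h1) h2).trans (h.transport h3 hi (indep_of_bilin B₀ (h.alt _ h1) (h2 ▸ one_ne_zero)))))
      fun B _ _ => by
        rw [← Module.card_eq_pow_finrank, ← card_univ, ← card_erase_of_mem (mem_univ 0)]
        exact card_le_card fun x hx => by
          simp only [mem_filter, mem_univ, true_and, mem_erase, and_true] at hx ⊢
          rintro rfl
          simp at hx
    obtain ⟨n, hn⟩ : ∃ n, finrank F Y = n + 2 := ⟨finrank F Y - 2, by omega⟩
    rw [hn] at h4 hs
    have h5 := Nat.one_lt_pow (n := n + 2) (by omega) hq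
    refine absurd (Nat.le_of_mul_le_mul_left (le_trans (le_of_eq ?_) h4) (by
      have : 0 < Fintype.card F ^ (n + 2) - 1 := by omega
      positivity)) (not_le.2 hs)
    rw [pow_succ' _ (n + 1), ← Nat.mul_sub_one]
    simp only [Nat.add_sub_cancel, show n + 2 - 1 = n + 1 from rfl]
    ring
  have k1 : ∀ B, B ≠ 0 → m B ≠ 0 → m B = 1 ∧ DecF B := fun B hB h1 => by
    obtain ⟨x, y, h2⟩ := exists_one_of_ne_zero hB
    have ha := h.alt _ h1
    have h4 := key B x y h1 h2
    have h5 : ∀ z w, B x z = 0 → B y z = 0 → B x w = 0 → B y w = 0 → B z w = 0 := fun z w z1 z2 w1 w2 => by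
      by_contra hne
      let g : End F Y := transvection (B.flip w) (((c - 1) / B z w) • z) * transvection (B z) (((c - 1) / B z w) • w)
      have hg : ∀ t, g t = t + (B z t * ((c - 1) / B z w)) • w + (B t w * ((c - 1) / B z w)) • z := fun t => by
        simp [g, transvection.apply, ha, smul_smul]
      have hd : LinearMap.det g = c * c := by
        simp only [g, map_mul, transvection.det, map_smul, flip_apply, smul_eq_mul]
        field_simp
        ring
      have hx : g x = x := by simp [hg, alt_swap ha x z, z1, w1]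
      have hy : g y = y := by simp [hg, alt_swap ha y z, z2, w2]
      have h6 : B.compl₁₂ g g ≠ B := fun e => by
        have := congrArg (fun Q : Y →ₗ[F] Y →ₗ[F] F => Q z w) e
        have gz : g z = c • z := by simp [hg, ha, mul_div_cancel₀ _ hne, sub_smul]
        have gw : g w = c • w := by simp [hg, ha, mul_div_cancel₀ _ hne, sub_smul]
        simp only [compl₁₂_apply, gz, gw, map_smul, LinearMap.smul_apply, smul_eq_mul] at this
        exact hc' (mul_right_cancel₀ hne (by linear_combination this))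
      have h7 := sum_le_sum_of_subset (f := m) (s := {B.compl₁₂ g g, B}) (t := univ.filter fun B' : Y →ₗ[F] Y →ₗ[F] F =>
        B' x = B x ∧ ∀ z, B' z y = B z y) (by
          intro B' hB'
          simp only [mem_insert, mem_singleton] at hB'
          rcases hB' with rfl | rfl
          · refine mem_filter.2 ⟨mem_univ _, LinearMap.ext fun t => ?_, fun t => ?_⟩
            · rw [compl₁₂_apply, hx]; simp [hg, z1, w1]
            · rw [compl₁₂_apply, hy]; simp [hg, alt_swap ha y w, alt_swap ha y z, z2, w2]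
          · simp)
      rw [sum_pair h6] at h7
      have := h.inv g c hc hd B
      omega
    have h6 : ∀ z w, B z w = B x z * B y w - B x w * B y z := fun z w => by
      have := h5 (z + B y z • x - B x z • y) (w + B y w • x - B x w • y) (by simp [ha, h2])
        (by simp [ha, alt_swap ha x y, h2]) (by simp [ha, h2]) (by simp [ha, alt_swap ha x y, h2])
      simp only [map_add, map_sub, map_smul, LinearMap.add_apply, LinearMap.sub_apply, LinearMap.smul_apply, smul_eq_mul, ha, h2, alt_swap ha x y,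
        alt_swap ha x z, alt_swap ha y z] at this
      linear_combination this
    refine ⟨?_, ha, fun a b z w => ?_⟩
    · have := single_le_sum (f := m) (s := univ.filter fun B' : Y →ₗ[F] Y →ₗ[F] F =>
        B' x = B x ∧ ∀ z, B' z y = B z y) (by simp) (a := B) (by simp)
      omega
    · rw [h6 a b, h6 z w, h6 a z, h6 b w, h6 a w, h6 b z]; ring
  split_ifs with hd
  · refine (k1 B hB fun e => ?_).1
    obtain ⟨x, y, h2⟩ := exists_one_of_ne_zero hB
    have hi := indep_of_bilin B hd.1 (h2 ▸ one_ne_zero)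
    obtain ⟨B₁, h4, h5⟩ := exists_ne_zero_of_sum_ne_zero ((pow_pos (by omega) _).trans_le (h.one_le h3 h0 h1 hi)).ne'
    replace h4 := (mem_filter.1 h4).2
    have ha := h.alt _ h5
    have hm : ∀ φ : Dual F Y, φ x = 0 → φ y = 0 → φ ∈ (Submodule.span F {x, y}).dualAnnihilator := fun φ h1 h2 =>
      (Submodule.mem_dualAnnihilator _).2 fun z hz => by
        obtain ⟨a, b, rfl⟩ := Submodule.mem_span_pair.1 hz
        simp [h1, h2]
    let g := shear x y (⟨B.flip y - B₁.flip y, hm _ (by simp [h2, h4]) (by simp [ha, hd.1])⟩,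
      ⟨B x - B₁ x, hm _ (by simp [ha, hd.1]) (by simp [h2, h4])⟩)
    have h6 := h.inv g 1 one_ne_zero (det_shear _ _ _) B₁
    have h7 : B₁.compl₁₂ (g : Y →ₗ[F] Y) (g : Y →ₗ[F] Y) x = B x := LinearMap.ext fun z => by
      simp only [compl₁₂_apply, LinearEquiv.coe_coe, g, shear_left]
      simp [shear_apply, ha, h4]
    rw [hd.ext (k1 _ (fun e' => by rw [e'] at h7; simp [← h7] at h2) (by omega)).2 h2 h7 fun z => by
      simp only [compl₁₂_apply, LinearEquiv.coe_coe, g, shear_right]
      simp [shear_apply, ha, h4]] at h6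
    omega
  · by_contra e
    exact hd (k1 B hB e).2

section ind
variable (h : AltW m) (h3 : 3 ≤ finrank F Y) (hm : ∀ B, B ≠ 0 → m B = if DecF B then 1 else 0)
  {B₀ : Y →ₗ[F] Y →ₗ[F] F} (h0 : B₀ ≠ 0) (h1 : m B₀ ≠ 0)
include h h3 hm h0 h1

theorem AltW.card_ge : (Fintype.card F ^ finrank F Y - 1) * (Fintype.card F ^ (finrank F Y - 1) - 1) ≤
    (Fintype.card F ^ 2 - 1) * ∑ B ∈ univ.erase 0, m B := by
  have h4 := double_count (m := m) (by omega) (fun x y hi => h.one_le h3 h0 h1 hi)
    (a := Fintype.card F ^ finrank F Y - Fintype.card F ^ (finrank F Y - 2)) fun B h1 h0 => by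
      have hd : DecF B := by
        by_contra e
        rw [hm B h0, if_neg e] at h1
        exact h1 rfl
      obtain ⟨x, y, h2⟩ := exists_one_of_ne_zero h0
      have h5 := ((B x).prod (B y)).finrank_range_add_finrank_ker
      have h6 := Submodule.finrank_le (range ((B x).prod (B y)))
      rw [finrank_prod, finrank_self] at h6
      have h7 : Fintype.card F ^ (finrank F Y - 2) ≤ #{z | ¬ B z ≠ 0} := by
        refine (Nat.pow_le_pow_right Fintype.card_pos (show _ ≤ finrank F (ker ((B x).prod (B y))) by omega)).trans ?_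
        rw [← Module.card_eq_pow_finrank, Fintype.card_subtype]
        refine card_le_card fun z hz => ?_
        simp only [mem_filter, mem_univ, true_and, mem_ker, LinearMap.prod_apply, Function.prod, Prod.mk_eq_zero, not_not] at hz ⊢
        ext w
        simpa [h2, hz.1, hz.2] using hd.2 x y z w
      have h8 := card_filter_add_card_filter_not (s := (univ : Finset Y)) fun z => B z ≠ 0
      rw [card_univ, Module.card_eq_pow_finrank (K := F)] at h8
      omega
  obtain ⟨n, hn⟩ : ∃ n, finrank F Y = n + 2 := ⟨finrank F Y - 2, by omega⟩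
  rw [hn] at h4 ⊢
  refine Nat.le_of_mul_le_mul_left (le_trans (le_of_eq ?_) (h4.trans (le_of_eq ?_)))
    (pow_pos (Fintype.card_pos (α := F)) (2 * n + 2))
  · rw [pow_succ' _ (n + 1), ← Nat.mul_sub_one]
    simp only [Nat.add_sub_cancel, show n + 2 - 1 = n + 1 from rfl]
    ring
  · rw [Nat.add_sub_cancel, pow_add _ n 2, ← Nat.mul_sub_one]
    ring

theorem AltW.fiber_eq {x y : Y} (hi : LinearIndependent F ![x, y]) {c : F} (hc : c ≠ 0) :
    ∑ B with B x y = c, m B = Fintype.card F ^ (2 * (finrank F Y - 2)) := by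
  have hi' : LinearIndependent F ![x, c⁻¹ • y] := by
    rw [LinearIndependent.pair_iff] at hi ⊢
    intro s t e
    rw [smul_smul] at e
    simpa [hc] using hi _ _ e
  rw [filter_congr (q := fun B => B x (c⁻¹ • y) = 1) fun B _ => by simp [inv_mul_eq_one₀ hc, eq_comm]]
  generalize c⁻¹ • y = y at hi'
  have h4 := h.one_le h3 h0 h1 hi'
  refine le_antisymm ?_ h4
  obtain ⟨B₁, h5, h6⟩ := exists_ne_zero_of_sum_ne_zero ((pow_pos Fintype.card_pos _).trans_le h4).ne'
  replace h5 := (mem_filter.1 h5).2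
  have ha := h.alt _ h6
  have : Finite (Dual F Y) := Module.finite_of_finite F
  have : Fintype (Dual F Y) := Fintype.ofFinite _
  have hc := card_ann hi'
  rw [Nat.card_eq_fintype_card, Fintype.card_subtype] at hc
  rw [sum_congr rfl fun B hB => hm B (by rintro rfl; simp at hB), ← sum_filter, ← card_eq_sum_ones, two_mul, pow_add,
    ← hc, ← card_product]
  have hm : ∀ φ : Dual F Y, φ x = 0 → φ y = 0 → φ ∈ (Submodule.span F {x, y}).dualAnnihilator := fun φ h1 h2 =>
    (Submodule.mem_dualAnnihilator _).2 fun z hz => by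
      obtain ⟨a, b, rfl⟩ := Submodule.mem_span_pair.1 hz
      simp [h1, h2]
  refine card_le_card_of_injOn (fun B => (B x - B₁ x, B.flip y - B₁.flip y)) (fun B hB => ?_) fun B hB B' hB' e => ?_
  · simp only [coe_filter, mem_filter, mem_univ, true_and, Set.mem_setOf_eq, coe_product, Set.mem_prod] at hB ⊢
    exact ⟨hm _ (by simp [ha, hB.2.1]) (by simp [h5, hB.1]), hm _ (by simp [h5, hB.1]) (by simp [ha, hB.2.1])⟩
  · simp only [coe_filter, mem_filter, mem_univ, true_and, Set.mem_setOf_eq, Prod.mk.injEq, sub_left_inj] at hB hB' e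
    exact hB'.2.ext hB.2 hB'.1 e.1 fun z => congrArg (fun f : Dual F Y => f z) e.2
end ind

end H24
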