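import Cfsg.Agent.H24.SLPerm
import Cfsg.Agent.H5.Central

/-! The minimal degree of a complex representation of `SL_n(q)` (`LinG.bnd_le`, `SL_min_degree`).
Tools: the dichotomy `LinG.core` (weight multiplicity at least two, or the degree divides
`N (q^k - 1) q^k`), `LinG.rep0` (the fixed space of the unipotent radical as a `GL`-module), `LinG.NT_rep0`,
the value on transvections `LinG.trace_isTv`. -/

set_option autoImplicit false
set_option linter.unusedSectionVars false

namespace H24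
open Matrix Module H25 H5 Cfsg

universe v

/-- `1 + q + ⋯ + q^(n-1)` -/
def geo (q n : ℕ) : ℕ := ∑ i ∈ Finset.range n, q ^ i

theorem geo_succ (q n : ℕ) : geo q (n + 1) = geo q n + q ^ n := Finset.sum_range_succ _ _

theorem geo_succ' (q n : ℕ) : geo q (n + 1) = q * geo q n + 1 := by
  simp [geo, Finset.sum_range_succ', Finset.mul_sum, pow_succ']

theorem geo_mul {q : ℕ} (hq : 1 ≤ q) (n : ℕ) : geo q n * (q - 1) = q ^ n - 1 := by
  exact geom_sum_mul_of_one_le hq n

theorem geo_eq_div {q : ℕ} (hq : 2 ≤ q) (n : ℕ) : geo q n = (q ^ n - 1) / (q - 1) := by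
  rw [← geo_mul (by omega), Nat.mul_div_cancel _ (by omega)]

theorem geo_sub_one_eq_div {q : ℕ} (hq : 2 ≤ q) {n : ℕ} (hn : 1 ≤ n) :
    geo q n - 1 = (q ^ n - q) / (q - 1) := by
  obtain ⟨k, rfl⟩ : ∃ k, n = k + 1 := ⟨n - 1, by omega⟩
  rw [geo_succ', Nat.add_sub_cancel, pow_succ', ← Nat.mul_sub_one, ← geo_mul (by omega), ← mul_assoc,
    Nat.mul_div_cancel _ (by omega)]

theorem geo_le {q : ℕ} (hq : 2 ≤ q) (n : ℕ) : geo q n ≤ q ^ n - 1 := by
  rw [← geo_mul (by omega)]
  exact Nat.le_mul_of_pos_right _ (by omega)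

theorem le_geo (q : ℕ) {n : ℕ} (hn : 2 ≤ n) : q + 1 ≤ geo q n := by
  obtain ⟨k, rfl⟩ : ∃ k, n = k + 2 := ⟨n - 2, by omega⟩
  rw [geo_succ', geo_succ']
  nlinarith [Nat.zero_le (q * (q * geo q k))]

theorem geo_sub_two_not_dvd {q k : ℕ} (hq : 2 ≤ q) (hk : 2 ≤ k) :
    ¬ geo q (k + 1) - 2 ∣ geo q (k + 1) * (q ^ k - 1) * q ^ k := by
  intro h
  have h1 := geo_succ q k
  have h2 := geo_succ' q k
  have h3 := le_geo q hk
  have hqk : 1 < q ^ k := Nat.one_lt_pow (by omega) hq
  obtain ⟨D, hD⟩ : ∃ D, geo q (k + 1) = D + 2 := ⟨geo q (k + 1) - 2, by omega⟩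
  rw [hD, Nat.add_sub_cancel] at h
  have hc : Nat.Coprime D q := by
    have : D + 1 = q * geo q k := by omega
    have h4 : Nat.Coprime D (D + 1) := by simp
    rw [this] at h4
    exact Nat.Coprime.coprime_mul_right_right h4
  have h5 : D ∣ (D + 2) * (q ^ k - 1) := (Nat.Coprime.pow_right k hc).dvd_of_dvd_mul_right h
  rw [add_mul] at h5
  have h6 : D ∣ 2 * (q ^ k - 1) := (Nat.dvd_add_right (dvd_mul_right _ _)).1 h5
  obtain ⟨m, hm⟩ := h6
  have hm1 : m = 1 := by
    rcases m with _ | _ | m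
    · omega
    · rfl
    · have : D * (m + 1 + 1) ≥ 2 * D := by nlinarith
      have h9 := geo_le hq k
      have h10 : q + 1 ≤ geo q k := h3
      omega
  subst hm1
  have h7 : q ∣ 2 * q ^ k := Dvd.dvd.mul_left (dvd_pow_self q (by omega)) 2
  have h8 : 2 * q ^ k = q * geo q k + 1 := by omega
  rw [h8] at h7
  have := Nat.le_of_dvd one_pos ((Nat.dvd_add_right (dvd_mul_right _ _)).1 h7)
  omega

variable {ι : Type*} [Fintype ι] [DecidableEq ι] {F : Type*} [Field F]

theorem comm_trivial_of_finrank_one {G K V : Type*} [Group G] [Field K] [AddCommGroup V] [Module K V]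
    (ρ : G →* End K V) {p : Submodule K V} (hp : finrank K p = 1) {g h : G}
    (hg : ∀ v ∈ p, ρ g v ∈ p) (hh : ∀ v ∈ p, ρ h v ∈ p) {v : V} (hv : v ∈ p) :
    ρ (g * h * g⁻¹ * h⁻¹) v = v := by
  obtain ⟨w, hw0, hw⟩ := finrank_eq_one_iff'.1 hp
  obtain ⟨a, ha⟩ := hw ⟨_, hg w w.2⟩
  obtain ⟨b, hb⟩ := hw ⟨_, hh w w.2⟩
  obtain ⟨c, hc⟩ := hw ⟨v, hv⟩
  have ha' : ρ g w = a • (w : V) := (congrArg Subtype.val ha).symm
  have hb' : ρ h w = b • (w : V) := (congrArg Subtype.val hb).symm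
  have hc' : v = c • (w : V) := (congrArg Subtype.val hc).symm
  have h1 : ρ (h * g) w = (a * b) • (w : V) := by
    rw [map_mul, End.mul_apply, ha', map_smul, hb', smul_smul]
  have h2 : ρ (g * h) w = (a * b) • (w : V) := by
    rw [map_mul, End.mul_apply, hb', map_smul, ha', smul_smul, mul_comm]
  have h3 : a * b ≠ 0 := fun e => hw0 (Subtype.ext (LinG.rep_injective ρ (h * g) (by
    rw [h1, e, zero_smul]; simp)))
  have h4 : ρ (g * h * g⁻¹ * h⁻¹) ((a * b) • (w : V)) = (a * b) • (w : V) := by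
    rw [← h1, ← End.mul_apply, ← map_mul, show g * h * g⁻¹ * h⁻¹ * (h * g) = g * h by group, h1, h2]
  rw [map_smul] at h4
  rw [hc', map_smul, smul_right_injective V h3 h4]

theorem exists_ne_zero_dot_three (h4 : 4 ≤ Fintype.card ι) (a b c : ι → F) :
    ∃ y, y ≠ 0 ∧ y ⬝ᵥ a = 0 ∧ y ⬝ᵥ b = 0 ∧ y ⬝ᵥ c = 0 := by
  let f : (ι → F) →ₗ[F] F × F × F := ((dotProductBilin F F).flip a).prod
    (((dotProductBilin F F).flip b).prod ((dotProductBilin F F).flip c))
  have h := LinearMap.ker_ne_bot_of_finrank_lt (f := f) (by simp; omega)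
  obtain ⟨y, hy, hy0⟩ := Submodule.exists_mem_ne_zero_of_ne_bot h
  exact ⟨y, hy0, congrArg Prod.fst hy, congrArg (fun z => z.2.1) hy, congrArg (fun z => z.2.2) hy⟩

theorem exists_pow_ne_one [Fintype F] {k : ℕ} (hk : k ≠ 0) (h : k + 1 < Fintype.card F) :
    ∃ c : Fˣ, c ^ k ≠ 1 := by
  classical
  exact exists_pow_ne_one_of_isCyclic hk (by rw [Nat.card_eq_fintype_card, Fintype.card_units]; omega)

theorem exists_cube_ne_one [Fintype F] (h2 : Fintype.card F ≠ 2) (h4 : Fintype.card F ≠ 4) :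
    ∃ c : Fˣ, c ^ 3 ≠ 1 := by
  have := Fintype.one_lt_card (α := F)
  by_cases h3 : Fintype.card F = 3
  · obtain ⟨c, hc⟩ := exists_pow_ne_one (F := F) (k := 1) one_ne_zero (by omega)
    refine ⟨c, fun e => hc ?_⟩
    have h1 : c ^ 2 = 1 := by
      classical
      have := pow_card_eq_one (x := c)
      rwa [Fintype.card_units, h3] at this
    rw [pow_succ, h1, one_mul] at e
    rw [e, one_pow]
  · exact exists_pow_ne_one (by omega) (by omega)

namespace LinG
variable {G : Type*} [Group G] (L : LinG G (Unit ⊕ ι) F)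

/-- `t` is a commutator of two elements stabilising the weight `y` -/
def Star (t : G) (y : ι → F) : Prop :=
  ∃ g h : G, (∃ c γ, L.r g = blk c γ ∧ ((c⁻¹ : Fˣ) : F) • ((γ : Matrix ι ι F) *ᵥ y) = y) ∧
    (∃ c γ, L.r h = blk c γ ∧ ((c⁻¹ : Fˣ) : F) • ((γ : Matrix ι ι F) *ᵥ y) = y) ∧
    t = g * h * g⁻¹ * h⁻¹

/-- transvections in the Levi factor -/
noncomputable def tvL (u φ : ι → F) : G := L.s (emb (SpecialLinearGroup.toGL (tv u φ)))

theorem r_tvL (u φ : ι → F) : L.r (L.tvL u φ) = blk 1 (SpecialLinearGroup.toGL (tv u φ)) := by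
  rw [tvL, L.rs, toGL_emb_SL]

theorem tvL_fix {u φ y : ι → F} (h : φ ⬝ᵥ u = 0) (hy : φ ⬝ᵥ y = 0) :
    ∃ c γ, L.r (L.tvL u φ) = blk c γ ∧ ((c⁻¹ : Fˣ) : F) • ((γ : Matrix ι ι F) *ᵥ y) = y :=
  ⟨1, _, L.r_tvL u φ, by simp [coe_toGL', tv_mulVec h, hy]⟩

theorem star_of_torus {u φ y : ι → F} (h : φ ⬝ᵥ u = 0) (hy : φ ⬝ᵥ y = 0) {g : G} {c : Fˣ} {γ : GL ι F}
    (hg : L.r g = blk c γ) (h1 : (γ : Matrix ι ι F) *ᵥ y = (c : F) • y) {a b : F}
    (h2 : (γ : Matrix ι ι F) *ᵥ u = a • u) (h3 : φ ᵥ* (γ : Matrix ι ι F) = b • φ) (hb : b ≠ 0)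
    (hab : a ≠ b) : L.Star (L.tvL u φ) y := by
  have hab' : a * b⁻¹ - 1 ≠ 0 := fun e => hab (by field_simp at e; linear_combination e)
  let s := (a * b⁻¹ - 1)⁻¹
  have hs : φ ⬝ᵥ (s • u) = 0 := by simp [h]
  refine ⟨g, L.tvL (s • u) φ, ⟨c, γ, hg, by simp [h1, smul_smul]⟩, L.tvL_fix hs hy, ?_⟩
  apply L.inj
  simp only [map_mul, map_inv, hg, r_tvL, blk_inv, ← blk_mul]
  congr 1
  · simp
  · have e1 : γ * SpecialLinearGroup.toGL (tv (s • u) φ) * γ⁻¹ =
        SpecialLinearGroup.toGL (tv ((s * (a * b⁻¹)) • u) φ) := by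
      apply Units.ext
      have h4 : φ ᵥ* ((γ⁻¹ : GL ι F) : Matrix ι ι F) = b⁻¹ • φ :=
        vecMul_inv_eq (by rw [smul_vecMul, h3, smul_smul, inv_mul_cancel₀ hb, one_smul])
      have := GL_conj_tv γ hs
      rw [h4, mulVec_smul, h2, ← tv_smul _ (by simp [h]), smul_smul, smul_smul] at this
      rw [coe_toGL', show s * (a * b⁻¹) = b⁻¹ * s * a by ring, this]
      rfl
    rw [e1, ← map_inv, ← map_mul, tv_inv hs, ← neg_one_smul F φ, ← tv_smul _ hs,
      tv_mul_tv_right (by simp [h]) (by simp [h]), smul_smul, ← add_smul]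
    congr 2
    rw [show s * (a * b⁻¹) + -1 * s = s * (a * b⁻¹ - 1) by ring, inv_mul_cancel₀ hab', one_smul]

theorem star_of_comm {u φ y z θ : ι → F} (h : φ ⬝ᵥ u = 0) (hy : φ ⬝ᵥ y = 0) (hz : φ ⬝ᵥ z = 1)
    (hθ : θ ≠ 0) (h1 : θ ⬝ᵥ u = 0) (h2 : θ ⬝ᵥ y = 0) (h3 : θ ⬝ᵥ z = 0) : L.Star (L.tvL u φ) y := by
  have hφ : φ ≠ 0 := fun e => by simp [e] at hz
  obtain ⟨w, hw, hw'⟩ := exists_dot_zero_one (φ := φ) (ψ := θ) hφ fun c e => by
    rw [e, smul_dotProduct, hz, smul_eq_mul, mul_one] at h3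
    exact hθ (by rw [e, h3, zero_smul])
  refine ⟨L.tvL u θ, L.tvL w φ, L.tvL_fix h1 h2, L.tvL_fix hw hy, ?_⟩
  simp only [tvL, ← map_inv, ← map_mul]
  congr 3
  have e : φ ᵥ* (((tv u θ)⁻¹ : SpecialLinearGroup ι F) : Matrix ι ι F) = φ := by
    rw [tv_inv h1, coe_tv (by simp [h1]), vecMul_add, vecMul_one, vecMul_vecMulVec, h]; simp
  rw [H25.conj_tv _ hw, e, tv_mulVec h1, hw', one_smul, tv_inv hw, ← neg_one_smul F φ, ← tv_smul _ hw,
    tv_mul_tv_right (by simp [h, hw]) (by simp [hw])]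
  congr 1
  simp

/-- the hypothesis under which the transvections of the Levi factor act trivially on fixed weights -/
def Good [Fintype F] (L : LinG G (Unit ⊕ ι) F) : Prop :=
  (Function.Surjective L.r ∧ 2 < Fintype.card F) ∨ 4 ≤ Fintype.card ι ∨
    (Fintype.card ι = 3 ∧ 3 < Fintype.card F) ∨
    (Fintype.card ι = 2 ∧ Fintype.card F ≠ 2 ∧ Fintype.card F ≠ 4)

theorem star [Fintype F] (hL : L.Good) {i j : ι} (hij : i ≠ j) {y : ι → F} (hy0 : y ≠ 0) (hy : y j = 0) :
    L.Star (L.tvL (Pi.single i 1) (Pi.single j 1)) y := by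
  have h : (Pi.single j 1 : ι → F) ⬝ᵥ Pi.single i 1 = 0 := by simp [hij.symm]
  have hy' : (Pi.single j 1 : ι → F) ⬝ᵥ y = 0 := by simp [hy]
  have hz : (Pi.single j 1 : ι → F) ⬝ᵥ Pi.single j 1 = 1 := by simp
  have hu : (Pi.single i 1 : ι → F) ≠ 0 := by simp
  have hB : ∀ (c : Fˣ) (x θ : ι → F) (hθ : θ ⬝ᵥ x = 1) (a : F), x j = 0 →
      (dil x θ hθ c : Matrix ι ι F) *ᵥ y = (c : F) • y →
      (dil x θ hθ c : Matrix ι ι F) *ᵥ Pi.single i 1 = a • Pi.single i 1 → a * c ^ 2 ≠ 1 →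
      L.Star (L.tvL (Pi.single i 1) (Pi.single j 1)) y := by
    intro c x θ hθ a hx h1 h2 ha
    let γ := dil x θ hθ c * dil _ _ hz (c ^ 2)⁻¹
    have hdet : (GeneralLinearGroup.det γ)⁻¹ = c := by
      rw [inv_eq_iff_mul_eq_one]
      apply Units.ext
      simp only [γ, Units.val_mul, GeneralLinearGroup.val_det_apply, det_mul, det_dil]
      simp; field_simp
    refine L.star_of_torus h hy' (g := L.s (emb γ)) (c := c) (γ := γ) (a := a)
      (b := (((c ^ 2)⁻¹ : Fˣ) : F)) (by rw [L.rs, toGL_emb, hdet]) ?_ ?_ ?_ (Units.ne_zero _) ?_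
    · rw [Units.val_mul, ← mulVec_mulVec, dil_mulVec _ _ hz, hy']; simpa using h1
    · rw [Units.val_mul, ← mulVec_mulVec, dil_mulVec _ _ hz, h]; simpa using h2
    · rw [Units.val_mul, ← vecMul_vecMul, vecMul_dil x]
      simp only [single_dotProduct, one_mul, hx, zero_mul, zero_smul, add_zero]
      rw [vecMul_dil, hz, one_mul, sub_smul, one_smul, add_sub_cancel]
    · intro e
      apply ha
      rw [e]; simp
  rcases hL with ⟨hs, hq⟩ | h4 | hL
  · obtain ⟨d, hd⟩ := exists_pow_ne_one (F := F) (k := 1) one_ne_zero hq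
    obtain ⟨g, hg⟩ := hs (blk 1 (dil _ _ hz d))
    refine L.star_of_torus h hy' hg (a := 1) (b := d) ?_ ?_ ?_ d.ne_zero fun e => hd ?_
    · rw [dil_mulVec, hy']; simp
    · rw [dil_mulVec, h]; simp
    · rw [vecMul_dil, hz, one_mul, sub_smul, one_smul, add_sub_cancel]
    · rw [pow_one]; exact Units.ext e.symm
  · obtain ⟨θ, hθ, h1, h2, h3⟩ := exists_ne_zero_dot_three h4 (Pi.single i 1) y (Pi.single j 1)
    exact L.star_of_comm h hy' hz hθ h1 h2 h3
  by_cases hyu : ∃ c : F, y = c • Pi.single i 1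
  · obtain ⟨l, hl⟩ := hyu
    rcases hL with ⟨h3, -⟩ | ⟨-, h2, h4⟩
    · obtain ⟨θ, hθ, h1, h2⟩ := exists_ne_zero_dot_two h3.ge (Pi.single i (1 : F)) (Pi.single j 1)
      rw [dotProduct_comm] at h1 h2
      exact L.star_of_comm h hy' hz hθ h1 (by rw [hl, dotProduct_smul, h1, smul_zero]) h2
    · obtain ⟨c, hc⟩ := exists_cube_ne_one h2 h4
      have e : (dil (Pi.single i 1) (Pi.single i 1) (by simp) c : Matrix ι ι F) *ᵥ Pi.single i 1 =
          (c : F) • Pi.single i 1 := by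
        rw [dil_mulVec]; simp [sub_smul]
      refine hB c (Pi.single i 1) (Pi.single i 1) (by simp) c (by simp [hij.symm])
        (by rw [hl, mulVec_smul, e, smul_comm]) e fun e => hc (Units.ext ?_)
      rw [Units.val_pow_eq_pow_val, pow_succ', e, Units.val_one]
  · push Not at hyu
    rcases hL with ⟨-, h3⟩ | ⟨h2, -⟩
    · obtain ⟨c, hc⟩ := exists_pow_ne_one (F := F) (k := 2) two_ne_zero h3
      obtain ⟨θ, h1, h2⟩ := exists_dot_zero_one hu hyu
      rw [dotProduct_comm] at h1 h2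
      refine hB c y θ h2 1 hy ?_ ?_ fun e => hc (Units.ext (by simpa using e))
      · rw [dil_mulVec, h2]; simp [sub_smul]
      · rw [dil_mulVec, h1]; simp
    · exfalso
      refine hyu (y i) (funext fun k => ?_)
      by_cases hk : k = i
      · simp [hk]
      · have : k = j := by
          by_contra hkj
          have := Fintype.two_lt_card_iff.2 ⟨i, j, k, hij, Ne.symm hk, Ne.symm hkj⟩
          omega
        simp [this, hy, hij.symm]

variable {V : Type*} [AddCommGroup V] [Module ℂ V] [FiniteDimensional ℂ V] (ρ : Representation ℂ G V)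
variable {ψ : AddChar F ℂ} (hψ : ψ ≠ 1) [Fintype F]

/-- the fixed space of the unipotent radical as a module for the Levi factor -/
noncomputable def rep0 : Representation ℂ (GL ι F) (L.W ρ hψ 0) :=
  Representation.subrepresentation (ρ.comp (L.s.comp emb)) (L.W ρ hψ 0) fun g v hv => by
    have := L.maps_emb ρ hψ g hv
    rwa [mulVec_zero, smul_zero] at this

theorem rep0_apply (g : GL ι F) (v : L.W ρ hψ 0) : (L.rep0 ρ hψ g v : V) = ρ (L.s (emb g)) v := rfl

theorem trace_qS (h2 : 2 ≤ Fintype.card ι ∨ Function.Surjective L.r) {a y : ι → F} (ha : a ≠ 0)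
    (hy : y ≠ 0) : ρ.character (L.s (qS a)) =
      finrank ℂ (L.W ρ hψ 0) - finrank ℂ (L.W ρ hψ y) := by
  classical
  have h := (L.act ρ).trace_π (dotPairing hψ ι) (card_fun_ne_zero card_field_ne_zero) a
  rw [← Finset.add_sum_erase _ _ (Finset.mem_univ 0), Pairing.zero_right, one_mul,
    Finset.sum_congr rfl (fun b hb => by
      rw [L.finrank_W_eq ρ hψ h2 (Finset.ne_of_mem_erase hb) hy]), ← Finset.sum_mul,
    Finset.sum_erase_eq_sub (Finset.mem_univ _), Pairing.sum_right, if_neg ha, Pairing.zero_right] at h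
  rw [Representation.character, ← act_π, h]
  ring

theorem trace_isTv (h2 : 2 ≤ Fintype.card ι) {t : G} (ht : L.IsTv t) {y : ι → F} (hy : y ≠ 0) :
    ρ.character t = finrank ℂ V - Fintype.card F ^ Fintype.card ι * finrank ℂ (L.W ρ hψ y) := by
  obtain ⟨g, rfl⟩ := (L.isTv_qS hy).isConj (Or.inl (by simp; omega)) ht
  rw [Representation.char_conj, L.trace_qS ρ hψ (Or.inl h2) hy hy,
    L.finrank_eq ρ hψ card_field_ne_zero (Or.inl h2) hy]
  push_cast [Nat.one_le_pow _ _ Fintype.card_pos]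
  ring

theorem NT_rep0 (h2 : 2 ≤ Fintype.card ι) (hL : L.Good) {y : ι → F} (hy : y ≠ 0)
    (hm : finrank ℂ (L.W ρ hψ y) = 1) : (ofGL ι F).NT (L.rep0 ρ hψ) := by
  classical
  by_contra hc
  obtain ⟨i, j, hij⟩ := Fintype.exists_pair_of_one_lt_card (α := ι) h2
  have h : (Pi.single j 1 : ι → F) ⬝ᵥ Pi.single i 1 = 0 := by simp [hij.symm]
  have hA := card_fun_ne_zero (ι := ι) (card_field_ne_zero (F := F))
  let t := L.tvL (Pi.single i 1) (Pi.single j 1)
  have ht : L.IsTv t := L.isTv_emb (by simp) (by simp) h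
  have h1 := L.trace_isTv ρ hψ h2 ht hy
  have h3 := (L.act ρ).trace_eq_sum_fixed (dotPairing hψ ι) hA (g := ρ t)
    (fun b => b + b j • Pi.single i 1) fun b v hv => by
      simpa [coe_toGL', tv_mulVec h] using L.maps ρ hψ (L.r_tvL (Pi.single i 1) (Pi.single j 1)) hv
  have h4 : ∀ b : ι → F, b j = 0 → LinearMap.trace ℂ V (ρ t * (L.act ρ).P (dotPairing hψ ι) b) =
      finrank ℂ (L.W ρ hψ b) := by
    intro b hb
    rw [(L.act ρ).trace_mul_P_of_smul _ hA (s := 1), one_mul]
    intro v hv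
    rw [one_smul]
    by_cases hb0 : b = 0
    · subst hb0
      have := not_not.1 fun e => hc ⟨tv (Pi.single i 1) (Pi.single j 1), e⟩
      exact congrArg Subtype.val (LinearMap.congr_fun this ⟨v, hv⟩)
    · obtain ⟨g, k, ⟨c, γ, hg, hg'⟩, ⟨c', γ', hk, hk'⟩, e⟩ := L.star hL hij hb0 hb
      change ρ (L.tvL _ _) v = v
      rw [e]
      refine comm_trivial_of_finrank_one ρ ((L.finrank_W_eq ρ hψ (Or.inl h2) hb0 hy).trans hm)
        (fun w hw => ?_) (fun w hw => ?_) hv
      · simpa only [hg'] using L.maps ρ hψ hg hw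
      · simpa only [hk'] using L.maps ρ hψ hk hw
  have h5 : (Finset.univ.filter fun b : ι → F => b + b j • Pi.single i 1 = b) =
      Finset.univ.filter fun b : ι → F => b ⬝ᵥ Pi.single j 1 = 0 := by
    ext b; simp
  have h7 : (Finset.univ.filter fun b : ι → F => b ⬝ᵥ Pi.single j 1 = 0).card =
      Fintype.card F ^ (Fintype.card ι - 1) := by
    convert card_dot_eq_zero (ι := ι) (F := F) (v := Pi.single j 1) (by simp)
  rw [h5, Finset.sum_congr rfl (fun b hb => h4 b (by simpa using hb)),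
    ← Finset.add_sum_erase _ _ (a := 0) (by simp), Finset.sum_congr rfl (fun b hb => by
      rw [(L.finrank_W_eq ρ hψ (Or.inl h2) (Finset.ne_of_mem_erase hb) hy).trans hm]),
    Finset.sum_const, Finset.card_erase_of_mem (by simp), h7] at h3
  rw [Representation.character, h3, L.finrank_eq ρ hψ card_field_ne_zero (Or.inl h2) hy, hm] at h1
  push_cast [Nat.one_le_pow _ _ Fintype.card_pos] at h1
  simp only [nsmul_eq_mul, Nat.cast_sub (Nat.one_le_pow _ _ (Fintype.card_pos (α := F)))] at h1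
  have h6 : ((Fintype.card F ^ (Fintype.card ι - 1) : ℕ) : ℂ) = 0 := by
    push_cast at h1 ⊢
    linear_combination h1
  exact (pow_pos Fintype.card_pos _).ne' (Nat.cast_eq_zero.1 h6)

theorem finrank_dvd [ρ.IsIrreducible] (h2 : 2 ≤ Fintype.card ι) {y : ι → F} (hy : y ≠ 0)
    (hm : finrank ℂ (L.W ρ hψ y) = 1) :
    finrank ℂ V ∣ geo (Fintype.card F) (Fintype.card ι + 1) * (Fintype.card F ^ Fintype.card ι - 1) *
      Fintype.card F ^ Fintype.card ι := by
  classical
  have := L.finite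
  have := Fintype.ofFinite G
  have hT := L.card_isTv
  have hq : 2 ≤ Fintype.card F := Fintype.one_lt_card
  simp only [Fintype.card_sum, Fintype.card_unique, add_comm 1, Nat.add_sub_cancel] at hT
  rw [← geo_mul (by omega), mul_right_comm] at hT
  have hT' := Nat.eq_of_mul_eq_mul_right (by omega) hT
  have h1 := (isIrrCharacter_character ρ).isIntegral_sum_div (φ := fun g => if L.IsTv g then 1 else 0)
    (fun g h => by simp only [L.isTv_conj_iff]) fun g => by
      split_ifs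
      · exact isIntegral_one
      · exact isIntegral_zero
  simp only [ite_mul, one_mul, zero_mul, ← Finset.sum_filter] at h1
  rw [Finset.sum_congr rfl (fun g hg => L.trace_isTv ρ hψ h2 (Finset.mem_filter.1 hg).2 hy),
    Finset.sum_const, hm, Representation.char_one] at h1
  have hD := finrank_pos_of_isIrreducible ρ
  have h3 := int_dvd_of_isIntegral_div (a := (Finset.univ.filter L.IsTv).card *
    (finrank ℂ V - Fintype.card F ^ Fintype.card ι)) (b := finrank ℂ V) (by omega)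
    (by simpa using h1)
  rw [mul_sub, dvd_sub_right (dvd_mul_left _ _)] at h3
  rw [← hT']
  exact_mod_cast h3

include hψ in
theorem core [ρ.IsIrreducible] (h2 : 2 ≤ Fintype.card ι) (hN : L.NT ρ) :
    2 * (Fintype.card F ^ Fintype.card ι - 1) ≤ finrank ℂ V ∨
      (finrank ℂ V ∣ geo (Fintype.card F) (Fintype.card ι + 1) *
        (Fintype.card F ^ Fintype.card ι - 1) * Fintype.card F ^ Fintype.card ι ∧
      finrank ℂ V = finrank ℂ (L.W ρ hψ 0) + (Fintype.card F ^ Fintype.card ι - 1) ∧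
      (L.Good → (ofGL ι F).NT (L.rep0 ρ hψ))) := by
  have : Nonempty ι := Fintype.card_pos_iff.1 (by omega)
  have hy : (fun _ => 1 : ι → F) ≠ 0 := fun e => one_ne_zero (congrFun e (Classical.arbitrary ι))
  have h1 := L.finrank_eq ρ hψ card_field_ne_zero (Or.inl h2) hy
  have h3 := L.one_le_finrank_W ρ hψ card_field_ne_zero (Or.inl h2) hN hy
  rcases h3.eq_or_lt with h3 | h3
  · exact Or.inr ⟨L.finrank_dvd ρ hψ h2 hy h3.symm, by rw [h1, ← h3, mul_one],
      fun hL => L.NT_rep0 ρ hψ h2 hL hy h3.symm⟩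
  · left; nlinarith

end LinG

theorem exists_eq_qS_mul_emb (g : SpecialLinearGroup (Unit ⊕ ι) F)
    (hg : g.1 *ᵥ Pi.single (Sum.inl ()) 1 = Pi.single (Sum.inl ()) 1) :
    ∃ (a : ι → F) (x : SpecialLinearGroup ι F), g = emb (SpecialLinearGroup.toGL x) * qS a := by
  rw [mulVec_single_one] at hg
  have h11 : g.1.toBlocks₁₁ = 1 := by
    ext i j; simpa [toBlocks₁₁, one_apply] using congrFun hg (Sum.inl ())
  have h21 : g.1.toBlocks₂₁ = 0 := by
    ext i j; simpa [toBlocks₂₁] using congrFun hg (Sum.inr i)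
  have e := fromBlocks_toBlocks g.1
  rw [h11, h21] at e
  have hd := g.2
  rw [← e, det_fromBlocks_zero₂₁, det_one, one_mul] at hd
  obtain ⟨x, hx⟩ : ∃ x : SpecialLinearGroup ι F, x.1 = g.1.toBlocks₂₂ := ⟨⟨_, hd⟩, rfl⟩
  refine ⟨fun j => g.1 (Sum.inl ()) (Sum.inr j), x, toGL_inj ?_⟩
  rw [map_mul, toGL_emb_SL]
  apply Units.ext
  rw [Units.val_mul, coe_blk, coe_toGL', coe_toGL', coe_toGL', coe_qS, fromBlocks_multiply]
  change g.1 = fromBlocks _ _ _ (_ + x.1 * _)
  rw [hx]
  conv_lhs => rw [← e]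
  simp
  ext i j
  simp [toBlocks₁₂]

/-- an irreducible module with a vector fixed by the stabiliser of a vector is one of the Weil modules -/
theorem LinG.finrank_of_fixed [Fintype F] {G : Type*} [Group G] (L : LinG G (Unit ⊕ ι) F)
    (hs : Function.Surjective L.s) (h2 : 2 ≤ Fintype.card ι) {V : Type*} [AddCommGroup V] [Module ℂ V]
    [FiniteDimensional ℂ V] (ρ : Representation ℂ G V) [ρ.IsIrreducible] {v : V} (hv : v ≠ 0)
    (h1 : ∀ a, ρ (L.s (qS a)) v = v)
    (h3 : ∀ x : SpecialLinearGroup ι F, ρ (L.s (emb (SpecialLinearGroup.toGL x))) v = v) :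
    finrank ℂ V = 1 ∨ geo (Fintype.card F) (Fintype.card ι + 1) - 1 ≤ finrank ℂ V := by
  classical
  have := Fintype.ofFinite (Fˣ →* ℂˣ)
  obtain ⟨χ, hχ, -, hsum, hd1, hd⟩ := exists_SL_weil (ι := Unit ⊕ ι) (F := F) (by simp; omega)
  let σ : Representation ℂ (SpecialLinearGroup (Unit ⊕ ι) F) V := ρ.comp L.s
  have hσ : σ.IsIrreducible := isIrreducible_comp_of_surjective ρ L.s hs
  let e : NZ (Unit ⊕ ι) F := ⟨Pi.single (Sum.inl ()) 1, by simp⟩
  have := isPretransitive_NZ (ι := Unit ⊕ ι) (F := F) (by simp; omega)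
  have hp := fixedBy_eq_indFun_one (G := SpecialLinearGroup (Unit ⊕ ι) F) (NZ (Unit ⊕ ι) F) e
  have hne : classInner σ.character ((fun _ => 1) + ∑ θ, χ θ) ≠ 0 := by
    have : ((fun _ => 1) + ∑ θ, χ θ) = indFun (MulAction.stabilizer _ e) (fun _ => 1) := by
      rw [← hp]; ext g; rw [hsum]; simp
    rw [this, frobenius_reciprocity' _ _ (isCharacter_character σ).isClassFunction]
    have h4 := classInner_character_one (σ.comp (MulAction.stabilizer _ e).subtype :
      Representation ℂ (MulAction.stabilizer (SpecialLinearGroup (Unit ⊕ ι) F) e) V)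
    change classInner (Representation.character (σ.comp (MulAction.stabilizer _ e).subtype)) _ ≠ 0
    rw [h4, Nat.cast_ne_zero]
    intro h0
    rw [Submodule.finrank_eq_zero] at h0
    apply hv
    rw [← Submodule.mem_bot ℂ, ← h0]
    rintro ⟨g, hg⟩
    obtain ⟨a, x, rfl⟩ := exists_eq_qS_mul_emb g (congrArg Subtype.val hg)
    change ρ (L.s (_ * _)) v = v
    rw [map_mul, map_mul, End.mul_apply, h1, h3]
  rw [classInner_add_right, classInner_sum_right] at hne
  have hirr := isIrrCharacter_character σ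
  have hq : 2 ≤ Fintype.card F := Fintype.one_lt_card
  have hg : ((Fintype.card F : ℂ) - 1) * geo (Fintype.card F) (Fintype.card ι + 1) =
      Fintype.card F ^ Fintype.card (Unit ⊕ ι) - 1 := by
    have := congrArg (Nat.cast : ℕ → ℂ) (geo_mul (q := Fintype.card F) (by omega) (Fintype.card ι + 1))
    push_cast [show 1 ≤ Fintype.card F by omega, Nat.one_le_pow _ _ (Fintype.card_pos (α := F))] at this
    rw [mul_comm, this]
    simp [add_comm]
  by_cases h5 : classInner σ.character (fun _ => 1) = 0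
  · right
    rw [h5, zero_add] at hne
    obtain ⟨θ, -, hθ⟩ := Finset.exists_ne_zero_of_sum_ne_zero hne
    have h6 := congrFun (hirr.eq_of_classInner_ne_zero (hχ θ) hθ) 1
    rw [Representation.char_one] at h6
    by_cases h7 : θ = 1
    · rw [← h7, ← h6, ← hg, mul_right_inj' card_sub_one_ne_zero] at hd1
      have : finrank ℂ V + 1 = geo (Fintype.card F) (Fintype.card ι + 1) := by exact_mod_cast hd1
      omega
    · have h8 := hd θ h7
      rw [← h6, ← hg, mul_right_inj' card_sub_one_ne_zero] at h8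
      have : finrank ℂ V = geo (Fintype.card F) (Fintype.card ι + 1) := by exact_mod_cast h8
      omega
  · left
    have h6 := congrFun (hirr.eq_of_classInner_ne_zero isIrrCharacter_one h5) 1
    rw [Representation.char_one] at h6
    exact_mod_cast h6

/-- the inductive bound -/
def bnd (q n : ℕ) : ℕ :=
  if n = 2 then q - 1 else if q = 2 ∧ n = 3 then 3 else if q = 2 ∧ n = 4 then 7
  else if q = 4 ∧ n = 3 then 18 else geo q n - 1

theorem LinG.exists_irr_NT {G : Type*} [Group G] [Finite G] (L : LinG G ι F) {V : Type*} [AddCommGroup V]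
    [Module ℂ V] [FiniteDimensional ℂ V] (ρ : Representation ℂ G V) (hN : L.NT ρ) :
    ∃ U : Subrepresentation ρ, U.toRepresentation.IsIrreducible ∧ L.NT U.toRepresentation := by
  have := Fintype.ofFinite G
  obtain ⟨x, hx⟩ := hN
  obtain ⟨U, hU, hU'⟩ := exists_irr_ne_one ρ hx
  exact ⟨U, hU, x, hU'⟩

theorem LinG.trivial_bound [Fintype F] {G : Type*} [Group G] (L : LinG G ι F) {k : ℕ}
    (hk : Fintype.card ι = k + 1) (h2 : 2 ≤ k ∨ (1 ≤ k ∧ Function.Surjective L.r)) {V : Type*}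
    [AddCommGroup V] [Module ℂ V] [FiniteDimensional ℂ V] (ρ : Representation ℂ G V) (hN : L.NT ρ) :
    Fintype.card F ^ k - 1 ≤ finrank ℂ V := by
  obtain ⟨ψ, hψ⟩ := exists_addChar_complex F
  have : Nonempty (Fin k) := ⟨⟨0, by omega⟩⟩
  simpa using (L.reindex (finSplit k hk)).card_sub_one_le ρ hψ card_field_ne_zero
    (h2.imp (by simp) fun h => L.reindex_surj _ h.2) ((L.reindex_NT _).2 hN)

theorem surj_s_of_card_two [Fintype F] (hq : Fintype.card F = 2) {G : Type*} [Group G] (L : LinG G ι F) :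
    Function.Surjective L.s := by
  classical
  intro g
  have : Subsingleton Fˣ := by
    rw [← Fintype.card_le_one_iff_subsingleton, Fintype.card_units, hq]
  have hd : ((L.r g : GL ι F) : Matrix ι ι F).det = 1 :=
    congrArg Units.val (Subsingleton.elim (GeneralLinearGroup.det (L.r g)) 1)
  exact ⟨⟨_, hd⟩, L.inj ((L.rs _).trans (Units.ext rfl))⟩

theorem exists_fixed_GL4 [Fintype F] (c4 : Fintype.card F = 2) (V : Type*) [AddCommGroup V] [Module ℂ V]
    [FiniteDimensional ℂ V] (ρ : Representation ℂ (GL (Fin 4) F) V) (hV : finrank ℂ V = 9)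
    (hN : (LinG.ofGL (Fin 4) F).NT ρ) :
    ∃ w : V, w ≠ 0 ∧ ∀ x : SpecialLinearGroup (Fin 4) F, ρ (SpecialLinearGroup.toGL x) w = w := by
  obtain ⟨ψ, hψ⟩ := exists_addChar_complex F
  have := (LinG.ofGL (Fin 4) F).finite
  obtain ⟨X, hX, hXN⟩ := (LinG.ofGL (Fin 4) F).exists_irr_NT _ hN
  obtain ⟨Y, hY⟩ := H5.exists_compl X
  have h8 := Submodule.finrank_add_eq_of_isCompl hY
  have h9 := (LinG.ofGL (Fin 4) F).trivial_bound (k := 3) (by simp) (Or.inl (by omega)) _ hXN
  rw [c4] at h9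
  have h10 : finrank ℂ X.toSubmodule ≠ 9 := by
    intro e
    rcases ((LinG.ofGL (Fin 4) F).reindex (finSplit 3 (by simp))).core X.toRepresentation hψ (by simp)
      ((LinG.reindex_NT _ _).2 hXN) with h | ⟨h, -⟩
    · simp only [Fintype.card_fin, c4, e] at h
      omega
    · simp only [Fintype.card_fin, c4, e] at h
      revert h; decide
  have h11 : ¬ (LinG.ofGL (Fin 4) F).NT Y.toRepresentation := fun h => by
    have := (LinG.ofGL (Fin 4) F).trivial_bound (k := 3) (by simp) (Or.inl (by omega)) _ h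
    rw [c4] at this
    omega
  obtain ⟨w, hw, hw0⟩ := Submodule.exists_mem_ne_zero_of_ne_bot (p := Y.toSubmodule) fun e => by
    rw [e, finrank_bot] at h8
    omega
  refine ⟨w, hw0, fun x => ?_⟩
  have := not_not.1 fun e => h11 ⟨x, e⟩
  exact congrArg Subtype.val (LinearMap.congr_fun this ⟨w, hw⟩)

theorem bnd_step [Fintype F] {k : ℕ} (hk2 : 2 ≤ k)
    (ih : ∀ (V : Type v) [AddCommGroup V] [Module ℂ V] [FiniteDimensional ℂ V]
      (ρ : Representation ℂ (GL (Fin k) F) V), (LinG.ofGL (Fin k) F).NT ρ →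
      bnd (Fintype.card F) k ≤ finrank ℂ V)
    {G : Type*} [Group G] (L : LinG G ι F) (hk : Fintype.card ι = k + 1)
    (hL : Function.Surjective L.r ∨ ((k, Fintype.card F) ≠ (2, 4) ∧ (k, Fintype.card F) ≠ (3, 3)))
    (V : Type v) [AddCommGroup V] [Module ℂ V] [FiniteDimensional ℂ V]
    (ρ : Representation ℂ G V) (hN : L.NT ρ) : bnd (Fintype.card F) (k + 1) ≤ finrank ℂ V := by
  have := L.finite
  obtain ⟨U, hU, hN⟩ := L.exists_irr_NT ρ hN
  refine le_trans ?_ U.toSubmodule.finrank_le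
  have htriv := L.trivial_bound hk (Or.inl hk2) _ hN
  obtain ⟨ψ, hψ⟩ := exists_addChar_complex F
  set q := Fintype.card F with hq
  have hq2 : 2 ≤ q := Fintype.one_lt_card
  by_cases hs : q = 2 ∧ k ≤ 3
  · obtain ⟨h1, h2⟩ := hs
    rw [h1] at htriv ⊢
    interval_cases k <;> simpa [bnd] using htriv
  let L' := L.reindex (finSplit k hk)
  have hG : L'.Good := by
    simp only [LinG.Good, Fintype.card_fin, ← hq]
    simp only [ne_eq, Prod.mk.injEq] at hL
    rcases hL with hL | hL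
    · by_cases h : q = 2
      · right; left; omega
      · left; exact ⟨L.reindex_surj _ hL, by omega⟩
    · omega
  have hgs := geo_succ q k
  have hgl := geo_le hq2 k
  have hle : bnd q (k + 1) ≤ geo q (k + 1) - 1 := by
    unfold bnd
    split_ifs with h1 h2 h3 h4
    · omega
    · omega
    · omega
    · obtain ⟨h4, h5⟩ := h4
      rw [h4, h5]; decide
    · rfl
  rcases L'.core U.toRepresentation hψ (by simpa using hk2) ((L.reindex_NT _).2 hN) with h | ⟨h1, h2, h3⟩
  · simp only [Fintype.card_fin, ← hq] at h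
    have : 1 ≤ q ^ k := Nat.one_le_pow _ _ (by omega)
    omega
  simp only [Fintype.card_fin, ← hq] at h1 h2
  have h4 := ih _ _ (h3 hG)
  have h5 := geo_sub_two_not_dvd hq2 hk2
  set D := finrank ℂ U.toSubmodule with hD
  have h6 : D ≠ geo q (k + 1) - 2 := fun e => h5 (e ▸ h1)
  have hqk : 1 ≤ q ^ k := Nat.one_le_pow _ _ (by omega)
  by_cases c2 : k = 2
  · subst c2
    simp only [bnd, if_true] at h4
    by_cases c4 : q = 4
    · rw [c4] at h2 h4 ⊢
      simp only [bnd]
      norm_num at h2 ⊢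
      omega
    · have e1 : geo q (2 + 1) = q ^ 2 + q + 1 := by simp [geo, Finset.sum_range_succ]; ring
      have e2 : bnd q (2 + 1) = geo q (2 + 1) - 1 := by
        unfold bnd
        rw [if_neg (by omega), if_neg (by omega), if_neg (by omega), if_neg (by omega)]
      have h7 : D ≠ (q + 2) * (q - 1) := by
        intro e
        rw [e, e1, show q ^ 2 - 1 = (q + 1) * (q - 1) by
          zify [show 1 ≤ q by omega, hqk]; ring, mul_right_comm, ← mul_assoc] at h1
        have h8 := Nat.dvd_of_mul_dvd_mul_right (by omega) h1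
        have h9 : q + 2 ∣ 12 := by
          have : (q ^ 2 + q + 1) * q ^ 2 * (q + 1) + 12 =
              (q + 2) * (q ^ 4 + 2 * q ^ 2 + 6) - 3 * q * (q + 2) := by
            symm; apply Nat.sub_eq_of_eq_add; ring
          refine (Nat.dvd_add_right h8).1 ?_
          rw [this]
          exact Nat.dvd_sub (dvd_mul_right _ _) (dvd_mul_left _ _)
        have h10 := Nat.le_of_dvd (by norm_num) h9
        have h11 : q = 10 := by
          have : q ≤ 10 := by omega
          interval_cases q <;> omega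
        obtain ⟨n, hp, hn⟩ := FiniteField.card F (ringChar F)
        rw [← hq, h11] at hn
        have h12 : 2 ∣ ringChar F := Nat.prime_two.dvd_of_dvd_pow (hn ▸ (by norm_num : 2 ∣ 10))
        have h13 : 5 ∣ ringChar F := Nat.prime_five.dvd_of_dvd_pow (hn ▸ (by norm_num : 5 ∣ 10))
        rw [Nat.prime_dvd_prime_iff_eq Nat.prime_two hp] at h12
        rw [← h12] at h13
        omega
      have h8 : (q + 2) * (q - 1) = q ^ 2 + q - 2 := by
        zify [show 1 ≤ q by omega, show 2 ≤ q ^ 2 + q by omega]; ring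
      omega
  by_cases c34 : q = 4 ∧ k = 3
  · obtain ⟨c4, rfl⟩ := c34
    rw [c4] at h1 h2 h4 ⊢
    simp only [bnd, geo, Finset.sum_range_succ] at h1 h2 h4 ⊢
    norm_num at h1 h2 h4 ⊢
    by_contra hlt
    have : 81 ≤ D := by omega
    have : D < 84 := by omega
    interval_cases D <;> omega
  by_cases c24 : q = 2 ∧ k = 4
  · obtain ⟨c4, rfl⟩ := c24
    have hgeo : geo q (4 + 1) = 31 := by rw [c4]; decide
    rw [hgeo, c4] at h1
    rw [c4] at h2 h4
    simp only [bnd] at h4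
    norm_num at h1 h2 h4
    by_contra hlt
    have h7 : D = 24 := by
      have : 22 ≤ D := by omega
      have : D < 30 := by omega
      interval_cases D <;> omega
    obtain ⟨w, hw0, hw⟩ := exists_fixed_GL4 c4 _ (L'.rep0 U.toRepresentation hψ) (by omega) (h3 hG)
    have h12 := L'.finrank_of_fixed (surj_s_of_card_two c4 L') (by simp) U.toRepresentation
      (v := w.1) (fun e => hw0 (Subtype.ext e)) (fun a => ((L'.act _).mem_W_zero _).1 w.2 a) fun x =>
        congrArg Subtype.val (hw x)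
    simp only [Fintype.card_fin, ← hq, hgeo] at h12
    omega
  have h7 : bnd q k = geo q k - 1 := by
    unfold bnd
    rw [if_neg c2, if_neg (by omega), if_neg c24, if_neg c34]
  omega

theorem bnd_GL [Fintype F] {k : ℕ} (hk : 2 ≤ k) (V : Type v) [AddCommGroup V] [Module ℂ V]
    [FiniteDimensional ℂ V] (ρ : Representation ℂ (GL (Fin k) F) V) (hN : (LinG.ofGL (Fin k) F).NT ρ) :
    bnd (Fintype.card F) k ≤ finrank ℂ V := by
  induction k, hk using Nat.le_induction generalizing V with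
  | base =>
    simpa [bnd] using (LinG.ofGL (Fin 2) F).trivial_bound (k := 1) (by simp)
      (Or.inr ⟨le_rfl, fun g => ⟨g, rfl⟩⟩) ρ hN
  | succ k hk ih =>
    exact bnd_step hk (fun V _ _ _ ρ h => ih V ρ h) _ (by simp) (Or.inl fun g => ⟨g, rfl⟩) V ρ hN

/-- minimal degree of `SL_n(q)` -/
theorem SL_min_degree [Fintype F] {n : ℕ} (hn : 3 ≤ n)
    (hex : (n, Fintype.card F) ≠ (3, 2) ∧ (n, Fintype.card F) ≠ (3, 4) ∧ (n, Fintype.card F) ≠ (4, 2) ∧
      (n, Fintype.card F) ≠ (4, 3)) {V : Type*} [AddCommGroup V] [Module ℂ V] [FiniteDimensional ℂ V]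
    (ρ : Representation ℂ (SpecialLinearGroup (Fin n) F) V) (hN : ∃ x, ρ x ≠ 1) :
    geo (Fintype.card F) n - 1 ≤ finrank ℂ V := by
  obtain ⟨k, rfl⟩ : ∃ k, n = k + 1 := ⟨n - 1, by omega⟩
  simp only [ne_eq, Prod.mk.injEq] at hex
  have := bnd_step (k := k) (by omega) (bnd_GL (k := k) (by omega)) (LinG.ofSL (Fin (k + 1)) F) (by simp)
    (Or.inr (by simp only [ne_eq, Prod.mk.injEq]; omega)) V ρ hN
  unfold bnd at this
  rwa [if_neg (by omega), if_neg (by omega), if_neg (by omega), if_neg (by omega)] at this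

theorem exists_ne_one_of_two_le {G : Type*} [Group G] {V : Type*} [AddCommGroup V] [Module ℂ V]
    (ρ : Representation ℂ G V) [hρ : ρ.IsIrreducible] (h : 2 ≤ finrank ℂ V) : ∃ x, ρ x ≠ 1 := by
  by_contra hc
  push Not at hc
  obtain ⟨hnt, h1⟩ := (isIrreducible_iff ρ).1 hρ
  obtain ⟨v, hv⟩ := exists_ne (0 : V)
  rcases h1 (ℂ ∙ v) (fun g w hw => by rw [hc]; exact hw) with h2 | h2
  · exact hv (Submodule.span_singleton_eq_bot.1 h2)
  · have := finrank_span_singleton (K := ℂ) hv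
    rw [h2, finrank_top] at this
    omega

end H24
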