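import Cfsg.Agent.H24.SLPerm
import Cfsg.Agent.H24.LSsl
import Cfsg.Agent.H11.TSub
import Cfsg.Agent.H11.Levi

/-! Lower bounds for degrees of cross characteristic representations of symplectic and unitary groups.
`WT` weight spaces of a transvection group, `WT_heis` (Heisenberg bound), `D_bound` (codimension of
the fixed space of a transvection group), `dbl` (double count over a totally singular subspace). -/

set_option autoImplicit false
set_option linter.unusedSectionVars false

namespace H24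
open Module H11 H11.PForm
open scoped commutatorElement

section gen
variable {F : Type*} [Field F] {σ : F →+* F} {P : FParam σ} {V : Type*} [AddCommGroup V] [Module F V]
variable (S : PForm P V)

/-- Eichler elements in `E` -/
noncomputable def ee (u v : V) (a : F) : S.E := ⟨S.eich u v a, S.eich_mem_E u v a⟩

theorem ee_coe (u v : V) (a : F) : (ee S u v a : S.Isom) = S.eich u v a := rfl

variable {S}
variable {K M : Type*} [Field K] [AddCommGroup M] [Module K M] (ρ : S.E →* End K M)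

/-- weight space of the transvection group with centre `u` -/
noncomputable def WT (u : V) (α : F → K) : Submodule K M := jes (fun a : P.Λ => ρ (ee S u 0 a)) fun a => α a

theorem mem_WT {u : V} {α : F → K} {m : M} :
    m ∈ WT ρ u α ↔ ∀ a ∈ P.Λ, ρ (ee S u 0 a) m = α a • m :=
  ⟨fun h a ha => h ⟨a, ha⟩, fun h a => h a a.2⟩

theorem WT_congr (u : V) {α β : F → K} (h : ∀ a ∈ P.Λ, α a = β a) : WT ρ u α = WT ρ u β := by
  ext m
  simp only [mem_WT]
  exact forall₂_congr fun a ha => by rw [h a ha]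

theorem WT_add {u : V} (hu : S.Sing u) {α : F → K} (h : WT ρ u α ≠ ⊥) {a b : F} (ha : a ∈ P.Λ)
    (hb : b ∈ P.Λ) : α (a + b) = α a * α b := by
  obtain ⟨m, hm, hm0⟩ := Submodule.exists_mem_ne_zero_of_ne_bot h
  rw [mem_WT] at hm
  have e : ee S u 0 a * ee S u 0 b = ee S u 0 (a + b) := Subtype.ext (transv_mul hu ha hb)
  have h1 := hm _ (P.Λ.add_mem ha hb)
  rw [← e, map_mul, End.mul_apply, hm b hb, map_smul, hm a ha, smul_smul] at h1
  rw [mul_comm]
  exact (smul_left_injective K hm0 h1).symm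

theorem WT_zero {u : V} {α : F → K} (h : WT ρ u α ≠ ⊥) : α 0 = 1 := by
  obtain ⟨m, hm, hm0⟩ := Submodule.exists_mem_ne_zero_of_ne_bot h
  have h1 := (mem_WT ρ).1 hm 0 P.Λ.zero_mem
  have e : ee S u 0 0 = 1 := Subtype.ext (eich_zero u)
  rw [e, map_one, End.one_apply] at h1
  exact (smul_left_injective K hm0 (by simpa using h1)).symm

theorem WT_ne_zero {u : V} (hu : S.Sing u) {α : F → K} (h : WT ρ u α ≠ ⊥) {a : F} (ha : a ∈ P.Λ) :
    α a ≠ 0 := by
  have := WT_add ρ hu h ha (P.Λ.neg_mem ha)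
  rw [add_neg_cancel, WT_zero ρ h] at this
  exact left_ne_zero_of_mul_eq_one this.symm

theorem rep_inj (g : S.E) : Function.Injective (ρ g) :=
  Function.LeftInverse.injective (g := ρ g⁻¹) fun m => by
    rw [← End.mul_apply, ← map_mul, inv_mul_cancel, map_one, End.one_apply]

theorem WT_map (g : S.E) (u : V) (α : F → K) {m : M} (hm : m ∈ WT ρ u α) :
    ρ g m ∈ WT ρ (g.1.1 u) α := by
  rw [mem_WT] at hm ⊢
  intro a ha
  have e : ee S (g.1.1 u) 0 a * g = g * ee S u 0 a := by
    have := conj_eich g.1 u 0 a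
    rw [map_zero] at this
    apply Subtype.ext
    simp only [Subgroup.coe_mul, ee_coe, ← this, inv_mul_cancel_right]
  rw [← End.mul_apply, ← map_mul, e, map_mul, End.mul_apply, hm a ha, map_smul]

theorem WT_smul {u : V} (hu : S.Sing u) (α : F → K) (c : F) :
    WT ρ u α ≤ WT ρ (c • u) fun a => α (c * σ c * a) := by
  intro m hm
  rw [mem_WT] at hm ⊢
  intro a ha
  have e : ee S (c • u) 0 a = ee S u 0 (c * σ c * a) :=
    Subtype.ext (by rw [ee_coe, ee_coe, transv_smul hu ha]; congr 1; ring)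
  have h1 : c * σ c * a ∈ P.Λ := by
    have := P.conj_mem (σ c) a ha
    rw [P.σσ] at this
    convert this using 1
    ring
  rw [e, hm _ h1]

theorem ee_comm {u v : V} {b : F} (h : S.ECond u v b) {a : F} (ha : a ∈ P.Λ) :
    ee S u 0 a * ee S u v b = ee S u v b * ee S u 0 a := by
  apply Subtype.ext
  simp only [Subgroup.coe_mul, ee_coe]
  rw [eich_mul (ECond.of_mem h.sing ha) h, eich_mul h (ECond.of_mem h.sing ha)]
  simp [add_comm]

theorem WT_stable {u v : V} {b : F} (h : S.ECond u v b) (α : F → K) {m : M} (hm : m ∈ WT ρ u α) :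
    ρ (ee S u v b) m ∈ WT ρ u α := by
  have := WT_map ρ (ee S u v b) u α hm
  rwa [ee_coe, eich_apply_self] at this

theorem WT_stable_inv {u v : V} {b : F} (α : F → K) {m : M} (hm : m ∈ WT ρ u α) :
    ρ (ee S u v b)⁻¹ m ∈ WT ρ u α := by
  have := WT_map ρ (ee S u v b)⁻¹ u α hm
  have e : ((ee S u v b)⁻¹).1.1 u = u := by
    have h1 : ((ee S u v b)⁻¹ * ee S u v b).1.1 u = u := by rw [inv_mul_cancel]; rfl
    have h2 : ((ee S u v b)⁻¹ * ee S u v b).1.1 u = ((ee S u v b)⁻¹).1.1 ((ee S u v b).1.1 u) := rfl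
    rw [h2, ee_coe, eich_apply_self] at h1
    exact h1
  rwa [e] at this

variable [FiniteDimensional K M] [FiniteDimensional F V]

theorem finrank_WT_le (g : S.E) {u u' : V} (h : g.1.1 u = u') (α : F → K) :
    finrank K (WT ρ u α) ≤ finrank K (WT ρ u' α) :=
  Act.finrank_le_of_map (rep_inj ρ g) fun _ hm => h ▸ WT_map ρ g u α hm

/-- the Heisenberg bound -/
theorem WT_heis [Finite F] (hS : S.Nondeg) (hΛ : ∀ a ∈ P.Λ, ∃ c, a = c - P.ε * σ c) {e f : V}
    (H : S.IsHyp e f) {α : F → K} (hα : ∃ a ∈ P.Λ, α a ≠ 1) (h : WT ρ e α ≠ ⊥) :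
    Nat.card F ^ (finrank F V - 2) ≤ finrank K (WT ρ e α) ^ 2 := by
  classical
  set Y := S.perp (Submodule.span F {e, f}) with hY
  have : Finite V := Module.finite_of_finite F
  have : Fintype Y := Fintype.ofFinite Y
  have : Nontrivial (WT ρ e α) := Submodule.nontrivial_iff_ne_bot.2 h
  have hc : ∀ v : Y, S.ECond e v (S.q v) := fun v =>
    ECond.of_q H.sing_e ((S.mem_perp_pair.1 v.2).1)
  have hδ : ∀ v v' : V, S.h v v' - S.h v' v ∈ P.Λ := fun v v' => by
    rw [S.symm v v']; exact P.sub_mem _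
  have key := heis_bound (K := K) (V := WT ρ e α) (A := Y)
    (fun v => (ρ (ee S e v (S.q v))).restrict fun m hm => WT_stable ρ (hc v) α hm)
    (fun v => (ρ (ee S e v (S.q v))⁻¹).restrict fun m hm => WT_stable_inv ρ α hm)
    (fun v => by
      ext m
      simp only [End.mul_apply, LinearMap.restrict_apply, End.one_apply]
      rw [← End.mul_apply, ← map_mul, mul_inv_cancel, map_one, End.one_apply])
    (fun v v' => α (S.h v v' - S.h v' v))
    (fun v v' => by
      ext m
      simp only [End.mul_apply, LinearMap.restrict_apply, LinearMap.smul_apply, Submodule.coe_smul]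
      have e1 : ee S e v (S.q v) * ee S e v' (S.q v') =
          ee S e 0 (S.h v v' - S.h v' v) * (ee S e v' (S.q v') * ee S e v (S.q v)) := by
        apply Subtype.ext
        simp only [Subgroup.coe_mul, ee_coe]
        rw [← commutator_eich (hc v) (hc v'), commutatorElement_def]
        group
      rw [← End.mul_apply, ← map_mul, e1, map_mul, map_mul, End.mul_apply, End.mul_apply]
      exact (mem_WT ρ).1 (WT_stable ρ (hc v') α (WT_stable ρ (hc v) α m.2)) _ (hδ _ _))
    (fun v w hvw => by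
      by_contra hne
      have hY0 : (S.restrict Y).Nondeg := hS.restrict_perp H.nondeg
      obtain ⟨y, hy⟩ := hY0.exists_h_eq_one (sub_ne_zero.2 hne)
      obtain ⟨a, ha, ha1⟩ := hα
      obtain ⟨c, rfl⟩ := hΛ a ha
      have h1 : S.h (v - w : V) (c • y : V) = c := by
        have : S.h (v - w : V) (y : V) = 1 := hy
        rw [map_smul, this, smul_eq_mul, mul_one]
      have h2 := congrFun hvw (c • y)
      have h3 : S.h (v : V) (c • y : V) - S.h (c • y : V) v =
          (c - P.ε * σ c) + (S.h (w : V) (c • y : V) - S.h (c • y : V) w) := by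
        have h4 : S.h (c • y : V) (v - w : V) = P.ε * σ c := by rw [S.symm, h1]
        rw [map_sub] at h4
        rw [map_sub, LinearMap.sub_apply] at h1
        linear_combination h1 - h4
      simp only [Submodule.coe_smul] at h2
      rw [h3, WT_add ρ H.sing_e h ha (hδ _ _)] at h2
      exact ha1 (mul_right_cancel₀ (WT_ne_zero ρ H.sing_e h (hδ _ _)) (by rw [h2, one_mul])))
  have h5 : Fintype.card Y = Nat.card F ^ (finrank F V - 2) := by
    rw [← Nat.card_eq_fintype_card, card_submodule, ← H.finrank_perp, Nat.add_sub_cancel]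
  rwa [h5] at key

variable (S) in
/-- `E` is transitive on nonzero singular vectors -/
def Tr : Prop := ∀ u u' : V, S.Sing u → u ≠ 0 → S.Sing u' → u' ≠ 0 → ∃ g : S.E, g.1.1 u = u'

theorem Tr.finrank_le (hT : Tr S) {u u' : V} (hu : S.Sing u) (h0 : u ≠ 0) (hu' : S.Sing u')
    (h0' : u' ≠ 0) (α : F → K) : finrank K (WT ρ u α) ≤ finrank K (WT ρ u' α) := by
  obtain ⟨g, hg⟩ := hT u u' hu h0 hu' h0'
  exact finrank_WT_le ρ g hg α

theorem Tr.finrank_le_norm (hT : Tr S) {u : V} (hu : S.Sing u) (h0 : u ≠ 0) (α : F → K) {c : F}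
    (hc : c ≠ 0) : finrank K (WT ρ u α) ≤ finrank K (WT ρ u fun a => α (c * σ c * a)) :=
  (Submodule.finrank_mono (WT_smul ρ hu α c)).trans
    (hT.finrank_le ρ (hu.smul c) (smul_ne_zero hc h0) hu h0 _)

/-- distinct weights of a transvection group -/
theorem D_bound (hΛ : ∀ a ∈ P.Λ, ∃ c, a = c - P.ε * σ c) {u : V} (hu : S.Sing u) {α : F → K}
    (hα : ∃ a ∈ P.Λ, α a ≠ 1) (h : WT ρ u α ≠ ⊥) (N : Finset F) (hN0 : (0 : F) ∉ N)
    (hN : ∀ t ∈ N, σ t = t) {r : ℕ} (hr : ∀ t ∈ N, r ≤ finrank K (WT ρ u fun a => α (t * a))) :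
    finrank K (WT ρ u fun _ => 1) + N.card * r ≤ finrank K M := by
  classical
  have hmul : ∀ t, σ t = t → ∀ a ∈ P.Λ, t * a ∈ P.Λ := fun t ht a ha => by
    obtain ⟨c, rfl⟩ := hΛ a ha
    have := P.sub_mem (t * c)
    rw [map_mul, ht] at this
    convert this using 1
    ring
  have hN' : ∀ t ∈ insert 0 N, σ t = t := fun t ht => by
    rcases Finset.mem_insert.1 ht with rfl | ht
    · exact map_zero σ
    · exact hN t ht
  have key := sum_finrank_jes_le (fun a : P.Λ => ρ (ee S u 0 a)) (fun (t : F) (a : P.Λ) => α (t * a))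
    (insert 0 N) (fun t ht t' ht' e => by
      by_contra hne
      obtain ⟨a, ha, ha1⟩ := hα
      have hs : σ (t - t')⁻¹ = (t - t')⁻¹ := by rw [map_inv₀, map_sub, hN' t ht, hN' t' ht']
      have h1 := congrFun e ⟨_, hmul _ hs a ha⟩
      have h2 : t * ((t - t')⁻¹ * a) = a + t' * ((t - t')⁻¹ * a) := by
        have := sub_ne_zero.2 hne
        field_simp
        ring
      simp only at h1
      have h3 := hmul _ (hN' t' ht') _ (hmul _ hs a ha)
      rw [h2, WT_add ρ hu h ha h3] at h1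
      exact ha1 (mul_right_cancel₀ (WT_ne_zero ρ hu h h3) (by rw [h1, one_mul])))
  rw [Finset.sum_insert hN0] at key
  have h1 : jes (fun a : P.Λ => ρ (ee S u 0 a)) (fun a : P.Λ => α (0 * a)) = WT ρ u fun _ => 1 :=
    WT_congr ρ u (α := fun a => α (0 * a)) fun a _ => by simp only [zero_mul, WT_zero ρ h]
  rw [h1] at key
  refine le_trans (Nat.add_le_add_left ?_ _) key
  exact le_trans (by simp) (Finset.card_nsmul_le_sum N _ r hr)

end gen

section dbl
variable {F : Type*} [Field F] {σ : F →+* F} {P : FParam σ} {V : Type*} [AddCommGroup V] [Module F V]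
variable (S : PForm P V)

/-- the abelian group attached to a subspace -/
def AU (U : Submodule F V) : Subgroup S.E where
  carrier := {g | (∀ y, g.1.1 y - y ∈ U) ∧ ∀ y ∈ U, g.1.1 y = y}
  one_mem' := ⟨fun y => by simp, fun y _ => rfl⟩
  mul_mem' {a b} ha hb := ⟨fun y => by
    have := U.add_mem (ha.1 (b.1.1 y)) (hb.1 y)
    rwa [sub_add_sub_cancel] at this, fun y hy => by
    change a.1.1 (b.1.1 y) = y
    rw [hb.2 y hy, ha.2 y hy]⟩
  inv_mem' {a} ha := ⟨fun y => by
    have := U.neg_mem (ha.1 ((a⁻¹).1.1 y))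
    have e : a.1.1 ((a⁻¹).1.1 y) = y := by
      change (a * a⁻¹).1.1 y = y
      rw [mul_inv_cancel]; rfl
    rwa [e, neg_sub] at this, fun y hy => by
    conv_lhs => rw [← ha.2 y hy]
    change (a⁻¹ * a).1.1 y = y
    rw [inv_mul_cancel]; rfl⟩

instance instCommGroupAU (U : Submodule F V) : CommGroup (AU S U) :=
  { (inferInstance : Group (AU S U)) with
    mul_comm := fun a b => by
      have key : ∀ a b : AU S U, ∀ y, a.1.1.1 (b.1.1.1 y) = a.1.1.1 y + (b.1.1.1 y - y) := fun a b y => by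
        rw [← a.2.2 _ (b.2.1 y), ← map_add, add_sub_cancel]
      apply Subtype.ext
      apply Subtype.ext
      apply isom_ext
      intro y
      change a.1.1.1 (b.1.1.1 y) = b.1.1.1 (a.1.1.1 y)
      rw [key, key b a]
      abel }

variable {S} {U : Submodule F V} (hU : S.TS U)

/-- Eichler elements attached to a totally singular subspace -/
noncomputable def sA (u v : U) (a : F) : AU S U :=
  ⟨ee S u v a, fun y => by
    by_cases h : S.ECond u v a
    · rw [ee_coe, eich_apply h, add_sub_assoc, add_sub_cancel_left]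
      exact U.sub_mem (U.smul_mem _ v.2) (U.smul_mem _ u.2)
    · rw [ee_coe, eich_junk h]; simp, fun y hy =>
    eich_apply_of_perp_perp (hU.h_eq u.2 hy) (hU.h_eq v.2 hy)⟩

theorem sA_coe (u v : U) (a : F) : ((sA hU u v a : S.E) : S.Isom) = S.eich u v a := rfl

theorem sA_add (u : U) {a b : F} (ha : a ∈ P.Λ) (hb : b ∈ P.Λ) :
    sA hU u 0 (a + b) = sA hU u 0 a * sA hU u 0 b :=
  Subtype.ext (Subtype.ext (transv_mul (hU.sing _ u.2) ha hb).symm)

theorem sA_add' (u v v' : U) : sA hU u (v + v') 0 = sA hU u v 0 * sA hU u v' 0 := by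
  have h : ∀ v : U, S.ECond u v 0 := fun v =>
    ⟨hU.sing _ u.2, hU.h_eq u.2 v.2, by rw [zero_sub]; exact P.Λ.neg_mem (hU.sing _ v.2)⟩
  apply Subtype.ext
  apply Subtype.ext
  have := eich_mul (h v) (h v')
  rw [hU.h_eq v.2 v'.2, add_zero, add_zero] at this
  exact this.symm

theorem sA_zero (u : U) : sA hU u 0 0 = 1 := Subtype.ext (Subtype.ext (eich_zero _))

theorem sA_zero_left (v : U) (a : F) : sA hU 0 v a = 1 :=
  Subtype.ext (Subtype.ext (eich_zero_left _ _))

theorem sA_decomp (w u : U) (x : F) {a : F} (ha : a ∈ P.Λ) :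
    sA hU (w + x • u) 0 a = sA hU w ((-(P.ε * a) * x) • u) 0 * sA hU w 0 a * sA hU u 0 (x * σ x * a) := by
  have h1 : sA hU w ((-(P.ε * a) * x) • u) 0 =
      sA hU (w + x • u) 0 a * sA hU w 0 (-a) * sA hU (x • u) 0 (-a) := by
    apply Subtype.ext
    apply Subtype.ext
    have := eich_eq_transv (hU.sing _ w.2) (hU.sing _ (x • u).2) (hU.h_eq w.2 (x • u).2) ha
    rw [← smul_smul]
    exact this
  have h2 : sA hU u 0 (x * σ x * a) = sA hU (x • u) 0 a := by
    apply Subtype.ext
    apply Subtype.ext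
    have := transv_smul (hU.sing _ u.2) ha x
    rw [sA_coe, sA_coe, show x * σ x * a = x * a * σ x by ring]
    exact this.symm
  have h3 : ∀ v : U, sA hU v 0 (-a) * sA hU v 0 a = 1 := fun v => by
    rw [← sA_add hU v (P.Λ.neg_mem ha) ha, neg_add_cancel, sA_zero]
  rw [h1, h2]
  calc sA hU (w + x • u) 0 a = sA hU (w + x • u) 0 a * (sA hU w 0 (-a) * sA hU w 0 a) *
        (sA hU (x • u) 0 (-a) * sA hU (x • u) 0 a) := by rw [h3, h3, mul_one, mul_one]
    _ = _ := by ac_rfl

variable {M : Type*} [AddCommGroup M] [Module ℂ M] (ρ : S.E →* End ℂ M)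

variable (U) in
/-- the action of `AU` -/
noncomputable def actU : Act (Additive (AU S U)) ℂ M :=
  Act.ofRep ρ (fun a => (a.toMul : S.E)) fun _ _ => rfl

variable [Finite F] [FiniteDimensional F V]

instance instFiniteAU : Finite (AU S U) := by
  have : Finite S.Isom := finite_isom
  infer_instance

variable (U) in
/-- weight spaces of `AU` -/
noncomputable def WU (θ : AU S U →* ℂˣ) : Submodule ℂ M :=
  (actU U ρ).W (unitsPairing (AU S U)) (Additive.ofMul θ)

theorem mem_WU {θ : AU S U →* ℂˣ} {m : M} : m ∈ WU U ρ θ ↔ ∀ a : AU S U, ρ a m = (θ a : ℂ) • m :=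
  ⟨fun h a => h (Additive.ofMul a), fun h a => h a.toMul⟩

theorem WU_le_WT (θ : AU S U →* ℂˣ) (u : U) : WU U ρ θ ≤ WT ρ u fun a => (θ (sA hU u 0 a) : ℂ) :=
  fun _ hm => (mem_WT ρ).2 fun a _ => (mem_WU ρ).1 hm (sA hU u 0 a)

theorem exists_WU {a : AU S U} (ha : ρ a ≠ 1) : ∃ θ, θ a ≠ 1 ∧ WU U ρ θ ≠ ⊥ := by
  have : Fintype (Additive (AU S U)) := Fintype.ofFinite _
  have : Fintype (Additive (AU S U →* ℂˣ)) := Fintype.ofFinite _
  obtain ⟨b, hb, hb'⟩ := (actU U ρ).exists_W_ne_bot (unitsPairing (AU S U))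
    (Nat.cast_ne_zero.2 Fintype.card_ne_zero) (a := Additive.ofMul a) ha
  exact ⟨b.toMul, fun e => hb (congrArg Units.val e), hb'⟩

variable [FiniteDimensional ℂ M]

theorem sum_WU [Fintype (AU S U →* ℂˣ)] : ∑ θ, finrank ℂ (WU U ρ θ) = finrank ℂ M := by
  have : Fintype (Additive (AU S U)) := Fintype.ofFinite _
  rw [← (actU U ρ).sum_finrank_W (unitsPairing (AU S U)) (Nat.cast_ne_zero.2 Fintype.card_ne_zero)]
  exact Equiv.sum_comp Additive.ofMul fun b => finrank ℂ ((actU U ρ).W (unitsPairing (AU S U)) b)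

theorem sum_WU_le (s : Finset (AU S U →* ℂˣ)) {p : Submodule ℂ M} (h : ∀ θ ∈ s, WU U ρ θ ≤ p) :
    ∑ θ ∈ s, finrank ℂ (WU U ρ θ) ≤ finrank ℂ p := by
  rw [← Finset.sum_coe_sort s]
  have h1 : iSupIndep fun θ : s => WU U ρ θ :=
    ((actU U ρ).W_indep (unitsPairing (AU S U))).comp
      (f := fun θ : s => Additive.ofMul θ.1) fun _ _ e => Subtype.ext e
  have h2 : iSupIndep fun θ : s => (WU U ρ θ).comap p.subtype := by
    rw [iSupIndep_iff_finsetSum_eq_zero_imp_eq_zero] at h1 ⊢
    intro t v hv h0 i hi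
    exact Subtype.ext (h1 t (fun i => (v i : M)) hv (by simpa using congrArg Subtype.val h0) i hi)
  refine le_trans (le_of_eq (Finset.sum_congr rfl fun θ _ => ?_)) (sum_finrank_le_of_indep _ h2)
  exact (Submodule.comapSubtypeEquivOfLe (h θ θ.2)).finrank_eq.symm

theorem sum_sum_filter {A B : Type*} [Fintype A] [Fintype B] (p : A → B → Prop) [∀ a b, Decidable (p a b)]
    (f : B → ℕ) : ∑ a, ∑ b with p a b, f b = ∑ b, (Finset.univ.filter fun a => p a b).card * f b := by
  simp only [Finset.sum_filter]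
  rw [Finset.sum_comm]
  refine Finset.sum_congr rfl fun b _ => ?_
  rw [← Finset.sum_filter, Finset.sum_const, smul_eq_mul]

/-- the double count -/
theorem dbl {D : ℕ} (hD : ∀ u ∈ U, u ≠ 0 → finrank ℂ (WT ρ u fun _ => 1) + D ≤ finrank ℂ M)
    (hz : ∀ θ : AU S U →* ℂˣ, WU U ρ θ ≠ ⊥ → ∀ u : U, (∃ a ∈ P.Λ, θ (sA hU u 0 a) ≠ 1) →
      ∀ w : U, ∃ x : F, ∀ a ∈ P.Λ, θ (sA hU (w + x • u) 0 a) = 1) :
    Nat.card F * ((Nat.card U - 1) * D) ≤ (Nat.card F - 1) * Nat.card U * finrank ℂ M := by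
  classical
  have : Finite V := Module.finite_of_finite F
  have : Fintype U := Fintype.ofFinite _
  have : Fintype F := Fintype.ofFinite _
  have : Fintype (AU S U →* ℂˣ) := Fintype.ofFinite _
  let nt : U → (AU S U →* ℂˣ) → Prop := fun u θ => ∃ a ∈ P.Λ, θ (sA hU u 0 a) ≠ 1
  have h1 : ∀ u : U, u ≠ 0 → D ≤ ∑ θ with nt u θ, finrank ℂ (WU U ρ θ) := fun u hu => by
    have h2 := hD u u.2 fun e => hu (Subtype.ext e)
    have h3 := sum_WU_le ρ (Finset.univ.filter fun θ => ¬ nt u θ) (p := WT ρ u fun _ => 1)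
      fun θ hθ => by
        refine (WU_le_WT hU ρ θ u).trans (le_of_eq (WT_congr ρ _ fun a ha => ?_))
        have := (Finset.mem_filter.1 hθ).2
        simp only [nt, not_exists, not_and, not_not] at this
        rw [this a ha, Units.val_one]
    have h4 := Finset.sum_filter_add_sum_filter_not Finset.univ (nt u)
      fun θ => finrank ℂ (WU U ρ θ)
    rw [sum_WU] at h4
    omega
  have h2 : ∀ θ, WU U ρ θ ≠ ⊥ → Nat.card F * (Finset.univ.filter fun u => nt u θ).card ≤
      (Nat.card F - 1) * Nat.card U := fun θ hθ => by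
    have h3 : ∃ u : U, ∀ w : U, ∃ x : F, ¬ nt (w + x • u) θ := by
      by_cases h : ∃ u, nt u θ
      · obtain ⟨u, hu⟩ := h
        refine ⟨u, fun w => ?_⟩
        obtain ⟨x, hx⟩ := hz θ hθ u hu w
        exact ⟨x, fun ⟨a, ha, h⟩ => h (hx a ha)⟩
      · exact ⟨0, fun w => ⟨0, fun h' => h ⟨_, h'⟩⟩⟩
    obtain ⟨u, hu⟩ := h3
    choose x hx using hu
    have h4 : Fintype.card U ≤ ((Finset.univ.filter fun u => ¬ nt u θ) ×ˢ (Finset.univ : Finset F)).card :=
      Finset.card_le_card_of_injOn (s := Finset.univ) (fun w => (w + x w • u, x w))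
        (fun w _ => by simp [hx w]) fun w _ w' _ e => by
          obtain ⟨e1, e2⟩ := Prod.mk.inj e
          rw [e2] at e1
          exact add_right_cancel e1
    have h5 := Finset.card_filter_add_card_filter_not (s := (Finset.univ : Finset U)) fun u => nt u θ
    rw [Finset.card_product, Finset.card_univ] at h4
    rw [Finset.card_univ] at h5
    rw [Nat.card_eq_fintype_card, Nat.card_eq_fintype_card, Nat.sub_mul, one_mul]
    apply Nat.le_sub_of_add_le
    generalize (Finset.univ.filter fun u => nt u θ).card = a at h5 ⊢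
    generalize (Finset.univ.filter fun u => ¬ nt u θ).card = b at h4 h5
    generalize Fintype.card U = c at h4 h5 ⊢
    subst h5
    nlinarith
  have h3 : (Nat.card U - 1) * D ≤ ∑ θ, (Finset.univ.filter fun u => nt u θ).card * finrank ℂ (WU U ρ θ) := by
    calc (Nat.card U - 1) * D = ∑ u ∈ Finset.univ.erase (0 : U), D := by
          rw [Finset.sum_const, Finset.card_erase_of_mem (Finset.mem_univ _), Finset.card_univ,
            Nat.card_eq_fintype_card, smul_eq_mul]
      _ ≤ ∑ u ∈ Finset.univ.erase (0 : U), ∑ θ with nt u θ, finrank ℂ (WU U ρ θ) :=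
          Finset.sum_le_sum fun u hu => h1 u (Finset.ne_of_mem_erase hu)
      _ ≤ ∑ u, ∑ θ with nt u θ, finrank ℂ (WU U ρ θ) :=
          Finset.sum_le_sum_of_subset (Finset.erase_subset _ _)
      _ = _ := sum_sum_filter nt fun θ => finrank ℂ (WU U ρ θ)
  refine (Nat.mul_le_mul_left _ h3).trans ?_
  rw [← sum_WU (U := U) ρ, Finset.mul_sum, Finset.mul_sum]
  refine Finset.sum_le_sum fun θ _ => ?_
  by_cases hθ : WU U ρ θ = ⊥
  · rw [hθ, finrank_bot]; simp
  · rw [← mul_assoc]
    exact Nat.mul_le_mul_right _ (h2 θ hθ)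

end dbl

end H24
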