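import Cfsg.Agent.H24.MinD

/-! Minimal degrees of symplectic groups in odd characteristic (`symp_D`, `symp_min`) and of special
unitary groups (`unit_min`). -/

set_option autoImplicit false
set_option linter.unusedSectionVars false

namespace H24
open Module H11 H11.PForm

theorem exists_shift {F : Type*} [Field F] [Finite F] {α χ : F → ℂ} (h0 : α 0 = 1)
    (h1 : ∀ a b, α (a + b) = α a * α b) (hα : ∃ a, α a ≠ 1) (h2 : χ 0 = 1)
    (h3 : ∀ a b, χ (a + b) = χ a * χ b) : ∃ g, ∀ c, χ c = α (g * c) := by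
  classical
  have : Fintype F := Fintype.ofFinite F
  let ψ : AddChar F ℂ := ⟨α, h0, h1⟩
  have hψ : ψ ≠ 1 := fun e => by
    obtain ⟨a, ha⟩ := hα
    exact ha (DFunLike.congr_fun e a)
  have hinj : Function.Injective ψ.mulShift :=
    AddChar.to_mulShift_inj_of_isPrimitive (AddChar.IsPrimitive.of_ne_one hψ)
  have hbij := (Fintype.bijective_iff_injective_and_card _).2 ⟨hinj, (AddChar.card_eq (α := F)).symm⟩
  obtain ⟨g, hg⟩ := hbij.2 ⟨χ, h2, h3⟩
  exact ⟨g, fun c => (DFunLike.congr_fun hg c).symm⟩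

theorem exists_root_of_forall_isSquare {F : Type*} [Field F] [Finite F] (h2 : (2 : F) ≠ 0) {g b : F}
    (h : ∀ x, IsSquare (x * x + g * x + b)) : ∃ x, x * x + g * x + b = 0 := by
  obtain ⟨s, hs⟩ := h (-g / 2)
  have e : ∀ y, (y - g / 2) * (y - g / 2) + g * (y - g / 2) + b = y * y + s * s := fun y => by
    rw [← hs]; field_simp; ring
  by_cases hs0 : s = 0
  · exact ⟨-g / 2, by rw [hs, hs0, mul_zero]⟩
  have h1 : ∀ k : ℕ, IsSquare (k : F) := fun k => by
    induction k with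
    | zero => exact ⟨0, by simp⟩
    | succ k ih =>
      obtain ⟨z, hz⟩ := ih
      obtain ⟨t, ht⟩ := h (z * s - g / 2)
      rw [e] at ht
      refine ⟨t / s, ?_⟩
      push_cast
      rw [hz]
      field_simp
      linear_combination ht
  obtain ⟨p, hp⟩ := CharP.exists F
  have hpp : p.Prime := CharP.char_is_prime F p
  obtain ⟨i, hi⟩ := h1 (p - 1)
  rw [Nat.cast_sub hpp.one_le, CharP.cast_eq_zero, Nat.cast_one] at hi
  exact ⟨i * s - g / 2, by rw [e]; linear_combination (-s * s) * hi⟩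

section gen
variable {F : Type*} [Field F] {σ : F →+* F} {P : FParam σ} {V : Type*} [AddCommGroup V] [Module F V]
variable {S : PForm P V} {K M : Type*} [Field K] [AddCommGroup M] [Module K M] (ρ : S.E →* End K M)

theorem exists_transv_ne_one (hTE : S.T = S.E) (h : ∃ g, ρ g ≠ 1) :
    ∃ u a, S.Sing u ∧ u ≠ 0 ∧ a ∈ P.Λ ∧ ρ (ee S u 0 a) ≠ 1 := by
  by_contra hc
  push Not at hc
  obtain ⟨g, hg⟩ := h
  have h1 : S.T ≤ ρ.ker.map S.E.subtype := T_le_iff.2 fun u a hu h0 ha =>
    ⟨ee S u 0 a, hc u a hu h0 ha, rfl⟩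
  obtain ⟨g', hg', e⟩ := h1 (show g.1 ∈ S.T by rw [hTE]; exact g.2)
  have : g' = g := Subtype.ext e
  exact hg (this ▸ hg')

variable [FiniteDimensional K M] [FiniteDimensional F V] [Finite F]

theorem heis_le (hS : S.Nondeg) (hΛ : ∀ a ∈ P.Λ, ∃ c, a = c - P.ε * σ c) {u : V} (hu : S.Sing u)
    (h0 : u ≠ 0) {α : F → K} (hα : ∃ a ∈ P.Λ, α a ≠ 1) (h : WT ρ u α ≠ ⊥) {r : ℕ}
    (hr : r ^ 2 = Nat.card F ^ (finrank F V - 2)) : r ≤ finrank K (WT ρ u α) := by
  obtain ⟨f, H⟩ := hS.exists_isHyp hu h0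
  have := WT_heis ρ hS hΛ H hα h
  rw [← hr] at this
  exact (Nat.pow_le_pow_iff_left two_ne_zero).1 this

open Classical in
theorem D_norm [Fintype F] (hS : S.Nondeg) (hΛ : ∀ a ∈ P.Λ, ∃ c, a = c - P.ε * σ c) (hT : Tr S) {u : V}
    (hu : S.Sing u) (h0 : u ≠ 0) {α : F → K} (hα : ∃ a ∈ P.Λ, α a ≠ 1) (h : WT ρ u α ≠ ⊥) {r : ℕ}
    (hr : r ^ 2 = Nat.card F ^ (finrank F V - 2)) {u' : V} (hu' : S.Sing u') (h0' : u' ≠ 0) :
    finrank K (WT ρ u' fun _ => 1) +
      ((Finset.univ.erase (0 : F)).image fun c => c * σ c).card * r ≤ finrank K M := by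
  refine le_trans (Nat.add_le_add_right (hT.finrank_le ρ hu' h0' hu h0 _) _) ?_
  refine D_bound ρ hΛ hu hα h _ ?_ ?_ ?_
  · simp
  · intro t ht
    obtain ⟨c, -, rfl⟩ := Finset.mem_image.1 ht
    rw [map_mul, P.σσ, mul_comm]
  · intro t ht
    obtain ⟨c, hc, rfl⟩ := Finset.mem_image.1 ht
    exact (heis_le ρ hS hΛ hu h0 hα h hr).trans (hT.finrank_le_norm ρ hu h0 α (Finset.ne_of_mem_erase hc))

theorem exists_WT {M : Type*} [AddCommGroup M] [Module ℂ M] (ρ : S.E →* End ℂ M) {u : V} (hu : S.Sing u)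
    {a : F} (h : ρ (ee S u 0 a) ≠ 1) : ∃ α : F → ℂ, α a ≠ 1 ∧ WT ρ u α ≠ ⊥ := by
  have hU : S.TS (Submodule.span F {u}) := ts_span (by simpa using hu) (by simpa using hu.h_self)
  obtain ⟨θ, h1, h2⟩ := exists_WU ρ (a := sA hU ⟨u, Submodule.mem_span_singleton_self u⟩ 0 a) h
  refine ⟨fun a => θ (sA hU ⟨u, Submodule.mem_span_singleton_self u⟩ 0 a),
    fun e => h1 (Units.ext e), fun e => h2 (eq_bot_iff.2 ?_)⟩
  rw [← e]
  exact WU_le_WT hU ρ θ ⟨u, Submodule.mem_span_singleton_self u⟩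

end gen

theorem card_image_norm {F : Type*} [Field F] [Fintype F] [DecidableEq F] {k : ℕ} (hk : 0 < k) :
    Fintype.card F - 1 ≤ k * ((Finset.univ.erase (0 : F)).image fun c => c ^ k).card := by
  have := Finset.card_le_mul_card_image (f := fun c : F => c ^ k) (Finset.univ.erase (0 : F)) k
    fun t _ => by
      refine le_trans (Finset.card_le_card (t := (Polynomial.nthRoots k t).toFinset) fun c hc => ?_)
        ((Multiset.toFinset_card_le _).trans (Polynomial.card_nthRoots k t))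
      rw [Multiset.mem_toFinset, Polynomial.mem_nthRoots hk]
      exact (Finset.mem_filter.1 hc).2
  rwa [Finset.card_erase_of_mem (Finset.mem_univ _), Finset.card_univ] at this

theorem two_ne_zero_of_odd_card {F : Type*} [Field F] [Fintype F] (h : Odd (Fintype.card F)) : (2 : F) ≠ 0 := by
  intro h2
  obtain ⟨k, hk⟩ := h
  have h1 : (Fintype.card F : F) = 0 := FiniteField.cast_card_eq_zero F
  rw [hk] at h1
  push_cast at h1
  rw [h2] at h1
  simp at h1

section symp
variable {F : Type*} [Field F] [Fintype F] {V : Type*} [AddCommGroup V] [Module F V] [FiniteDimensional F V]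
variable {S : PForm (sympP F) V}

theorem symp_hΛ (h2 : (2 : F) ≠ 0) : ∀ a ∈ (sympP F).Λ, ∃ c, a = c - (sympP F).ε * RingHom.id F c :=
  fun a _ => ⟨a / 2, by simp; field_simp; ring⟩

theorem symp_tr (hS : S.Nondeg) : Tr S := fun u u' _ h0 _ h0' => by
  obtain ⟨g, hg⟩ := hS.witt_vec h0 h0' trivial
  exact ⟨⟨g, hS.symp_E_eq_top ▸ trivial⟩, hg⟩

theorem symp_sq {n : ℕ} (hV : finrank F V = 2 * n) :
    (Fintype.card F ^ (n - 1)) ^ 2 = Nat.card F ^ (finrank F V - 2) := by
  rw [← pow_mul, Nat.card_eq_fintype_card, hV]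
  congr 1
  omega

variable {K M : Type*} [Field K] [AddCommGroup M] [Module K M] [FiniteDimensional K M] (ρ : S.E →* End K M)

theorem symp_D (hS : S.Nondeg) (ho : Odd (Fintype.card F)) {n : ℕ} (hV : finrank F V = 2 * n) {u : V}
    (h0 : u ≠ 0) {α : F → K} (hα : ∃ a, α a ≠ 1) (h : WT ρ u α ≠ ⊥) {u' : V} (h0' : u' ≠ 0) :
    finrank K (WT ρ u' fun _ => 1) + (Fintype.card F - 1) / 2 * Fintype.card F ^ (n - 1) ≤ finrank K M := by
  classical
  refine le_trans ?_ (D_norm ρ hS (symp_hΛ (two_ne_zero_of_odd_card ho)) (symp_tr hS) trivial h0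
    (by simpa using hα) h (symp_sq hV) trivial h0')
  refine Nat.add_le_add_left (Nat.mul_le_mul_right _ ?_) _
  have := card_image_norm (F := F) (k := 2) two_pos
  simp only [sq] at this
  refine Nat.div_le_of_le_mul ?_
  exact this

theorem symp_big (hS : S.Nondeg) (ho : Odd (Fintype.card F)) {n : ℕ} (hV : finrank F V = 2 * n) {u : V}
    (h0 : u ≠ 0) {α : F → K} (hα : ∃ a, α a ≠ 1) (h : WT ρ u α ≠ ⊥) {u' : V} (h0' : u' ≠ 0) {s : F}
    (hs : ¬ IsSquare s) (h' : WT ρ u' (fun a => α (s * a)) ≠ ⊥) :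
    (Fintype.card F - 1) * Fintype.card F ^ (n - 1) ≤ finrank K M := by
  classical
  have hΛ := symp_hΛ (two_ne_zero_of_odd_card ho)
  have hT := symp_tr hS
  have hs0 : s ≠ 0 := fun e => hs (e ▸ IsSquare.zero)
  have := D_bound ρ hΛ (u := u) trivial (by simpa using hα) h (Finset.univ.erase 0) (by simp)
    (fun _ _ => rfl) (r := Fintype.card F ^ (n - 1)) fun t ht => by
      have ht0 := Finset.ne_of_mem_erase ht
      by_cases hsq : IsSquare t
      · obtain ⟨c, rfl⟩ := hsq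
        exact (heis_le ρ hS hΛ trivial h0 (by simpa using hα) h (symp_sq hV)).trans
          (hT.finrank_le_norm ρ trivial h0 α (left_ne_zero_of_mul ht0))
      · have h1 : IsSquare (t * s) := by
          rw [← quadraticChar_one_iff_isSquare (mul_ne_zero ht0 hs0), map_mul,
            quadraticChar_neg_one_iff_not_isSquare.2 hsq, quadraticChar_neg_one_iff_not_isSquare.2 hs]
          norm_num
        obtain ⟨c, hc⟩ := h1
        have hc0 : c / s ≠ 0 := div_ne_zero (by rintro rfl; simp [ht0, hs0] at hc) hs0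
        obtain ⟨a, ha⟩ := hα
        refine (heis_le ρ hS hΛ trivial h0' ⟨s⁻¹ * a, trivial, by rwa [mul_inv_cancel_left₀ hs0]⟩ h'
          (symp_sq hV)).trans ((hT.finrank_le ρ trivial h0' trivial h0 _).trans
          ((hT.finrank_le_norm ρ trivial h0 _ hc0).trans (le_of_eq ?_)))
        refine congrArg (fun p : Submodule K M => finrank K p) (WT_congr ρ u fun a _ => ?_)
        congr 1
        simp only [RingHom.id_apply]
        field_simp
        linear_combination (-a) * hc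
  rw [Finset.card_erase_of_mem (Finset.mem_univ _), Finset.card_univ] at this
  omega

theorem symp_min {M : Type*} [AddCommGroup M] [Module ℂ M] [FiniteDimensional ℂ M] (ρ : S.E →* End ℂ M)
    (hS : S.Nondeg) (ho : Odd (Fintype.card F)) {n : ℕ} (hV : finrank F V = 2 * n) (h : ∃ g, ρ g ≠ 1) :
    (Fintype.card F ^ n - 1) / 2 ≤ finrank ℂ M := by
  obtain ⟨u0, a0, -, h0, -, ha0⟩ := exists_transv_ne_one ρ (by rw [hS.symp_T_eq_top, hS.symp_E_eq_top]) h
  obtain ⟨α0, hα0, hW0⟩ := exists_WT ρ (u := u0) trivial ha0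
  obtain ⟨U, hU, hUn⟩ := hS.symp_exists_ts n hV.ge
  have hn : 1 ≤ n := by
    have : Nontrivial V := ⟨⟨u0, 0, h0⟩⟩
    have := finrank_pos (R := F) (M := V)
    omega
  obtain ⟨m, rfl⟩ : ∃ m, n = m + 1 := ⟨n - 1, by omega⟩
  have hq : 2 ≤ Fintype.card F := Fintype.one_lt_card
  by_contra hlt
  push Not at hlt
  have key := dbl hU ρ (D := (Fintype.card F - 1) / 2 * Fintype.card F ^ m)
    (fun u _ hu => symp_D ρ hS ho hV h0 ⟨a0, hα0⟩ hW0 hu) fun θ hθ u hu w => by
      have hu' : ∃ a, (θ (sA hU u 0 a) : ℂ) ≠ 1 := by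
        obtain ⟨a, -, ha⟩ := hu
        exact ⟨a, fun e => ha (Units.ext e)⟩
      have hadd : ∀ (v : U) a b, (θ (sA hU v 0 (a + b)) : ℂ) = θ (sA hU v 0 a) * θ (sA hU v 0 b) :=
        fun v a b => by rw [sA_add hU v trivial trivial, map_mul, Units.val_mul]
      have hz : ∀ v : U, (θ (sA hU v 0 0) : ℂ) = 1 := fun v => by rw [sA_zero, map_one, Units.val_one]
      obtain ⟨b, hb⟩ := exists_shift (α := fun a => (θ (sA hU u 0 a) : ℂ))
        (χ := fun a => (θ (sA hU w 0 a) : ℂ)) (hz u) (hadd u) hu' (hz w) (hadd w)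
      obtain ⟨g, hg⟩ := exists_shift (α := fun a => (θ (sA hU u 0 a) : ℂ))
        (χ := fun c => (θ (sA hU w (c • u) 0) : ℂ)) (hz u) (hadd u) hu'
        (by simp only [zero_smul, hz]) fun a b => by
          simp only [add_smul, sA_add', map_mul, Units.val_mul]
      have e : ∀ x a, (θ (sA hU (w + x • u) 0 a) : ℂ) = θ (sA hU u 0 ((x * x + g * x + b) * a)) :=
        fun x a => by
          rw [sA_decomp hU w u x (a := a) trivial, map_mul, map_mul, Units.val_mul, Units.val_mul]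
          rw [hb, hg, ← hadd, ← hadd]
          congr 3
          simp only [sympP_ε, RingHom.id_apply]
          ring
      by_cases hsq : ∀ x, IsSquare (x * x + g * x + b)
      · obtain ⟨x, hx⟩ := exists_root_of_forall_isSquare (two_ne_zero_of_odd_card ho) hsq
        exact ⟨x, fun a _ => Units.ext (by rw [e, hx, zero_mul, hz, Units.val_one])⟩
      exfalso
      push Not at hsq
      obtain ⟨x, hx⟩ := hsq
      have hs0 : x * x + g * x + b ≠ 0 := fun e => hx (e ▸ IsSquare.zero)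
      have hu0 : (u : V) ≠ 0 := fun e => by
        obtain ⟨a, ha⟩ := hu'
        rw [show u = 0 from Subtype.ext e, sA_zero_left, map_one] at ha
        exact ha rfl
      have hw0 : ((w + x • u : U) : V) ≠ 0 := fun e' => by
        obtain ⟨a, ha⟩ := hu'
        have := e x ((x * x + g * x + b)⁻¹ * a)
        rw [show w + x • u = 0 from Subtype.ext e', sA_zero_left, map_one, mul_inv_cancel_left₀ hs0] at this
        exact ha this.symm
      have h1 := symp_big ρ hS ho hV hu0 hu' (fun e => hθ (eq_bot_iff.2 (e ▸ WU_le_WT hU ρ θ u))) hw0 hx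
        fun e' => hθ (eq_bot_iff.2 (by
          rw [← e']
          exact (WU_le_WT hU ρ θ _).trans (le_of_eq (WT_congr ρ _ fun a _ => e x a))))
      rw [Nat.add_sub_cancel] at h1
      have h2 : (Fintype.card F ^ (m + 1) - 1) / 2 ≤ (Fintype.card F - 1) * Fintype.card F ^ m := by
        obtain ⟨k, hk⟩ : ∃ k, Fintype.card F = k + 2 := ⟨_, (Nat.sub_add_cancel hq).symm⟩
        rw [hk, pow_succ, show k + 2 - 1 = k + 1 from rfl]
        refine Nat.div_le_of_le_mul ((Nat.sub_le _ _).trans ?_)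
        nlinarith [Nat.zero_le (k * (k + 2) ^ m)]
      omega
  rw [card_submodule, hUn, Nat.card_eq_fintype_card] at key
  obtain ⟨k, hk⟩ := ho
  have hk0 : 0 < k := by omega
  rw [hk, show (2 * k + 1 - 1) / 2 = k by omega, show 2 * k + 1 - 1 = 2 * k by omega, ← hk] at key
  have hpos : 0 < k * Fintype.card F ^ (m + 1) := by positivity
  have h3 : Fintype.card F ^ (m + 1) - 1 ≤ 2 * finrank ℂ M := by
    refine Nat.le_of_mul_le_mul_left (le_of_eq_of_le ?_ (key.trans (le_of_eq ?_))) hpos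
    · ring
    · ring
  omega

end symp

section unit
variable {F : Type*} [Field F] [Fintype F] {V : Type*} [AddCommGroup V] [Module F V] [FiniteDimensional F V]
variable {σ : F →+* F} {hσ : ∀ a, σ (σ a) = a} (hne : σ ≠ RingHom.id F) {S : PForm (unitP σ hσ) V}
include hne

theorem unit_hΛ : ∀ a ∈ (unitP σ hσ).Λ, ∃ c, a = c - (unitP σ hσ).ε * σ c := fun a ha => by
  obtain ⟨θ, hθ⟩ := exists_trace_one hσ hne
  have h : a + σ a = 0 := ha
  exact ⟨a * θ, by simp only [unitP_ε, map_mul]; linear_combination (-a) * hθ + σ θ * h⟩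

theorem unit_tr (hS : S.Nondeg) (h3 : 3 ≤ finrank F V) : Tr S := fun u u' hu h0 hu' h0' => by
  obtain ⟨g, hg⟩ := hS.witt_vec h0 h0' ((unitP σ hσ).Λ.sub_mem hu' hu)
  obtain ⟨f, H⟩ := hS.exists_isHyp hu h0
  have hY := hS.restrict_perp H.nondeg
  have := H.finrank_perp
  obtain ⟨v, hv, hv1⟩ := unit_exists_norm_mem hne hY (by omega) (map_one σ)
  obtain ⟨g', hg', hd, -⟩ := exists_det_eq_of_ne (S := S) (v := v) (by rw [hv1]; exact one_ne_zero)
    ⟨_, hS.det_mem_normOne g⁻¹⟩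
  refine ⟨⟨g * g', ?_⟩, ?_⟩
  · rw [← H.unit_SIsom_eq_E hne hS]
    change S.detHom _ = 1
    rw [map_mul, hd, ← map_mul, mul_inv_cancel, map_one]
  · change g.1 (g'.1 u) = u'
    rw [hg' u (S.mem_perp_singleton.2 (S.h_swap_zero (S.mem_perp_pair.1 hv).1)), hg]

theorem unit_min {M : Type*} [AddCommGroup M] [Module ℂ M] [FiniteDimensional ℂ M] (ρ : S.E →* End ℂ M)
    (hS : S.Nondeg) {q : ℕ} (hF : Fintype.card F = q ^ 2) {n m : ℕ} (hV : finrank F V = n) (h3 : 3 ≤ n)
    (hex : ¬ (n = 3 ∧ q = 2)) (hm : 1 ≤ m) (hmn : 2 * m ≤ n) (h : ∃ g, ρ g ≠ 1) :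
    (q ^ (2 * m) - 1) * q ^ (n - 2 * m) ≤ (q + 1) * finrank ℂ M := by
  classical
  have hF' : Nat.card F = q ^ 2 := by rw [Nat.card_eq_fintype_card, hF]
  have hq := two_le_of_card_sq hF'
  obtain ⟨u0, a0, hs0, h0, hΛ0, ha0⟩ := exists_transv_ne_one ρ (hS.unit_T_eq_E hne hF' (by rwa [hV])) h
  obtain ⟨α0, hα0, hW0⟩ := exists_WT ρ hs0 ha0
  obtain ⟨U, hU, hUn⟩ := hS.unit_exists_ts hne m (by omega)
  obtain ⟨c0, hc0⟩ := exists_trace_one hσ hne
  have key := dbl hU ρ (D := (q - 1) * q ^ (n - 2))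
    (fun u hu hu0 => by
      refine le_trans ?_ (D_norm ρ hS (unit_hΛ hne) (unit_tr hne hS (by omega)) hs0 h0 ⟨a0, hΛ0, hα0⟩ hW0
        (r := q ^ (n - 2)) (by rw [hF', hV, ← pow_mul, ← pow_mul, mul_comm]) (hU.sing u hu) hu0)
      refine Nat.add_le_add_left (Nat.mul_le_mul_right _ ?_) _
      have := card_image_norm (F := F) (k := q + 1) (by omega)
      have e : q ^ 2 - 1 = (q + 1) * (q - 1) := by simpa using Nat.sq_sub_sq q 1
      rw [hF, e] at this
      refine (Nat.le_of_mul_le_mul_left this (by omega)).trans (le_of_eq ?_)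
      congr 1
      convert rfl using 3 with c
      rw [unit_σ_eq hσ hne hF', pow_succ'])
    fun θ hθ u hu w => by
      have hδ : ∀ c : F, c - σ c ∈ (unitP σ hσ).Λ := fun c => by simpa using (unitP σ hσ).sub_mem c
      have hadd : ∀ (v : U) {a b}, a ∈ (unitP σ hσ).Λ → b ∈ (unitP σ hσ).Λ →
          (θ (sA hU v 0 (a + b)) : ℂ) = θ (sA hU v 0 a) * θ (sA hU v 0 b) :=
        fun v a b ha hb => by rw [sA_add hU v ha hb, map_mul, Units.val_mul]
      have hadd' : ∀ (v : U) a b, (θ (sA hU v 0 (a + b - σ (a + b))) : ℂ) =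
          θ (sA hU v 0 (a - σ a)) * θ (sA hU v 0 (b - σ b)) := fun v a b => by
        rw [← hadd v (hδ a) (hδ b), map_add σ]
        congr 3
        ring
      have hz : ∀ v : U, (θ (sA hU v 0 0) : ℂ) = 1 := fun v => by rw [sA_zero, map_one, Units.val_one]
      have hz' : ∀ v : U, (θ (sA hU v 0 (0 - σ 0)) : ℂ) = 1 := fun v => by rw [map_zero, sub_zero, hz]
      have hu' : ∃ c, (θ (sA hU u 0 (c - σ c)) : ℂ) ≠ 1 := by
        obtain ⟨a, ha, ha1⟩ := hu
        obtain ⟨c, rfl⟩ := unit_hΛ hne a ha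
        exact ⟨c, fun e => ha1 (Units.ext (by simpa using e))⟩
      obtain ⟨b, hb⟩ := exists_shift (α := fun a => (θ (sA hU u 0 (a - σ a)) : ℂ))
        (χ := fun a => (θ (sA hU w 0 (a - σ a)) : ℂ)) (hz' u) (hadd' u) hu' (hz' w) (hadd' w)
      obtain ⟨g, hg⟩ := exists_shift (α := fun a => (θ (sA hU u 0 (a - σ a)) : ℂ))
        (χ := fun c => (θ (sA hU w (c • u) 0) : ℂ)) (hz' u) (hadd' u) hu'
        (by simp only [zero_smul, hz]) fun a b => by
          simp only [add_smul, sA_add', map_mul, Units.val_mul]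
      obtain ⟨y, hy⟩ := exists_norm_eq hσ hne (μ := σ g * g - (b * c0 + σ (b * c0)))
        (by simp only [map_sub, map_add, map_mul, hσ]; ring)
      refine ⟨y + σ g, fun a ha => Units.ext ?_⟩
      have ha' : a + σ a = 0 := ha
      have h1 : a = a * c0 - σ (a * c0) := by rw [map_mul]; linear_combination (-a) * hc0 + σ c0 * ha'
      have h2 : (y + σ g) * σ (y + σ g) * a ∈ (unitP σ hσ).Λ := by
        have := (unitP σ hσ).conj_mem (y + σ g) a ha
        convert this using 1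
        ring
      rw [sA_decomp hU w u _ ha, map_mul, map_mul, Units.val_mul, Units.val_mul]
      have h3 := hb (a * c0)
      rw [← h1] at h3
      rw [h3, hg, ← hadd u (hδ _) (hδ _), ← hadd u (add_mem (hδ _) (hδ _)) h2, Units.val_one, ← hz u]
      congr 3
      have h4 : σ a = -a := by linear_combination ha'
      simp only [unitP_ε, map_mul, map_neg, map_add, hσ, h4, map_one] at hy ⊢
      linear_combination a * hy
  rw [card_submodule, hUn, hF', ← pow_mul] at key
  have e : q ^ 2 - 1 = (q + 1) * (q - 1) := by simpa using Nat.sq_sub_sq q 1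
  have hpos : 0 < (q - 1) * q ^ (2 * m) := Nat.mul_pos (by omega) (by positivity)
  refine Nat.le_of_mul_le_mul_left (le_of_eq_of_le ?_ (key.trans (le_of_eq ?_))) hpos
  · have : q ^ (2 * m) * q ^ (n - 2 * m) = q ^ 2 * q ^ (n - 2) := by
      rw [← pow_add, ← pow_add]; congr 1; omega
    calc _ = (q - 1) * (q ^ (2 * m) - 1) * (q ^ (2 * m) * q ^ (n - 2 * m)) := by ring
      _ = _ := by rw [this]; ring
  · rw [e]; ring

end unit

end H24
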