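import Cfsg.Agent.H24.OmP

/-! The parabolic `P_1` of an orthogonal group: Eichler elements `xe`, weight spaces `OJ`, the action `oact`, the Levi
embedding `oemb`, transitivity on spheres (`orth_E_vec`), small representations (`Sph`, `one_sph`, `trace_long`). -/

set_option autoImplicit false
set_option linter.unusedSectionVars false

namespace H24
open Module H11 H11.PForm Finset
open scoped Classical

theorem exists_eqv_proj {G M : Type*} [Group G] [Finite G] [AddCommGroup M] [Module ℂ M] (ρ : G →* End ℂ M)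
    (K : Subgroup G) (N : Submodule ℂ M) (hN : ∀ g ∈ K, ∀ m ∈ N, ρ g m ∈ N) :
    ∃ π : End ℂ M, (∀ m, π m ∈ N) ∧ (∀ m ∈ N, π m = m) ∧ ∀ g ∈ K, ∀ m, π (ρ g m) = ρ g (π m) := by
  have := Fintype.ofFinite K
  let σ : Representation ℂ K M := ρ.comp K.subtype
  obtain ⟨U, hU⟩ := H5.exists_compl (ρ := σ) ⟨N, fun g m hm => hN g g.2 m hm⟩
  replace hU : IsCompl N U.toSubmodule := hU
  let π := N.subtype ∘ₗ N.projectionOnto U.toSubmodule hU
  have h1 : ∀ a ∈ N, π a = a := fun a ha => congrArg Subtype.val (Submodule.projectionOnto_apply_left hU ⟨a, ha⟩)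
  have h2 : ∀ a ∈ U.toSubmodule, π a = 0 := fun a ha =>
    congrArg Subtype.val (Submodule.projectionOnto_apply_right hU ⟨a, ha⟩)
  refine ⟨π, fun m => Subtype.mem _, h1, fun g hg m => ?_⟩
  obtain ⟨a, ha, b, hb, rfl⟩ := Submodule.mem_sup.1 (hU.sup_eq_top ▸ Submodule.mem_top (x := m))
  simp only [map_add]
  rw [h1 a ha, h1 _ (hN g hg a ha), h2 b hb, h2 (ρ g b) (U.apply_mem_toSubmodule ⟨g, hg⟩ hb)]
  simp

section gen
variable {F : Type*} [Field F] {V : Type*} [AddCommGroup V] [Module F V] {S : PForm (orthP F) V}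

variable (S) in
/-- orthogonal Eichler elements -/
noncomputable def xe (e x : V) : S.E := ee S e x (S.q x)

theorem xe_eq {e x : V} (h : S.q x = 0) : xe S e x = ee S e x 0 := by rw [xe, h]

theorem xe_apply {e x : V} (he : S.q e = 0) (hx : S.h e x = 0) (y : V) :
    (xe S e x).1.1 y = y + S.h e y • x - (S.h x y + S.q x * S.h e y) • e := by
  rw [xe, ee_coe, eich_apply (ECond.of_q ((orth_sing S e).2 he) hx)]
  simp

theorem xe_self (e x : V) : (xe S e x).1.1 e = e := eich_apply_self _ _ _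

theorem xe_perp {e x y : V} (h : S.h e y = 0) (h' : S.h x y = 0) : (xe S e x).1.1 y = y := eich_apply_of_perp_perp h h'

theorem xe_add {e x y : V} (he : S.q e = 0) (hx : S.h e x = 0) (hy : S.h e y = 0) :
    xe S e (x + y) = xe S e x * xe S e y := Subtype.ext (orth_eich_add he hx hy)

theorem xe_zero (e : V) : xe S e 0 = 1 := Subtype.ext (by rw [xe, ee_coe, orth_q_zero, eich_zero]; rfl)

theorem xe_conj (g : S.E) (e x : V) : xe S (g.1.1 e) (g.1.1 x) * g = g * xe S e x := Subtype.ext (by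
  have := orth_conj_eich g.1 e x
  simp only [Subgroup.coe_mul, xe, ee_coe, ← this, inv_mul_cancel_right])

theorem xe_smul {e x : V} (he : S.q e = 0) (hx : S.h e x = 0) (c : F) : xe S (c • e) x = xe S e (c • x) :=
  Subtype.ext (isom_ext fun y => by
    rw [xe_apply (by simp [orth_q_smul, he]) (by simp [hx]), xe_apply he (by simp [hx])]
    simp only [map_smul, LinearMap.smul_apply, orth_q_smul, smul_eq_mul]
    module)

theorem xe_add_e {e x : V} (he : S.q e = 0) (hx : S.h e x = 0) (c : F) : xe S e (x + c • e) = xe S e x := by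
  have h1 : S.h e e = 0 := by simp [orth_h_self, he]
  have h2 := S.h_swap_zero hx
  refine Subtype.ext (isom_ext fun y => ?_)
  rw [xe_apply he (by simp [hx, h1]), xe_apply he hx]
  simp only [map_smul, map_add, LinearMap.smul_apply, LinearMap.add_apply, orth_q_smul, orth_q_add, smul_eq_mul, he, h2]
  module

theorem xe_swap {e x : V} (he : S.q e = 0) (hq : S.q x = 0) (hx : S.h e x = 0) : xe S x e = xe S e (-x) :=
  Subtype.ext (isom_ext fun y => by
    rw [xe_apply hq (S.h_swap_zero hx), xe_apply he (by simp [hx])]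
    simp only [map_neg, LinearMap.neg_apply, orth_q_neg, he, hq]
    module)

theorem E_inv_apply {g : S.E} {x y : V} (h : g.1.1 x = y) : (g⁻¹).1.1 y = x := h ▸ isom_inv_apply_self g.1 x

variable {M : Type*} [AddCommGroup M] [Module ℂ M] (ρ : S.E →* End ℂ M) (ψ : AddChar F ℂ)

/-- weight spaces of `X(e)` -/
noncomputable def OJ (e w : V) : Submodule ℂ M := jes (fun x : S.perp (F ∙ e) => ρ (xe S e x)) fun x => ψ (S.h x w)

variable {ρ ψ}
theorem mem_OJ {e w : V} {m : M} : m ∈ OJ ρ ψ e w ↔ ∀ x, S.h e x = 0 → ρ (xe S e x) m = ψ (S.h x w) • m :=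
  ⟨fun h x hx => h ⟨x, S.mem_perp_singleton.2 hx⟩, fun h x => h x (S.mem_perp_singleton.1 x.2)⟩

theorem mem_OJ_zero {e : V} {m : M} : m ∈ OJ ρ ψ e 0 ↔ ∀ x, S.h e x = 0 → ρ (xe S e x) m = m := by simp [mem_OJ]

theorem OJ_map (g : S.E) {e w : V} {m : M} (hm : m ∈ OJ ρ ψ e w) : ρ g m ∈ OJ ρ ψ (g.1.1 e) (g.1.1 w) :=
  mem_OJ.2 fun x hx => by
    rw [← isom_apply_inv_self g.1 x, isom_h] at hx
    rw [← isom_apply_inv_self g.1 x, ← End.mul_apply, ← map_mul, xe_conj, map_mul, End.mul_apply, mem_OJ.1 hm _ hx,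
      map_smul, isom_h]

theorem OJ_fix {g : S.E} {e w : V} (he : g.1.1 e = e) (hw : g.1.1 w = w) {m : M} (hm : m ∈ OJ ρ ψ e w) :
    ρ g m ∈ OJ ρ ψ e w := by simpa only [he, hw] using OJ_map g hm

theorem OJ_add_e {e : V} (w : V) (c : F) : OJ ρ ψ e (w + c • e) = OJ ρ ψ e w := by
  ext m
  simp only [mem_OJ]
  exact forall₂_congr fun x hx => by simp [S.h_swap_zero hx]

theorem OJ_smul {e : V} (he : S.q e = 0) (w : V) {c : F} (hc : c ≠ 0) : OJ ρ ψ (c • e) (c • w) = OJ ρ ψ e w := by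
  ext m
  simp only [mem_OJ]
  refine ⟨fun h x hx => ?_, fun h x hx => ?_⟩
  · have := h (c⁻¹ • x) (by simp [hx])
    rw [xe_smul he (by simp [hx]), smul_inv_smul₀ hc] at this
    simpa [hc] using this
  · have hx' : S.h e x = 0 := by simpa [hc] using hx
    rw [xe_smul he hx', h _ (by simp [hx'])]
    simp

theorem comm_of_finrank_one {p : Submodule ℂ M} (hp : finrank ℂ p = 1) {a b : End ℂ M} (ha : ∀ m ∈ p, a m ∈ p)
    (hb : ∀ m ∈ p, b m ∈ p) {m : M} (hm : m ∈ p) : a (b m) = b (a m) := by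
  obtain ⟨v, -, h⟩ := finrank_eq_one_iff'.1 hp
  obtain ⟨s, hs⟩ := h ⟨_, ha _ v.2⟩
  obtain ⟨t, ht⟩ := h ⟨_, hb _ v.2⟩
  obtain ⟨r, hr⟩ := h ⟨_, hm⟩
  have e1 : a v = s • v.1 := (congrArg Subtype.val hs).symm
  have e2 : b v = t • v.1 := (congrArg Subtype.val ht).symm
  rw [show m = r • v.1 from (congrArg Subtype.val hr).symm]
  simp only [map_smul, e1, e2]
  module

theorem OJ_triv {e w a x : V} (h1 : finrank ℂ (OJ ρ ψ e w) = 1) (ha : S.q a = 0) (hx : S.h a x = 0)
    (he : S.h a e = 0) (hw : S.h a w = 0) (he' : S.h x e = 0) (hw' : S.h x w = 0) {g : S.E} (g1 : g.1.1 e = e)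
    (g2 : g.1.1 w = w) {c : F} (g3 : g.1.1 a = c • a) {m : M} (hm : m ∈ OJ ρ ψ e w) :
    ρ (xe S a (c • g.1.1 x - x)) m = m := by
  have h2 : S.h (c • a) (g.1.1 x) = 0 := by rw [← g3, isom_h, hx]
  have hc : c ≠ 0 ∨ a = 0 := by
    by_contra h
    push Not at h
    exact h.2 (by simpa [h.1] using g3)
  have h3 : S.h a (c • g.1.1 x) = 0 := by simpa using h2
  have h4 : S.h a (g.1.1 x) = 0 := by
    rcases hc with h | h
    · simpa [h] using h2
    · simp [h]
  have h5 := xe_conj g a x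
  rw [g3, xe_smul ha h4, ← add_sub_cancel x (c • g.1.1 x), xe_add ha hx (by simp [h3, hx])] at h5
  have h6 := OJ_fix (E_inv_apply g1) (E_inv_apply g2) hm
  have h7 := congrArg (fun k => ρ k (ρ g⁻¹ m)) h5
  simp only [map_mul, End.mul_apply] at h7
  rw [comm_of_finrank_one h1 (a := ρ g) (fun _ => OJ_fix g1 g2) (fun _ => OJ_fix (xe_perp he he') (xe_perp hw hw')) h6,
    ← End.mul_apply (ρ g), ← map_mul, mul_inv_cancel, map_one, End.one_apply] at h7
  exact rep_inj' ρ _ h7

variable [FiniteDimensional F V]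

theorem exists_perp_pair (hS : S.Nondeg) {Y : Submodule F V} (h : 2 * finrank F Y < finrank F V) (c : F) :
    ∃ b ∈ S.perp Y, ∃ x ∈ S.perp Y, S.h b x = c := by
  have h1 := hS.finrank_perp Y
  obtain ⟨x, hx, hx'⟩ := SetLike.not_le_iff_exists.1 fun h2 : S.perp Y ≤ Y => by
    have := Submodule.finrank_mono h2
    omega
  rw [← hS.perp_perp Y, S.mem_perp] at hx'
  push Not at hx'
  obtain ⟨b, hb, hb'⟩ := hx'
  exact ⟨(c / S.h b x) • b, Submodule.smul_mem _ _ hb, x, hx, by simp [hb']⟩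

theorem OJ_triv' (hS : S.Nondeg) {e w a u : V} (h1 : finrank ℂ (OJ ρ ψ e w) = 1) (ha : S.q a = 0) (hu : S.q u = 0)
    (hx : S.h a u = 0) (he : S.h a e = 0) (hw : S.h a w = 0) (he' : S.h u e = 0) (hw' : S.h u w = 0)
    {Y : Submodule F V} (h : 2 * finrank F Y < finrank F V) (y1 : e ∈ Y) (y2 : w ∈ Y) (y3 : a ∈ Y) (y4 : u ∈ Y)
    {m : M} (hm : m ∈ OJ ρ ψ e w) : ρ (xe S a u) m = m := by
  obtain ⟨b, hb, x, hx', h2⟩ := exists_perp_pair hS h (-1)
  have := OJ_triv h1 ha (hx' _ y3) he hw (S.h_swap_zero (hx' _ y1)) (S.h_swap_zero (hx' _ y2)) (g := xe S u b)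
    (xe_perp he' (S.h_swap_zero (hb _ y1))) (xe_perp hw' (S.h_swap_zero (hb _ y2))) (c := 1)
    (by rw [one_smul, xe_perp (S.h_swap_zero hx) (S.h_swap_zero (hb _ y3))]) hm
  rw [xe_apply hu (hb _ y4), hx' _ y4, h2] at this
  simpa using this

variable [Fintype F]

theorem exists_perp_q (hS : S.Nondeg) {w : V} (h : 4 ≤ finrank F V ∨ (3 ≤ finrank F V ∧ S.q w ≠ 0)) (hw : w ≠ 0)
    (c : F) : ∃ a, S.h w a = 0 ∧ S.q a = c := by
  by_cases h1 : S.q w = 0
  · obtain ⟨f, H⟩ := hS.exists_isHyp ((orth_sing S w).2 h1) hw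
    have := H.finrank_perp
    have := h.resolve_right fun h => h.2 h1
    obtain ⟨a, ha, h2⟩ := orth_exists_q_eq_mem (hS.restrict_perp H.nondeg) (by omega) c
    exact ⟨a, (S.mem_perp_pair.1 ha).1, h2⟩
  by_cases h2 : S.h w w = 0
  · obtain ⟨s, hs⟩ := isSquare_of_two_eq_zero (F := F) (by simpa [orth_h_self, h1] using h2) (c / S.q w)
    exact ⟨s • w, by simp [h2], by rw [orth_q_smul, sq, ← hs, div_mul_cancel₀ _ h1]⟩
  · have := finrank_perp_singleton h2
    have : 3 ≤ finrank F V := by omega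
    obtain ⟨a, ha, h2⟩ := orth_exists_q_eq_mem (hS.restrict_perp (nondeg_singleton h2)) (by omega) c
    exact ⟨a, S.mem_perp_singleton.1 ha, h2⟩

theorem exists_sqSign_eq (hS : S.Nondeg) (g : S.Isom) : ∃ c : F, c ≠ 0 ∧ sqSign c = hS.spin g := by
  rcases Int.units_eq_one_or (hS.spin g) with h | h
  · exact ⟨1, one_ne_zero, h ▸ sqSign_one⟩
  · obtain ⟨c, hc, h'⟩ := exists_not_isSquare (F := F) fun h2 => by simp [hS.spin_of_two h2] at h
    exact ⟨c, hc, h ▸ sqSign_eq_neg_one_iff.2 h'⟩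

theorem exists_E_adjust (hS : S.Nondeg) (h3 : 3 ≤ finrank F V) (g : S.Isom) {X : Set V}
    (h : ∀ c, ∃ a, (∀ x ∈ X, S.h x a = 0) ∧ S.q a = c) : ∃ k : S.E, ∀ x, g.1 x ∈ X → k.1.1 x = g.1 x := by
  obtain ⟨e, f, H⟩ := hS.orth_exists_hyp h3
  obtain ⟨c, hc, hc'⟩ := exists_sqSign_eq hS g
  obtain ⟨a, ha, rfl⟩ := h c
  obtain ⟨b, hb, hb'⟩ := h 1
  have hb0 : S.q b ≠ 0 := hb' ▸ one_ne_zero
  rcases Int.units_eq_one_or (hS.dick g) with h1 | h1
  · refine ⟨⟨S.refl b * (S.refl a * g), (hS.mem_E_iff h3 H _).2 ⟨?_, ?_⟩⟩, fun x hx => ?_⟩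
    · simp [hS.dick_refl hc, hS.dick_refl hb0, h1]
    · simp [hS.spin_refl hc, hS.spin_refl hb0, hc', hb', sqSign_one]
    · simp only [isom_mul_apply]
      rw [refl_apply_of_perp (S.h_swap_zero (ha _ hx)), refl_apply_of_perp (S.h_swap_zero (hb _ hx))]
  · refine ⟨⟨S.refl a * g, (hS.mem_E_iff h3 H _).2 ⟨?_, ?_⟩⟩, fun x hx => ?_⟩
    · simp [hS.dick_refl hc, h1]
    · simp [hS.spin_refl hc, hc']
    · simp only [isom_mul_apply]
      rw [refl_apply_of_perp (S.h_swap_zero (ha _ hx))]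

theorem orth_E_vec (hS : S.Nondeg) {x y : V} (h : 4 ≤ finrank F V ∨ (3 ≤ finrank F V ∧ S.q y ≠ 0)) (hx : x ≠ 0)
    (hy : y ≠ 0) (hq : S.q y = S.q x) : ∃ g : S.E, g.1.1 x = y := by
  obtain ⟨g, rfl⟩ := hS.witt_vec hx hy (by simp [hq])
  obtain ⟨k, hk⟩ := exists_E_adjust hS (by omega) g (X := {g.1 x}) fun c => by simpa using exists_perp_q hS h hy c
  exact ⟨k, hk x rfl⟩
end gen

section sph
variable {F : Type*} [Field F] [Fintype F] {V : Type*} [AddCommGroup V] [Module F V] [FiniteDimensional F V]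
  {S : PForm (orthP F) V} {M : Type*} [AddCommGroup M] [Module ℂ M]

variable (S) in
/-- the complement of a hyperbolic pair -/
abbrev OW (e f : V) : Submodule F V := S.perp (Submodule.span F {e, f})

theorem OW_e {e f : V} (x : OW S e f) : S.h e x = 0 := (S.mem_perp_pair.1 x.2).1
theorem OW_f {e f : V} (x : OW S e f) : S.h f x = 0 := (S.mem_perp_pair.1 x.2).2

variable {e f : V} (H : S.IsHyp e f) (ρ : S.E →* End ℂ M) {ψ : AddChar F ℂ} (hψ : ψ ≠ 1) (hS : S.Nondeg)

include H in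
theorem OW_finrank : finrank F (OW S e f) + 2 = finrank F V := H.finrank_perp

/-- the action of the unipotent radical -/
noncomputable def oact : Act (OW S e f) ℂ M :=
  Act.ofRep ρ (fun x => xe S e x) fun x y => xe_add H.orth_q_e (OW_e x) (OW_e y)

/-- the pairing given by the form -/
noncomputable def opair {V : Type*} [AddCommGroup V] [Module F V] {S : PForm (orthP F) V} (hS : S.Nondeg) :
    Pairing V V ℂ := Pairing.ofBilin ψ (fun x w => S.h x w) (by simp) (by simp)
  (fun a h => hS a fun y => eq_zero_of_forall_addChar_mul hψ fun c => by simpa using h (c • y))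
  fun a h => hS a fun y => eq_zero_of_forall_addChar_mul hψ fun c => by simpa [S.orth_symm a y] using h (c • y)

include H in
theorem sub_mem_OW {x : V} (hx : S.h e x = 0) : x + (-S.h f x) • e ∈ OW S e f :=
  S.mem_perp_pair.2 ⟨by simp [hx, H.h_ee], by simp [H.orth_h_fe]⟩

theorem oact_W (w : OW S e f) : (oact H ρ).W (opair hψ (hS.restrict_perp H.nondeg)) w = OJ ρ ψ e w := by
  ext m
  refine ⟨fun h => mem_OJ.2 fun x hx => ?_, fun h x => mem_OJ.1 h x (OW_e x)⟩
  have : ρ (xe S e (x + _)) m = ψ (S.h (x + _) w) • m := h ⟨_, sub_mem_OW H hx⟩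
  rw [xe_add_e H.orth_q_e hx] at this
  simpa [OW_e w] using this

/-- the Levi embedding -/
noncomputable def oemb : (S.restrict (OW S e f)).E →* S.E :=
  ((ext2 H.nondeg).comp (Subgroup.subtype _)).codRestrict _ fun g => ext2_mem_E _ g.2

theorem oemb_e (g) : (oemb H g).1.1 e = e := ext2_left _ _ (Submodule.subset_span (by simp))
theorem oemb_f (g) : (oemb H g).1.1 f = f := ext2_left _ _ (Submodule.subset_span (by simp))
theorem oemb_W (g) (x : OW S e f) : (oemb H g).1.1 x = g.1.1 x := ext2_right _ _ x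
theorem oemb_xe (u v : OW S e f) : oemb H (xe (S.restrict (OW S e f)) u v) = xe S u v := Subtype.ext (ext2_eich _ _ _ _)

variable (ψ) in
/-- the fixed space of the unipotent radical as a module for the Levi factor -/
noncomputable def orep : (S.restrict (OW S e f)).E →* End ℂ (OJ ρ ψ e 0) :=
  Representation.subrepresentation (ρ.comp (oemb H)) _ fun g _ hm => OJ_fix (oemb_e H g) (map_zero _) hm

theorem orep_apply (g) (m : OJ ρ ψ e 0) : (orep H ρ ψ g m : M) = ρ (oemb H g) m := rfl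

variable (S) in
/-- nonzero vectors of given norm -/
noncomputable def sph (c : F) : ℕ := Nat.card {w // w ≠ 0 ∧ S.q w = c}

theorem sph_eq (c : F) : (sph S c : ℤ) = S.cnt c - if c = 0 then 1 else 0 := by
  have : Finite V := Module.finite_of_finite F
  have : Fintype V := Fintype.ofFinite V
  have h := card_filter_add_card_filter_not (s := univ.filter fun w => S.q w = c) fun w => w = 0
  rw [sph, orth_cnt_def, Nat.card_eq_fintype_card, Nat.card_eq_fintype_card, Fintype.card_subtype, Fintype.card_subtype,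
    ← h, filter_filter, filter_filter, filter_congr (q := fun w => S.q w = c ∧ ¬ w = 0) fun _ _ => and_comm,
    filter_congr (p := fun w => S.q w = c ∧ w = 0) (q := fun w => w = 0 ∧ c = 0) fun w _ => by
      by_cases h : w = 0 <;> simp [h, eq_comm (a := c), orth_q_zero]]
  split_ifs with h
  · rw [show #{w : V | w = 0 ∧ c = 0} = 1 from card_eq_one.2 ⟨0, by ext; simp [h]⟩]
    push_cast
    ring
  · simp [h]

theorem sph_card [Fintype (OW S e f)] (c : F) :
    sph (S.restrict (OW S e f)) c = #(univ.filter fun w : OW S e f => w ≠ 0 ∧ S.q w = c) := by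
  rw [sph, Nat.card_eq_fintype_card, Fintype.card_subtype]
  congr

variable (ψ e) in
/-- the nonzero weights form one sphere and have multiplicity one -/
def Sph (c : F) : Prop := ∀ w, S.h e w = 0 → w ∉ F ∙ e → finrank ℂ (OJ ρ ψ e w) = if S.q w = c then 1 else 0

include H in
theorem OW_notMem {w : OW S e f} (hw : w ≠ 0) : w.1 ∉ F ∙ e := fun h => by
  obtain ⟨c, hc⟩ := Submodule.mem_span_singleton.1 h
  have := OW_f w
  rw [← hc, map_smul, H.orth_h_fe, smul_eq_mul, mul_one] at this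
  exact hw (Subtype.ext (by simp [← hc, this]))

include hS in
theorem card_q_h [Fintype V] {u v : V} (hu : S.h u v = 0) (hv : S.q v = 0) (hi : v ∉ F ∙ u) (c : F) {t : F} (ht : t ≠ 0) :
    Fintype.card F * #{w | S.h u w = 0 ∧ S.q w = c ∧ S.h v w = t} =
      Fintype.card F ^ (finrank F V - finrank F ↥(F ∙ u ⊔ F ∙ v)) := by
  have h := hS.card_partner (F ∙ u) (d := t⁻¹ • v) ((orth_sing _ _).2 (by simp [orth_q_smul, hv]))
    (fun h => hi (by simpa [ht] using Submodule.smul_mem _ t h)) (S.mem_perp_singleton.2 (by simp [hu])) c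
  rw [Submodule.span_singleton_smul_eq (by simpa using ht), Nat.card_eq_fintype_card, Nat.card_eq_fintype_card,
    Fintype.card_subtype] at h
  simp only [orthP_Λ, AddSubgroup.card_bot, mul_one] at h
  rw [card_submodule, Nat.card_eq_fintype_card (α := F)] at h
  rw [← hS.finrank_perp (F ∙ u ⊔ F ∙ v), Nat.add_sub_cancel_left, ← h]
  congr 2
  ext w
  simp [mem_perp_singleton, sub_eq_zero, eq_comm (a := c), inv_mul_eq_one₀ ht, eq_comm (a := t)]

variable [FiniteDimensional ℂ M]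
include H hψ hS

theorem finrank_OJ_le {w w' : OW S e f} (h : 6 ≤ finrank F V ∨ (5 ≤ finrank F V ∧ S.q w ≠ 0)) (h1 : w ≠ 0) (h2 : w' ≠ 0)
    (hq : S.q w' = S.q w) : finrank ℂ (OJ ρ ψ e w) ≤ finrank ℂ (OJ ρ ψ e w') := by
  have := H.finrank_perp
  obtain ⟨g, hg⟩ := orth_E_vec (hS.restrict_perp H.nondeg) (h.imp (by omega) fun h => ⟨by omega, hq ▸ h.2⟩) h1 h2 hq
  exact Act.finrank_le_of_map (rep_inj' ρ (oemb H g)) fun m hm => by
    simpa only [oemb_e, oemb_W, hg] using OJ_map (oemb H g) hm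

theorem card_OW_ne [Fintype (OW S e f)] : (Fintype.card (OW S e f) : ℂ) ≠ 0 := Nat.cast_ne_zero.2 Fintype.card_ne_zero

theorem sum_OJ [Fintype (OW S e f)] : ∑ w : OW S e f, finrank ℂ (OJ ρ ψ e w) = finrank ℂ M := by
  rw [← (oact H ρ).sum_finrank_W (opair hψ (hS.restrict_perp H.nondeg)) (card_OW_ne H hψ hS)]
  exact sum_congr rfl fun w _ => by rw [oact_W H ρ hψ hS]

theorem exists_OJ (h5 : 5 ≤ finrank F V) (hN : ∃ g, ρ g ≠ 1) :
    ∃ w : OW S e f, w ≠ 0 ∧ 1 ≤ finrank ℂ (OJ ρ ψ e w) := by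
  have := OW_finrank H
  have : Finite V := Module.finite_of_finite F
  have : Fintype (OW S e f) := Fintype.ofFinite _
  obtain ⟨v, hv, hq⟩ := orth_exists_sing (S.restrict (OW S e f)) (by omega)
  replace hq : S.q v = 0 := hq
  have h1 := ee_ne_one hS h5 ρ hN H.orth_q_e hq (OW_e v) ((LinearIndependent.pair_iff' H.e_ne).2 fun a h =>
    OW_notMem H hv (Submodule.mem_span_singleton.2 ⟨a, h⟩))
  rw [← xe_eq hq] at h1
  obtain ⟨w, h2, h3⟩ := (oact H ρ).exists_W_ne_bot (opair hψ (hS.restrict_perp H.nondeg)) (card_OW_ne H hψ hS) (a := v) h1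
  exact ⟨w, fun h => h2 (by rw [h, Pairing.zero_right]), one_le_finrank_of_ne_bot (oact_W H ρ hψ hS w ▸ h3)⟩

theorem sph_le (h : 6 ≤ finrank F V) {w : OW S e f} (hw : w ≠ 0) (s : Finset (OW S e f))
    (hs : ∀ x ∈ s, x = 0 ∨ S.q x ≠ S.q w) : ∑ x ∈ s, finrank ℂ (OJ ρ ψ e x) +
      sph (S.restrict (OW S e f)) (S.q w) * finrank ℂ (OJ ρ ψ e w) ≤ finrank ℂ M := by
  have : Finite V := Module.finite_of_finite F
  have : Fintype (OW S e f) := Fintype.ofFinite _
  rw [← sum_OJ H ρ hψ hS, sph_card,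
    ← sum_filter_add_sum_filter_not univ fun x : OW S e f => x ≠ 0 ∧ S.q x = S.q w, add_comm]
  refine Nat.add_le_add (card_nsmul_le_sum _ _ _ fun x hx => ?_) (sum_le_sum_of_subset fun x hx => ?_)
  · exact finrank_OJ_le H ρ hψ hS (Or.inl h) hw (mem_filter.1 hx).2.1 (mem_filter.1 hx).2.2
  · simpa [imp_iff_not_or] using hs x hx

theorem exists_sph_le (h : 6 ≤ finrank F V) (hN : ∃ g, ρ g ≠ 1) :
    ∃ c, finrank ℂ (OJ ρ ψ e 0) + sph (S.restrict (OW S e f)) c ≤ finrank ℂ M := by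
  obtain ⟨w, hw, h1⟩ := exists_OJ H ρ hψ hS (by omega) hN
  have := sph_le H ρ hψ hS h hw {0} (by simp)
  rw [sum_singleton] at this
  exact ⟨S.q w, le_trans (Nat.add_le_add_left (Nat.le_mul_of_pos_right _ h1) _) this⟩

theorem one_sph (h : 6 ≤ finrank F V) (hN : ∃ g, ρ g ≠ 1)
    (hs : ∀ c, finrank ℂ M < 2 * sph (S.restrict (OW S e f)) c) : ∃ c, Sph e ρ ψ c := by
  have : Finite V := Module.finite_of_finite F
  have : Fintype (OW S e f) := Fintype.ofFinite _
  obtain ⟨w, hw, h1⟩ := exists_OJ H ρ hψ hS (by omega) hN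
  have key : ∀ x : OW S e f, x ≠ 0 → finrank ℂ (OJ ρ ψ e x) = if S.q x = S.q w then 1 else 0 := fun x hx => by
    have h2 := sph_le H ρ hψ hS h hx ∅ (by simp)
    have h3 := hs (S.q x)
    rw [sum_empty, zero_add] at h2
    split_ifs with h4
    · have := finrank_OJ_le H ρ hψ hS (Or.inl h) hw hx h4
      by_contra h5
      have := Nat.mul_le_mul_left (sph (S.restrict (OW S e f)) (S.q x)) (show 2 ≤ finrank ℂ (OJ ρ ψ e x) by omega)
      omega
    · have h5 := sph_le H ρ hψ hS h hx (univ.filter fun y => y ≠ 0 ∧ S.q y = S.q w) fun y hy =>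
        Or.inr fun e => h4 (e ▸ (mem_filter.1 hy).2.2)
      have h6 := card_nsmul_le_sum (univ.filter fun y : OW S e f => y ≠ 0 ∧ S.q y = S.q w) _ 1 fun y hy =>
        h1.trans (finrank_OJ_le H ρ hψ hS (Or.inl h) hw (mem_filter.1 hy).2.1 (mem_filter.1 hy).2.2)
      have h7 := hs (S.q w)
      rw [sph_card] at h7
      rw [smul_eq_mul, mul_one] at h6
      by_contra h8
      have := Nat.le_mul_of_pos_right (sph (S.restrict (OW S e f)) (S.q x)) (Nat.pos_of_ne_zero h8)
      omega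
  refine ⟨S.q w, fun x hx hx' => ?_⟩
  have := key ⟨_, sub_mem_OW H hx⟩ fun h => hx' (Submodule.mem_span_singleton.2 ⟨S.h f x, by
    have := congrArg Subtype.val h
    simp only [neg_smul, ZeroMemClass.coe_zero, add_neg_eq_zero] at this
    exact this.symm⟩)
  rw [OJ_add_e] at this
  simpa [orth_q_add, orth_q_smul, orth_q_neg, H.orth_q_e, S.h_swap_zero hx] using this

variable {c : F} (hc : Sph e ρ ψ c)
include hc

theorem Sph.sum [Fintype (OW S e f)] (φ : OW S e f → ℂ) : ∑ w : OW S e f, φ w * finrank ℂ (OJ ρ ψ e w) =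
    φ 0 * finrank ℂ (OJ ρ ψ e 0) + ∑ w ∈ univ.filter fun w : OW S e f => w ≠ 0 ∧ S.q w = c, φ w := by
  rw [← add_sum_erase _ _ (mem_univ 0), sum_congr rfl fun w hw => by
    rw [hc w (OW_e w) (OW_notMem H (ne_of_mem_erase hw))], ← filter_ne', ← filter_filter, sum_filter (s := filter _ _)]
  simp

theorem Sph.finrank_eq : finrank ℂ M = finrank ℂ (OJ ρ ψ e 0) + sph (S.restrict (OW S e f)) c := by
  have : Finite V := Module.finite_of_finite F
  have : Fintype (OW S e f) := Fintype.ofFinite _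
  have h := hc.sum H ρ hψ hS fun _ => 1
  simp only [one_mul, sum_const, nsmul_eq_mul, mul_one] at h
  rw [← Nat.cast_sum, sum_OJ H ρ hψ hS] at h
  rw [sph_card]
  exact_mod_cast h

theorem trace_long {v : V} (h1 : S.h e v = 0) (hv : S.q v = 0) (hi : v ∉ F ∙ e) :
    LinearMap.trace ℂ M (ρ (xe S e v)) = finrank ℂ M - Fintype.card F ^ (finrank F V - 3) := by
  have : Finite V := Module.finite_of_finite F
  have : Fintype (OW S e f) := Fintype.ofFinite _
  have hW : (S.restrict (OW S e f)).Nondeg := hS.restrict_perp H.nondeg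
  let v' : OW S e f := ⟨_, sub_mem_OW H h1⟩
  have h2 : (S.restrict (OW S e f)).q v' = 0 := by
    simp [v', orth_q_add, orth_q_smul, orth_q_neg, H.orth_q_e, S.h_swap_zero h1, hv]
  have h3 : v' ≠ 0 := fun h => hi (Submodule.mem_span_singleton.2 ⟨S.h f v, by
    have := congrArg Subtype.val h
    simp only [v', neg_smul, ZeroMemClass.coe_zero, add_neg_eq_zero] at this
    exact this.symm⟩)
  obtain ⟨f', H'⟩ := hW.exists_isHyp ((orth_sing _ _).2 h2) h3
  have h4 := (oact H ρ).trace_π (opair hψ hW) (card_OW_ne H hψ hS) v'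
  have h5 := hc.sum H ρ hψ hS fun w => 1 - ψ (S.h v' w)
  have h6 := OW_finrank H
  have h7 := OW_finrank H'
  rw [sum_congr rfl fun w _ => by rw [oact_W H ρ hψ hS]] at h4
  rw [← xe_add_e H.orth_q_e h1 (-S.h f v), ← sum_OJ H ρ hψ hS]
  refine h4.trans (eq_sub_of_add_eq (eq_sub_iff_add_eq'.1 (Eq.symm ?_)))
  rw [Nat.cast_sum, ← sum_sub_distrib]
  simp only [sub_mul, one_mul] at h5
  refine h5.trans ?_
  rw [← sum_fiberwise _ fun w : OW S e f => S.h v' w, sum_congr rfl (g := fun t => (1 - ψ t) *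
    Fintype.card F ^ (finrank F V - 4)) fun t _ => by
      rw [sum_congr rfl fun w hw => by rw [(mem_filter.1 hw).2], sum_const, nsmul_eq_mul, mul_comm]
      by_cases ht : t = 0
      · simp [ht]
      have h8 := card_q_h hW (u := 0) (by simp) h2 (by simpa using h3) c ht
      rw [Submodule.span_zero_singleton, bot_sup_eq, finrank_span_singleton h3,
        show finrank F (OW S e f) - 1 = finrank F V - 4 + 1 by omega, pow_succ'] at h8
      rw [← Nat.cast_pow, ← Nat.eq_of_mul_eq_mul_left Fintype.card_pos h8, filter_filter]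
      congr 3
      ext w
      by_cases h : w = 0 <;> simp [h, Ne.symm ht], ← sum_mul, sum_sub_distrib, AddChar.sum_eq_zero_of_ne_one hψ,
    show finrank F V - 3 = finrank F V - 4 + 1 by omega]
  simp [pow_succ']
end sph

end H24
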