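import Cfsg.Agent.H24.ASys
import Cfsg.Agent.H24.LSsl
import Cfsg.Agent.H11.Levi

/-! The parabolic `P_n` of `Ω⁺_{2n}(q)`: the system `omS g₀ : ASys`, non-triviality of the Levi factor on the fixed space
(`om_fixed`) and the number of totally singular pairs (`card_tsPairs`). -/

set_option autoImplicit false
set_option linter.unusedSectionVars false

namespace H24
open Module H11 H11.PForm Finset Matrix
open scoped Classical

section gen
variable {F : Type*} [Field F] {V : Type*} [AddCommGroup V] [Module F V] {S : PForm (orthP F) V}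

theorem orth_econd {u v : V} (hu : S.q u = 0) (hv : S.q v = 0) (h : S.h u v = 0) : S.ECond u v 0 :=
  ⟨(orth_sing S u).2 hu, h, by simp [hv]⟩

theorem ee_apply {u v : V} (hu : S.q u = 0) (hv : S.q v = 0) (h : S.h u v = 0) (x : V) :
    (ee S u v 0).1.1 x = x + S.h u x • v - S.h v x • u := by
  rw [ee_coe, eich_apply (orth_econd hu hv h)]
  simp

theorem ee_conj (k : S.E) (u v : V) : ee S u v 0 * k = k * ee S (k⁻¹.1.1 u) (k⁻¹.1.1 v) 0 := by
  apply Subtype.ext
  rw [Subgroup.coe_mul, Subgroup.coe_mul, ee_coe, ee_coe, ← conj_eich (k⁻¹).1 u v 0, Subgroup.coe_inv]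
  group

variable [Fintype F] [FiniteDimensional F V]

theorem ee_ne_one (hS : S.Nondeg) (h5 : 5 ≤ finrank F V) {M : Type*} [AddCommGroup M] [Module ℂ M]
    (ρ : S.E →* End ℂ M) (h : ∃ g, ρ g ≠ 1) {u v : V} (hu : S.q u = 0) (hv : S.q v = 0) (huv : S.h u v = 0)
    (hi : LinearIndependent F ![u, v]) : ρ (ee S u v 0) ≠ 1 := fun e => by
  have hu0 : u ≠ 0 := hi.ne_zero 0
  obtain ⟨f, H⟩ := hS.exists_isHyp ((orth_sing S u).2 hu) hu0
  have hE := hS.orth_commutator_eq_E (Or.inr (Or.inl (by omega))) (by omega)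
  have hp := hS.orth_omega_perfect h5
  rw [hE] at hp
  rcases H.normal_E_dichotomy hS (Or.inr (by omega)) (fun _ _ _ _ _ _ _ => Or.inr h5) rfl hp ρ.ker
    inferInstance with h1 | h1
  · obtain ⟨c, hc'⟩ := (H.mem_center_iff_scalar hS (Or.inr (by omega)) le_rfl _).1 (h1 e)
    have e0 := hc' u
    have e1 := hc' f
    rw [ee_coe, eich_apply_self] at e0
    have c1 : c = 1 := smul_left_injective F hu0 (by simpa using e0.symm)
    rw [ee_apply hu hv huv, c1, one_smul, H.h_ef, one_smul, add_sub_assoc, add_eq_left, sub_eq_zero] at e1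
    exact (LinearIndependent.pair_iff' hu0).1 hi _ e1.symm
  · obtain ⟨g, hg⟩ := h
    exact hg ((Subgroup.eq_top_iff' _).1 h1 g)

theorem card_tsPairs (hS : S.Nondeg) {n : ℕ} (hV : finrank F V = 2 * (n + 1)) (hT : S.HasTS (n + 1)) :
    (Nat.card {p : V × V // S.q p.1 = 0 ∧ S.q p.2 = 0 ∧ S.h p.1 p.2 = 0 ∧ LinearIndependent F ![p.1, p.2]} : ℤ) =
      ((Fintype.card F : ℤ) ^ (n + 1) - 1) * (Fintype.card F ^ n + 1) *
        (Fintype.card F ^ (2 * n) + Fintype.card F ^ (n + 1) - Fintype.card F ^ n - Fintype.card F) := by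
  have : Finite V := Module.finite_of_finite F
  have : Fintype V := Fintype.ofFinite V
  have h1 := orth_cnt_even 0 (n + 1) hS hV
  rw [if_pos hT, if_pos rfl, Nat.card_eq_fintype_card] at h1
  have hq : (0 : ℤ) < Fintype.card F := by exact_mod_cast Fintype.card_pos
  have h2 : (S.cnt 0 : ℤ) = Fintype.card F ^ (2 * n + 1) + (Fintype.card F - 1) * Fintype.card F ^ n :=
    mul_left_cancel₀ hq.ne' (by rw [h1]; ring)
  have h3 : ∀ u, (Nat.card {v // S.q u = 0 ∧ S.q v = 0 ∧ S.h u v = 0 ∧ LinearIndependent F ![u, v]} : ℤ) =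
      if u ≠ 0 ∧ S.Sing u then
        (Fintype.card F ^ (2 * n) + Fintype.card F ^ (n + 1) - Fintype.card F ^ n - Fintype.card F : ℤ) else 0 := fun u => by
    split_ifs with hu
    · obtain ⟨f, H⟩ := hS.exists_isHyp hu.2 hu.1
      have h4 := H.finrank_perp
      have h5 := TS.card_perp_norm hS (W := F ∙ u) (ts_span (by simpa using hu.2) (by simpa using hu.2.h_self))
        (hS.restrict_perp H.nondeg) (fun x hx => S.mem_perp_singleton.2 (S.mem_perp_pair.1 hx).1)
        (by rw [finrank_span_singleton hu.1, h4]) 0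
      have h6 := H.cnt_eq 0
      have h7 := card_filter_add_card_filter_not (s := univ.filter fun y => y ∈ S.perp (F ∙ u) ∧ 0 - S.q y ∈ (orthP F).Λ)
        fun y => y ∈ F ∙ u
      have h8 : Nat.card (F ∙ u) = Fintype.card F := by
        rw [card_submodule, finrank_span_singleton hu.1, pow_one, Nat.card_eq_fintype_card]
      rw [h8, Nat.card_eq_fintype_card, Fintype.card_subtype] at h5
      rw [card_submodule, show finrank F (S.perp (Submodule.span F {u, f})) = 2 * n by omega,
        Nat.card_eq_fintype_card, ← h5, ← h7] at h6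
      have hu2 := (orth_sing S u).1 hu.2
      rw [filter_filter, filter_filter, filter_congr (q := fun y => y ∈ F ∙ u) fun y _ => ⟨And.right, fun h => by
        obtain ⟨c, rfl⟩ := Submodule.mem_span_singleton.1 h
        simp [mem_perp_singleton, hu.2.h_self, (orth_sing S _).1 (hu.2.smul c), h]⟩, ← Fintype.card_subtype,
        ← Nat.card_eq_fintype_card, h8] at h6
      rw [Nat.card_eq_fintype_card, Fintype.card_subtype, filter_congr (q := fun y => (y ∈ S.perp (F ∙ u) ∧
        0 - S.q y ∈ (orthP F).Λ) ∧ y ∉ F ∙ u) fun y _ => by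
          simp [hu2, mem_perp_singleton, LinearIndependent.pair_iff' hu.1, Submodule.mem_span_singleton]
          tauto]
      zify [Fintype.card_pos (α := F)] at h6
      simp only [orthP_Λ, AddSubgroup.card_bot] at h6 ⊢
      rw [h2] at h6
      linear_combination -h6
    · rw [Nat.cast_eq_zero, Nat.card_eq_zero]
      exact Or.inl ⟨fun v => hu ⟨v.2.2.2.2.ne_zero 0, (orth_sing S u).2 v.2.1⟩⟩
  have h4 := S.card_sing_ne_zero
  rw [Nat.card_eq_fintype_card, Fintype.card_subtype] at h4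
  have h5 : 1 ≤ S.cnt 0 := by
    rw [cnt_zero]
    exact Nat.card_pos_iff.2 ⟨⟨⟨0, S.sing_zero⟩⟩, inferInstance⟩
  rw [card_subtype_prod fun u v => S.q u = 0 ∧ S.q v = 0 ∧ S.h u v = 0 ∧ LinearIndependent F ![u, v], Nat.cast_sum,
    sum_congr rfl fun u _ => h3 u, ← sum_filter, sum_const, h4, nsmul_eq_mul, Nat.cast_sub h5, h2]
  push_cast
  ring
end gen

section plus
variable {F : Type*} [Field F] [Fintype F] {n : ℕ}

/-- the standard totally singular subspace -/
def ιU (n : ℕ) (F : Type*) [Field F] : (Fin n → F) →ₗ[F] (Fin n ⊕ Fin n → F) where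
  toFun x := Sum.elim x 0
  map_add' x y := by ext (i | i) <;> simp
  map_smul' c x := by ext (i | i) <;> simp

@[simp] theorem ιU_inl (x : Fin n → F) (i : Fin n) : ιU n F x (.inl i) = x i := rfl
@[simp] theorem ιU_inr (x : Fin n → F) (i : Fin n) : ιU n F x (.inr i) = 0 := rfl
theorem q_ιU (g : (sPlus n F).Isom) (x : Fin n → F) : (sPlus n F).q (g.1 (ιU n F x)) = 0 := by
  rw [← orth_sing, isom_sing, orth_sing]
  simp [qPlus_apply]
theorem h_ιU (g : (sPlus n F).Isom) (x y : Fin n → F) : (sPlus n F).h (g.1 (ιU n F x)) (g.1 (ιU n F y)) = 0 := by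
  rw [isom_h]
  simp [qPlus_polar]
theorem leviO_ιU (A : GL (Fin n) F) (x : Fin n → F) : (leviO n F A).1 (ιU n F x) = ιU n F (A.1 *ᵥ x) := by
  rw [leviO_apply, leviGL_mulVec, show ιU n F x ∘ Sum.inr = 0 from rfl, mulVec_zero]
  rfl

variable (h3 : 3 ≤ n)
include h3

theorem leviO_mem {A : GL (Fin n) F} (h : IsSquare A.1.det) : leviO n F A ∈ (sPlus n F).E :=
  ((sPlus_nondeg n F).mem_E_iff (by rw [finrank_sum_fun]; omega) (sPlus_isHyp ⟨0, by omega⟩) _).2
    ⟨dick_leviO (Or.inr (Or.inl (by rw [finrank_sum_fun]; omega))) A, (spin_leviO A).trans (sqSign_eq_one_iff.2 h)⟩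

/-- the system attached to the subspace `g₀ U` -/
noncomputable def omS (g₀ : (sPlus n F).Isom) : ASys F (Fin n → F) (sPlus n F).E where
  s x y := ee (sPlus n F) (g₀.1 (ιU n F x)) (g₀.1 (ιU n F y)) 0
  add_right x y y' := Subtype.ext (isom_ext fun z => by
    change _ = (ee _ _ _ 0).1.1 ((ee _ _ _ 0).1.1 z)
    simp only [ee_apply (q_ιU g₀ _) (q_ιU g₀ _) (h_ιU g₀ _ _)]
    simp only [map_add, map_sub, map_smul, h_ιU, smul_zero, LinearMap.add_apply]
    module)
  add_left x y y' := Subtype.ext (isom_ext fun z => by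
    change _ = (ee _ _ _ 0).1.1 ((ee _ _ _ 0).1.1 z)
    simp only [ee_apply (q_ιU g₀ _) (q_ιU g₀ _) (h_ιU g₀ _ _)]
    simp only [map_add, map_sub, map_smul, h_ιU, smul_zero, LinearMap.add_apply]
    module)
  smul c x y := Subtype.ext (isom_ext fun z => by
    simp only [ee_apply (q_ιU g₀ _) (q_ιU g₀ _) (h_ιU g₀ _ _)]
    simp only [map_smul, LinearMap.smul_apply]
    module)
  self c x := Subtype.ext (isom_ext fun z => by
    change _ = z
    simp only [ee_apply (q_ιU g₀ _) (q_ιU g₀ _) (h_ιU g₀ _ _)]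
    simp only [map_smul, LinearMap.smul_apply]
    module)
  comm x y x' y' := Subtype.ext (isom_ext fun z => by
    change (ee _ _ _ 0).1.1 ((ee _ _ _ 0).1.1 z) = (ee _ _ _ 0).1.1 ((ee _ _ _ 0).1.1 z)
    simp only [ee_apply (q_ιU g₀ _) (q_ιU g₀ _) (h_ιU g₀ _ _), map_add, map_sub, map_smul, h_ιU]
    simp only [smul_zero]
    module)
  levi g c hc h := by
    have hd : (LinearMap.toMatrix' g).det = c * c := by rw [LinearMap.det_toMatrix', h]
    let k : (sPlus n F).E := ⟨_, (instNormalE _).conj_mem _ (leviO_mem h3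
      (A := GeneralLinearGroup.mkOfDetNeZero _ (hd ▸ mul_ne_zero hc hc)) ⟨c, hd⟩) g₀⟩
    have hk : ∀ x, k.1.1 (g₀.1 (ιU n F x)) = g₀.1 (ιU n F (g x)) := fun x => by
      change g₀.1 ((leviO n F _).1 ((g₀⁻¹).1 (g₀.1 _))) = _
      rw [isom_inv_apply_self, leviO_ιU]
      simp
    exact ⟨k⁻¹, fun x y => by rw [ee_conj, inv_inv, hk, hk]⟩

theorem omS_s (g₀ : (sPlus n F).Isom) (x y : Fin n → F) :
    (omS h3 g₀).s x y = ee (sPlus n F) (g₀.1 (ιU n F x)) (g₀.1 (ιU n F y)) 0 := rfl

/-- the Levi embedding of `SL_n` -/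
noncomputable def levS : SpecialLinearGroup (Fin n) F →* (sPlus n F).E :=
  ((leviO n F).comp SpecialLinearGroup.toGL).codRestrict _ fun A => leviO_mem h3 (by simp)

theorem levS_s (A : SpecialLinearGroup (Fin n) F) (x y : Fin n → F) :
    (omS h3 1).s x y * levS h3 A = levS h3 A * (omS h3 1).s (A⁻¹.1 *ᵥ x) (A⁻¹.1 *ᵥ y) := by
  rw [omS_s, ee_conj, ← map_inv, omS_s]
  exact congrArg₂ (fun a b => _ * ee _ a b 0) (leviO_ιU _ x) (leviO_ιU _ y)

theorem levS_transv {i j : Fin n} (h : i ≠ j) (a b : F) :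
    levS h3 ⟨transvection i j (-(a * b)), det_transvection_of_ne _ _ h _⟩ =
      ee (sPlus n F) (ιU n F (Pi.single i a)) (Pi.single (.inr j) b) 0 := Subtype.ext (isom_ext fun z => by
  refine Eq.trans ?_ (ee_apply (by simp [qPlus_apply]) (by simp [qPlus_apply])
    (by simp [qPlus_polar, Pi.single_apply, h.symm]) z).symm
  change (leviO n F _).1 z = _
  rw [leviO_apply, leviGL_mulVec]
  change Sum.elim (transvection i j (-(a * b)) *ᵥ _) ((transvection i j (-(a * b)))⁻¹ᵀ *ᵥ _) = _
  rw [inv_eq_right_inv (B := transvection i j (a * b)) (by simp [transvection_mul_transvection_same _ _ h])]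
  ext (k | k) <;> simp [transvection, add_mulVec, single_mulVec, qPlus_polar, Pi.single_apply, Function.update_apply] <;>
    split_ifs <;> ring)

variable {M : Type*} [AddCommGroup M] [Module ℂ M] [FiniteDimensional ℂ M] (ρ : (sPlus n F).E →* End ℂ M)
  {ψ : AddChar F ℂ}

theorem mem_J_refl {j : Fin n} {v : M} {B : (Fin n → F) →ₗ[F] (Fin n → F) →ₗ[F] F} (hv : v ∈ (omS h3 1).J ρ ψ B)
    (hB : ∀ x y, x j = 0 → y j = 0 → B x y = 0)
    (h : ∀ i a b, i ≠ j → ρ (ee (sPlus n F) (ιU n F (Pi.single i a)) (Pi.single (.inr j) b) 0) v = v) :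
    v ∈ (omS h3 ((sPlus n F).refl (Pi.single (.inl j) 1 - Pi.single (.inr j) 1))).J ρ ψ 0 := by
  set g := (sPlus n F).refl (Pi.single (.inl j) 1 - Pi.single (.inr j) 1)
  have hq : qPlus n F (Pi.single (.inl j) 1 - Pi.single (.inr j) 1) = -1 := by
    simp [qPlus_apply, Pi.single_apply]
  have g1 : ∀ i a, i ≠ j → g.1 (ιU n F (Pi.single i a)) = ιU n F (Pi.single i a) := fun i a hi =>
    refl_apply_of_perp (by simp [qPlus_polar, Pi.single_apply, hi])
  have g2 : ∀ a, g.1 (ιU n F (Pi.single j a)) = Pi.single (.inr j) a := fun a => by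
    rw [refl_apply]
    ext (k | k) <;> simp [hq, qPlus_polar, Pi.single_apply]
  have k1 : ∀ i a i' b, i ≠ j → ρ ((omS h3 g).s (Pi.single i a) (Pi.single i' b)) v = v := fun i a i' b hi => by
    by_cases hi' : i' = j
    · rw [omS_s, g1 _ _ hi, hi', g2, h _ _ _ hi]
    · rw [omS_s, g1 _ _ hi, g1 _ _ hi']
      have := ASys.mem_J.1 hv (Pi.single i a) (Pi.single i' b)
      rw [hB _ _ (Pi.single_eq_of_ne' hi a) (Pi.single_eq_of_ne' hi' b), AddChar.map_zero_eq_one, one_smul] at this
      exact this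
  refine ASys.mem_J.2 fun x y => ?_
  simp only [LinearMap.zero_apply, AddChar.map_zero_eq_one, one_smul]
  induction x using Pi.single_induction with
  | zero => simp [ASys.zero_left]
  | add x x' h1 h2 => rw [ASys.add_left, map_mul, End.mul_apply, h2, h1]
  | single i a =>
    induction y using Pi.single_induction with
    | zero => simp [ASys.zero_right]
    | add x x' h1 h2 => rw [ASys.add_right, map_mul, End.mul_apply, h2, h1]
    | single i' b =>
      by_cases hi : i = j
      · by_cases hi' : i' = j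
        · have := (omS h3 g).self (a * b) (Pi.single j 1)
          rw [mul_smul, ← ASys.smul] at this
          simp only [← Pi.single_smul, smul_eq_mul, mul_one] at this
          simp [hi, hi', this]
        · apply rep_inj' ρ ((omS h3 g).s (Pi.single i' b) (Pi.single i a))
          rw [k1 _ _ _ _ hi', ← End.mul_apply, ← map_mul,
            (omS h3 g).swap (Pi.single i a : Fin n → F) (Pi.single i' b), inv_mul_cancel, map_one]
          rfl
      · exact k1 _ _ _ _ hi

theorem om_fixed (hψ : ψ ≠ 1) {c : F} (hc : c ≠ 0) (hc' : c * c ≠ 1)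
    (h1 : ∀ B, B ≠ 0 → DecF B → finrank ℂ ((omS h3 1).J ρ ψ B) = 1)
    (h2 : ∀ g, finrank ℂ ((omS h3 g).J ρ ψ 0) ≤ finrank ℂ ((omS h3 1).J ρ ψ 0)) :
    ∃ A, ∃ v ∈ (omS h3 1).J ρ ψ 0, ρ (levS h3 A) v ≠ v := by
  by_contra hn
  push Not at hn
  let j : Fin n := ⟨0, by omega⟩
  let l : Fin n := ⟨1, by omega⟩
  have hjl : l ≠ j := by simp [j, l]
  let B : (Fin n → F) →ₗ[F] (Fin n → F) →ₗ[F] F := LinearMap.mk₂ F (fun x y => x j * y l - x l * y j)
    (fun _ _ _ => by simp; ring) (fun _ _ _ => by simp; ring) (fun _ _ _ => by simp; ring) fun _ _ _ => by simp; ring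
  have hB : ∀ x y, B x y = x j * y l - x l * y j := fun _ _ => rfl
  have hB0 : B ≠ 0 := fun e => by simpa [e, hjl, hjl.symm] using hB (Pi.single j 1) (Pi.single l 1)
  have h4 := h1 B hB0 ⟨fun z => by rw [hB]; ring, fun x y z w => by simp only [hB]; ring⟩
  obtain ⟨⟨v, hv⟩, h0, h5⟩ := finrank_eq_one_iff'.1 h4
  have sc : ∀ k : (sPlus n F).E, ρ k v ∈ (omS h3 1).J ρ ψ B → ∃ a : ℂ, ρ k v = a • v := fun k hk =>
    (h5 ⟨_, hk⟩).imp fun a h => (congrArg Subtype.val h).symm
  let d : Fin n → F := fun i => if i = j then c⁻¹ else if i = l then c else 1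
  have hd : ∀ i, d i ≠ 0 := fun i => by simp only [d]; split_ifs <;> simp [hc]
  let D : SpecialLinearGroup (Fin n) F := ⟨diagonal d, by
    rw [det_diagonal, prod_eq_mul j l hjl.symm (fun i _ h => by simp [d, h]) (by simp) (by simp)]
    simp [d, hjl, hc]⟩
  have hD : (D⁻¹).1 = diagonal fun i => (d i)⁻¹ := by
    have : D.1 * (D⁻¹).1 = 1 := congrArg Subtype.val (mul_inv_cancel D)
    rw [← inv_eq_right_inv this]
    exact inv_eq_right_inv (by simp [D, hd])
  obtain ⟨μ, hμ⟩ := sc (levS h3 D) (ASys.J_map (levS_s h3 D) (fun x y => by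
    simp [hD, hB, mulVec_diagonal, d, hjl]; field_simp) hv)
  have h6 : ∀ i a b, i ≠ j → ρ (ee (sPlus n F) (ιU n F (Pi.single i a)) (Pi.single (.inr j) b) 0) v = v :=
    fun i a b hi => by
    let T : F → SpecialLinearGroup (Fin n) F := fun t => ⟨transvection i j t, det_transvection_of_ne _ _ hi _⟩
    have hT : ∀ s t, T s * T t = T (s + t) := fun s t => Subtype.ext (transvection_mul_transvection_same _ _ hi _ _)
    have hT0 : T 0 = 1 := Subtype.ext (transvection_zero _ _)
    have hT' : ∀ t, (T t)⁻¹ = T (-t) := fun t => inv_eq_of_mul_eq_one_right (by rw [hT, add_neg_cancel, hT0])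
    have hs : d i * c - 1 ≠ 0 := by
      simp only [d, if_neg hi]
      split_ifs
      · exact sub_ne_zero.2 hc'
      · exact sub_ne_zero.2 fun e => hc' (by simp [one_mul c ▸ e])
    have e : ∀ t, D * T t = T (d i * c * t) * D := fun t => Subtype.ext (by
      change diagonal d * transvection i j t = transvection i j _ * diagonal d
      ext p q
      simp only [transvection, Matrix.add_apply, diagonal_mul, mul_diagonal, single, of_apply]
      split_ifs with h
      · rw [← h.1, ← h.2, show d j = c⁻¹ from if_pos rfl, one_apply_ne hi]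
        field_simp
        ring
      · by_cases h' : p = q <;> simp [h', mul_comm])
    obtain ⟨t, ht⟩ : ∃ t, (d i * c - 1) * t = -(a * b) := ⟨_, mul_div_cancel₀ _ hs⟩
    obtain ⟨s, h7⟩ := sc (levS h3 (T t)) (ASys.J_map (levS_s h3 _) (fun x y => by
      rw [hT']
      change B (transvection i j (-t) *ᵥ x) (transvection i j (-t) *ᵥ y) = _
      simp [hB, transvection, add_mulVec, single_mulVec, Function.update_apply, hi.symm]
      split_ifs <;> ring) hv)
    have h8 := congrArg (fun g => ρ (levS h3 g) v) (e t)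
    rw [show d i * c * t = t + -(a * b) by linear_combination ht, ← hT] at h8
    simp only [map_mul, End.mul_apply, h7, hμ, map_smul] at h8
    have hμ0 : μ ≠ 0 := by
      rintro rfl
      exact h0 (Subtype.ext (rep_inj' ρ _ (by simpa using hμ)))
    rw [smul_comm, ← h7] at h8
    rw [← levS_transv h3 hi]
    exact (rep_inj' ρ _ (smul_right_injective _ hμ0 h8)).symm
  have h7 := Submodule.finrank_lt_finrank_of_lt (s := (omS h3 1).J ρ ψ 0) (lt_of_le_of_ne
    (fun w hw => mem_J_refl h3 ρ (j := j) hw (by simp) fun i a b hi => levS_transv h3 hi a b ▸ hn _ w hw) fun e => h0 (by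
      have := mem_J_refl h3 ρ (j := j) hv (fun x y h h' => by simp [hB, h, h']) h6
      rw [← e] at this
      exact Subtype.ext ((Submodule.disjoint_def.1 (((omS h3 1).J_indep ρ hψ).pairwiseDisjoint hB0)) v hv this)))
  exact absurd (h2 _) (not_le.2 h7)
end plus

end H24
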