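import Cfsg.Agent.H29.Q0

/-! Overgroups of `Ω₃(K)`: the piece `E1` (large intersections, by Chevalley–Warning). -/

set_option autoImplicit false
set_option linter.unusedSectionVars false

namespace H24.Q3E

open Module H11 H11.PForm H29 H29.Q3

variable {F K V : Type*} [Field F] [Field K] [Algebra F K] [AddCommGroup V] [Module F V]
  [Module K V] [IsScalarTower F K V] [FiniteDimensional F V] {S : PForm (orthP F) V}
  [Finite F] [Finite K] {φ : Dual F K} {U : PForm (orthP K) V} {H : Subgroup S.Isom}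

theorem pE1 (h : O3 φ U H) (tx : TX U H) (ca : CA U H) : E1 U H := by
  intro d u Y hM hu hu0 hY huY hd hr
  have h3 := h.dim3
  replace h := h.toOX
  haveI := h.fd
  haveI : FiniteDimensional F K := finite_of_finrank_pos h.pr.pos
  refine Submodule.eq_of_le_of_finrank_eq (fun x hx => by_contra fun hx' => ?_)
    (by rw [finrank_KL hu0, hY.finrank])
  have c : U.h u x ≠ 0 := fun a => hx' (ca d _ Y x hM (om_kl hu hu0) hY hd hx
    (by rintro _ ⟨k, rfl⟩; exact h.hz (by simp [a])))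
  obtain ⟨C, hC⟩ := Submodule.exists_isCompl (KL F K u ⊓ Y)
  let P := U.perp (Submodule.span K {u, x})
  haveI : FiniteDimensional F P := Module.Finite.trans K P
  let Y₁ := Y ⊓ C
  have hs : (KL F K u ⊓ Y) ⊔ Y₁ = Y := by
    rw [show Y₁ = C ⊓ Y from inf_comm _ _, ← sup_inf_assoc_of_le C inf_le_right, hC.sup_eq_top, top_inf_eq]
  let s : P →ₗ[F] V := P.subtype.restrictScalars F
  let b : V →ₗ[F] V →ₗ[F] K := U.h.restrictScalars₁₂ F F
  obtain ⟨w, w0, hw⟩ := cw2 (V := P) (W := Dual F Y₁)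
    ((b.compl₁₂ s s).compr₂ (((LinearMap.mul F K).compr₂ φ).flip.flip.compl₂
      ((-(U.h u x / 2) • b u) ∘ₗ Y₁.subtype))) ((S.h.compl₁₂ ((U.h u x • LinearMap.id) ∘ₗ s) Y₁.subtype)) (by
      have a1 := h.ndK.finrank_perp (Submodule.span K {u, x})
      have a2 := finrank_span_two_le (F := K) u x
      have a3 := Submodule.finrank_sup_add_finrank_inf_eq (KL F K u ⊓ Y) Y₁
      rw [hs, show (KL F K u ⊓ Y) ⊓ Y₁ = ⊥ from eq_bot_iff.2
        ((inf_le_inf_left _ inf_le_right).trans hC.inf_eq_bot.le), finrank_bot, hY.finrank] at a3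
      rw [Subspace.dual_finrank_eq, ← Module.finrank_mul_finrank F K P]
      have a4 : finrank F K ≤ finrank F K * finrank K P :=
        Nat.le_mul_of_pos_right _ (by simp only [P]; omega)
      omega)
  obtain ⟨w1, w2⟩ := U.mem_perp_pair.1 w.2
  obtain ⟨t, ht, e⟩ := h.hH _ (U.eich_mem_E u w (U.q w))
  have e3 : t.1 x = x + U.h u x • w.1 - (U.q w * U.h u x) • u := by
    simp [e, eich_apply (.of_q hu w1), U.h_swap_zero w2]
  have e4 : ∀ z ∈ Y₁, S.h z (t.1 x) = 0 := fun z hz => by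
    have := LinearMap.congr_fun hw ⟨z, hz⟩
    have h2 := h.twoK
    rw [e3, map_sub, map_add, h.ts hY hz.1 hx, S.orth_symm, ← h.hU z, zero_add,
      sub_eq_add_neg, add_comm, ← map_neg]
    refine Eq.trans (congrArg₂ _ (congrArg φ ?_) rfl) this
    simp [b, s, U.orth_h_self, U.orth_symm z]
    field_simp
  have fixD : ∀ y ∈ KL F K u ⊓ Y, t.1 y = y := by
    rintro _ ⟨⟨a, rfl⟩, -⟩
    simp [e, eich_apply_self]
  have e5 : t.1 x ∈ Y := ca d Y _ (t.1 x) hM hY (hY.map ht)
    (hd.trans_le (Submodule.finrank_mono fun y hy => ⟨hy.2, y, hy.2, fixD y hy⟩)) ⟨x, hx, rfl⟩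
    fun z hz => by
      obtain ⟨z1, a1, z2, a2, rfl⟩ := Submodule.mem_sup.1 (hs.ge hz)
      rw [map_add, LinearMap.add_apply, e4 z2 a2, add_zero, ← fixD z1 a1, isom_h, h.ts hY a1.2 hx]
  refine hx' (tx u w Y t hu hu0 w1 (fun a => ?_) hY huY ht e
    (hM.nml hY inf_le_right hd ht fixD hx e5 fun a => hx' a.1) ▸ hx)
  obtain ⟨k, hk⟩ := Submodule.mem_span_singleton.1 a
  rw [← hk, map_smul, U.orth_symm u x, smul_eq_mul, mul_eq_zero, or_iff_left c] at w2
  exact w0 (Subtype.ext (by rw [← hk, w2, zero_smul]; rfl))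

end H24.Q3E
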