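import Cfsg.Agent.H24.LinG
import Cfsg.Agent.H24.CharLemmas

/-! The permutation character of `SL ι F` on the non-zero vectors (`exists_SL_weil`): it is `1` plus `q - 1`
distinct irreducible characters.  General lemmas: `irr_of_classInner_sum_le` (a sum of `n` non-zero characters of
norm at most `n`), `classInner_fixedBy_self` (rank), `unitsPairing`, `exists_irr_ne_one`. -/

set_option autoImplicit false
set_option linter.unusedSectionVars false

namespace H24
open Matrix Module H25 H5 Cfsg

section general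
variable {G : Type*} [Group G] [Fintype G]

theorem irr_of_classInner_sum_le {J : Type*} [Fintype J] (φ : J → G → ℂ) (h : ∀ j, IsCharacter G (φ j))
    (h0 : ∀ j, φ j ≠ 0) {n : ℕ} (hn : classInner (∑ j, φ j) (∑ j, φ j) = n) (hle : n ≤ Fintype.card J) :
    (∀ j, IsIrrCharacter G (φ j)) ∧ Function.Injective φ := by
  classical
  choose m hm using fun i j => (h i).exists_classInner_nat (h j)
  have h1 : ∀ i, 1 ≤ m i i := fun i => Nat.one_le_iff_ne_zero.2 fun e => h0 i (by
    rw [← classInner_self_eq_zero, hm, e, Nat.cast_zero])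
  have h2 : ∑ i, ∑ j, m i j = n := by
    rw [classInner_sum_left] at hn
    simp only [classInner_sum_right, hm] at hn
    exact_mod_cast hn
  have h3 : ∀ i, 1 ≤ ∑ j, m i j := fun i =>
    (h1 i).trans (Finset.single_le_sum (f := m i) (fun _ _ => Nat.zero_le _) (Finset.mem_univ i))
  have h4 : ∀ i, ∑ j, m i j = 1 := by
    intro i
    have := (Finset.sum_eq_sum_iff_of_le (s := Finset.univ) (f := fun _ : J => 1)
      (g := fun i => ∑ j, m i j) (fun i _ => h3 i)).1 (le_antisymm
        (Finset.sum_le_sum fun i _ => h3 i) (by simpa [h2] using hle)) i (Finset.mem_univ i)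
    exact this.symm
  have h5 : ∀ i j, i ≠ j → m i i = 1 ∧ m i j = 0 := by
    intro i j hij
    have := Finset.add_le_sum (f := m i) (s := Finset.univ) (fun _ _ => Nat.zero_le _)
      (Finset.mem_univ i) (Finset.mem_univ j) hij
    have := h1 i
    have := h4 i
    omega
  have h6 : ∀ i, m i i = 1 := fun i => le_antisymm ((Finset.single_le_sum (f := m i)
    (fun _ _ => Nat.zero_le _) (Finset.mem_univ i)).trans (h4 i).le) (h1 i)
  refine ⟨fun j => (h j).isIrr_of_classInner_self (by rw [hm, h6, Nat.cast_one]), fun i j e => ?_⟩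
  by_contra hij
  have h7 := hm i j
  rw [← e, hm, h6, (h5 i j hij).2] at h7
  simp at h7

theorem classInner_fixedBy_self (X : Type*) [MulAction G X] [Finite X] :
    classInner (fun g : G => (Nat.card (MulAction.fixedBy X g) : ℂ))
      (fun g : G => (Nat.card (MulAction.fixedBy X g) : ℂ)) =
      Nat.card (Quotient (MulAction.orbitRel G (X × X))) := by
  classical
  have := Fintype.ofFinite X
  have := Fintype.ofFinite (Quotient (MulAction.orbitRel G (X × X)))
  have h := MulAction.sum_card_fixedBy_eq_card_orbits_mul_card_group G (X × X)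
  have h1 : ∀ g : G, Fintype.card (MulAction.fixedBy (X × X) g) =
      Nat.card (MulAction.fixedBy X g) * Nat.card (MulAction.fixedBy X g) := fun g => by
    rw [← Nat.card_prod, ← Nat.card_eq_fintype_card]
    exact Nat.card_congr ⟨fun p => (⟨p.1.1, congrArg Prod.fst p.2⟩, ⟨p.1.2, congrArg Prod.snd p.2⟩),
      fun p => ⟨(p.1.1, p.2.1), Prod.ext p.1.2 p.2.2⟩, fun _ => rfl, fun _ => rfl⟩
  simp only [h1] at h
  rw [classInner]
  simp only [map_natCast, ← Nat.cast_mul, ← Nat.cast_sum, h]
  rw [Nat.cast_mul, Nat.card_eq_fintype_card (α := Quotient _), ← Nat.card_eq_fintype_card (α := G)]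
  field_simp [card_ne_zero_complex]

theorem exists_irr_ne_one {V : Type*} [AddCommGroup V] [Module ℂ V] [FiniteDimensional ℂ V]
    (ρ : Representation ℂ G V) {g : G} (hg : ρ g ≠ 1) :
    ∃ U : Subrepresentation ρ, U.toRepresentation.IsIrreducible ∧ U.toRepresentation g ≠ 1 := by
  by_contra hc
  push Not at hc
  apply hg
  let X : Submodule ℂ V := ⨆ U : {U : Subrepresentation ρ // U.toRepresentation.IsIrreducible},
    U.1.toSubmodule
  have hX : ∀ h : G, ∀ v ∈ X, ρ h v ∈ X := fun h v hv => by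
    have : X ≤ X.comap (ρ h) := iSup_le fun U v hv =>
      le_iSup (fun U : {U : Subrepresentation ρ // U.toRepresentation.IsIrreducible} =>
        U.1.toSubmodule) U (U.1.apply_mem_toSubmodule h hv)
    exact this hv
  obtain ⟨Y, hY⟩ := H5.exists_compl (⟨X, fun h v hv => hX h v hv⟩ : Subrepresentation ρ)
  have hY0 : Y.toSubmodule = ⊥ := by
    by_contra h0
    obtain ⟨U, hU, hU'⟩ := exists_irreducible_subrep_le Y h0
    have h1 : U.toSubmodule ≤ X := le_iSup (fun U : {U : Subrepresentation ρ //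
      U.toRepresentation.IsIrreducible} => U.1.toSubmodule) ⟨U, hU'⟩
    have h2 : U.toSubmodule = ⊥ := le_bot_iff.1 (hY.disjoint h1 hU)
    have := nontrivial_of_isIrreducible U.toRepresentation
    exact Submodule.nontrivial_iff_ne_bot.1 this h2
  have hXt : X = ⊤ := by
    have := hY.sup_eq_top
    rwa [hY0, sup_bot_eq] at this
  have : X ≤ LinearMap.eqLocus (ρ g) 1 := iSup_le fun U v hv =>
    congrArg Subtype.val (LinearMap.congr_fun (hc U.1 U.2) ⟨v, hv⟩)
  exact LinearMap.ext fun v => this (hXt ▸ Submodule.mem_top)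

end general

theorem ofMulAction_sum {H X : Type*} [Group H] [MulAction H X] [Fintype X] (g : H) :
    Representation.ofMulAction ℂ H X g (∑ x, MonoidAlgebra.single x 1) =
      ∑ x, MonoidAlgebra.single x 1 := by
  simp only [map_sum, Representation.ofMulAction_single]
  exact Equiv.sum_comp (MulAction.toPerm g) fun x => MonoidAlgebra.single x (1 : ℂ)

theorem sum_single_ne_zero {X : Type*} [Fintype X] (x : X) :
    (∑ x, MonoidAlgebra.single x 1 : MonoidAlgebra ℂ X) ≠ 0 := by
  classical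
  intro h
  have := congrArg (fun f : MonoidAlgebra ℂ X => f.coeff x) h
  simp [MonoidAlgebra.coeff_sum, Finset.sum_apply, Finsupp.single_apply] at this

/-- the pairing between a finite abelian group and its dual -/
noncomputable def unitsPairing (A : Type*) [CommGroup A] [Finite A] :
    Pairing (Additive A) (Additive (A →* ℂˣ)) ℂ where
  e a θ := (θ.toMul a.toMul : ℂˣ)
  add_left a a' θ := by simp
  add_right a θ θ' := by simp
  zero_left θ := by simp
  zero_right a := by simp
  nd_left a h := by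
    by_contra ha
    obtain ⟨θ, hθ⟩ := exists_hom_ne_one (fun a b : A => mul_comm a b) (a := a.toMul) ha
    exact hθ (Units.ext (h (Additive.ofMul θ)))
  nd_right θ h := by
    apply Additive.toMul.injective
    ext a
    exact h (Additive.ofMul a)

variable {ι : Type*} [Fintype ι] [DecidableEq ι] {F : Type*} [Field F]

variable (ι F) in
/-- non-zero vectors -/
def NZ : Type _ := {v : ι → F // v ≠ 0}

instance instFiniteNZ [Finite F] : Finite (NZ ι F) := inferInstanceAs (Finite {v : ι → F // v ≠ 0})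

instance instMulActionSLNZ : MulAction (SpecialLinearGroup ι F) (NZ ι F) where
  smul g v := ⟨(g : Matrix ι ι F) *ᵥ v.1, SL_mulVec_ne_zero g v.2⟩
  one_smul v := Subtype.ext (one_mulVec v.1)
  mul_smul _ _ _ := Subtype.ext (mulVec_mulVec _ _ _).symm

instance instMulActionUnitsNZ : MulAction Fˣ (NZ ι F) where
  smul c v := ⟨(c : F) • v.1, smul_ne_zero c.ne_zero v.2⟩
  one_smul v := Subtype.ext (one_smul F v.1)
  mul_smul g h v := Subtype.ext (mul_smul (g : F) (h : F) v.1)

theorem NZ_smul (g : SpecialLinearGroup ι F) (v : NZ ι F) : (g • v).1 = (g : Matrix ι ι F) *ᵥ v.1 := rfl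

theorem NZ_smul' (c : Fˣ) (v : NZ ι F) : (c • v).1 = (c : F) • v.1 := rfl

theorem card_NZ [Fintype F] : Nat.card (NZ ι F) = Fintype.card F ^ Fintype.card ι - 1 := by
  classical
  change Nat.card {v : ι → F // v ≠ 0} = _
  rw [Nat.card_eq_fintype_card, Fintype.card_subtype_compl, Fintype.card_fun]
  simp

theorem isPretransitive_NZ (h2 : 2 ≤ Fintype.card ι) :
    MulAction.IsPretransitive (SpecialLinearGroup ι F) (NZ ι F) :=
  ⟨fun x y => (exists_SL_mulVec h2 x.2 y.2).imp fun _ h => Subtype.ext h⟩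

theorem exists_dot_zero_one_one {e y y' : ι → F} (he : e ≠ 0) (hy : ∀ c : F, y ≠ c • e)
    (hy' : ∀ c : F, y' ≠ c • e) : ∃ φ, φ ⬝ᵥ e = 0 ∧ φ ⬝ᵥ y ≠ 0 ∧ φ ⬝ᵥ y' ≠ 0 := by
  obtain ⟨a, ha, ha'⟩ := exists_dot_zero_one he hy
  obtain ⟨b, hb, hb'⟩ := exists_dot_zero_one he hy'
  rw [dotProduct_comm] at ha ha' hb hb'
  by_cases h1 : a ⬝ᵥ y' = 0
  · by_cases h2 : b ⬝ᵥ y = 0
    · exact ⟨a + b, by simp [ha, hb], by simp [ha', h2], by simp [hb', h1]⟩
    · exact ⟨b, hb, h2, by simp [hb']⟩
  · exact ⟨a, ha, by simp [ha'], h1⟩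

theorem exists_SL_pair (h3 : 3 ≤ Fintype.card ι) {e y y' : ι → F} (he : e ≠ 0) (hy : ∀ c : F, y ≠ c • e)
    (hy' : ∀ c : F, y' ≠ c • e) : ∃ g : SpecialLinearGroup ι F,
      (g : Matrix ι ι F) *ᵥ e = e ∧ (g : Matrix ι ι F) *ᵥ y = y' := by
  obtain ⟨φ, h0, h1, h2⟩ := exists_dot_zero_one_one he hy hy'
  -- first an element of `GL`
  let u := (φ ⬝ᵥ y)⁻¹ • (y' - y)
  have hu : 1 + φ ⬝ᵥ u ≠ 0 := by
    have : 1 + φ ⬝ᵥ u = (φ ⬝ᵥ y)⁻¹ * φ ⬝ᵥ y' := by simp [u]; field_simp; ring
    rw [this]; exact mul_ne_zero (inv_ne_zero h1) h2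
  obtain ⟨θ, hθ, hθ1, hθ2⟩ := exists_ne_zero_dot_two h3 e y
  rw [dotProduct_comm] at hθ1 hθ2
  obtain ⟨z, hz⟩ := exists_dot_eq_one hθ
  refine ⟨⟨(1 + vecMulVec u φ) * dil z θ hz (Units.mk0 _ hu)⁻¹, by
    rw [det_mul, det_dil, det_one_add_vecMulVec]; simp [hu]⟩, ?_, ?_⟩
  · change (_ * _) *ᵥ e = e
    rw [← mulVec_mulVec, dil_mulVec, hθ1, add_mulVec, vecMulVec_mulVec']
    simp [h0]
  · change (_ * _) *ᵥ y = y'
    rw [← mulVec_mulVec, dil_mulVec, hθ2, add_mulVec, vecMulVec_mulVec']
    simp [u, smul_smul, h1]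

theorem card_orbits_NZ_le [Fintype F] (h3 : 3 ≤ Fintype.card ι) :
    Nat.card (Quotient (MulAction.orbitRel (SpecialLinearGroup ι F) (NZ ι F × NZ ι F))) ≤
      Fintype.card F := by
  classical
  obtain ⟨i, j, hij⟩ := Fintype.exists_pair_of_one_lt_card (α := ι) (by omega)
  let e : NZ ι F := ⟨Pi.single i 1, by simp⟩
  let f : NZ ι F := ⟨Pi.single j 1, by simp⟩
  have hf : ∀ c : F, f.1 ≠ c • e.1 := fun c h => by simpa [e, f, hij.symm] using congrFun h j
  rw [← Nat.card_eq_fintype_card]
  refine Nat.card_le_card_of_surjective (fun c : F => Quotient.mk _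
    (e, if h : c = 0 then f else Units.mk0 c h • e)) fun p => ?_
  obtain ⟨⟨x, y⟩, rfl⟩ := Quotient.exists_rep p
  obtain ⟨g, hg⟩ := (isPretransitive_NZ (ι := ι) (F := F) (by omega)).exists_smul_eq x e
  by_cases h : ∃ c : F, (g • y).1 = c • e.1
  · obtain ⟨c, hc⟩ := h
    have hc0 : c ≠ 0 := fun h0 => (g • y).2 (by rw [hc, h0, zero_smul])
    refine ⟨c, Quotient.sound ⟨g, ?_⟩⟩
    simp only [hc0, dite_false]
    exact Prod.ext hg (Subtype.ext hc)
  · push Not at h
    obtain ⟨k, hk, hk'⟩ := exists_SL_pair h3 e.2 h hf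
    refine ⟨0, Quotient.sound ⟨k * g, ?_⟩⟩
    simp only [dite_true]
    refine Prod.ext ?_ ?_
    · change (k * g) • x = e
      rw [mul_smul, hg]; exact Subtype.ext hk
    · change (k * g) • y = f
      rw [mul_smul]; exact Subtype.ext hk'

theorem exists_SL_weil [Fintype F] [Fintype (SpecialLinearGroup ι F)] [Fintype (Fˣ →* ℂˣ)]
    (h3 : 3 ≤ Fintype.card ι) :
    ∃ χ : (Fˣ →* ℂˣ) → SpecialLinearGroup ι F → ℂ, (∀ θ, IsIrrCharacter _ (χ θ)) ∧
      Function.Injective χ ∧
      (∀ g, (Nat.card (MulAction.fixedBy (NZ ι F) g) : ℂ) = 1 + ∑ θ, χ θ g) ∧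
      ((Fintype.card F : ℂ) - 1) * (χ 1 1 + 1) = Fintype.card F ^ Fintype.card ι - 1 ∧
      ∀ θ, θ ≠ 1 → ((Fintype.card F : ℂ) - 1) * χ θ 1 = Fintype.card F ^ Fintype.card ι - 1 := by
  classical
  let ρ := Representation.ofMulAction ℂ (SpecialLinearGroup ι F) (NZ ι F)
  let σ := Representation.ofMulAction ℂ Fˣ (NZ ι F)
  let π : Act (Additive Fˣ) ℂ (MonoidAlgebra ℂ (NZ ι F)) :=
    Act.ofRep σ Additive.toMul fun _ _ => rfl
  let E := unitsPairing Fˣ
  have hA : (Fintype.card (Additive Fˣ) : ℂ) = Fintype.card F - 1 := by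
    rw [← cast_card_units, ← Nat.card_eq_fintype_card]; rfl
  have hA0 : (Fintype.card (Additive Fˣ) : ℂ) ≠ 0 := by rw [hA]; exact card_sub_one_ne_zero
  have hcomm : ∀ g a, π.π a * ρ g = ρ g * π.π a := fun g a => by
    ext x : 2
    simp only [π, Act.ofRep, ρ, σ, LinearMap.comp_apply, End.mul_apply, MonoidAlgebra.lsingle_apply,
      Representation.ofMulAction_single]
    congr 1
    exact Subtype.ext (mulVec_smul _ _ _).symm
  have hW : ∀ g b, ∀ v ∈ π.W E b, ρ g v ∈ π.W E b := fun g b v hv =>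
    π.map_W E (τ := id) (hcomm g) (fun _ => rfl) hv
  let U : Additive (Fˣ →* ℂˣ) → Subrepresentation ρ := fun b => ⟨π.W E b, fun g v hv => hW g b v hv⟩
  let φ : Additive (Fˣ →* ℂˣ) → SpecialLinearGroup ι F → ℂ := fun b => (U b).toRepresentation.character
  have hφ : ∀ b, IsCharacter _ (φ b) := fun b => isCharacter_character _
  have hsum : ∀ g, (Nat.card (MulAction.fixedBy (NZ ι F) g) : ℂ) = ∑ b, φ b g := fun g => by
    rw [← char_ofMulAction, Representation.character, π.trace_eq_sum E hA0]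
    exact Finset.sum_congr rfl fun b _ => π.trace_mul_P E hA0 (hW g b)
  have hq : 1 ≤ Fintype.card F ^ Fintype.card ι := Nat.one_le_pow _ _ Fintype.card_pos
  have hdeg : ∀ b, ((Fintype.card F : ℂ) - 1) * φ b 1 = Fintype.card F ^ Fintype.card ι - 1 := by
    intro b
    have h1 : φ b 1 = LinearMap.trace ℂ _ (ρ 1 * π.P E b) := (π.trace_mul_P E hA0 (hW 1 b)).symm
    rw [h1, map_one, one_mul, Act.P, map_smul, map_sum, smul_eq_mul, ← hA,
      mul_inv_cancel_left₀ hA0, Finset.sum_eq_single 0]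
    · rw [neg_zero, E.zero_left, one_smul, π.map_zero, LinearMap.trace_one]
      have h2 := char_ofMulAction (k := ℂ) (G := Fˣ) (NZ ι F) 1
      rw [Representation.char_one, MulAction.fixedBy_one_eq_univ, Nat.card_univ, card_NZ] at h2
      rw [h2, Nat.cast_sub hq]; simp
    · intro a _ ha
      have h2 := char_ofMulAction (k := ℂ) (G := Fˣ) (NZ ι F) a.toMul
      have h3 : MulAction.fixedBy (NZ ι F) a.toMul = ∅ := by
        ext x
        simp only [MulAction.mem_fixedBy, Set.mem_empty_iff_false, iff_false]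
        intro h
        have h4 : ((a.toMul : F) - 1) • x.1 = 0 := by
          rw [sub_smul, one_smul, sub_eq_zero]; exact congrArg Subtype.val h
        exact ha (Additive.toMul.injective (Units.ext (sub_eq_zero.1
          ((smul_eq_zero.1 h4).resolve_right x.2))))
      rw [h3] at h2
      rw [map_smul]
      change _ • σ.character a.toMul = 0
      rw [h2]; simp
    · simp
  have := Fintype.ofFinite (NZ ι F)
  have hinv : classInner (φ 0) (fun _ => 1) ≠ 0 := by
    rw [classInner_character_one, Nat.cast_ne_zero]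
    let w : MonoidAlgebra ℂ (NZ ι F) := ∑ x, MonoidAlgebra.single x 1
    obtain ⟨i, -⟩ := Fintype.exists_pair_of_one_lt_card (α := ι) (by omega)
    have hw0 : w ≠ 0 := sum_single_ne_zero ⟨Pi.single i 1, by simp⟩
    have hwW : w ∈ π.W E 0 := (π.mem_W_zero E).2 fun a => ofMulAction_sum a.toMul
    intro h0
    rw [Submodule.finrank_eq_zero] at h0
    have : (⟨w, hwW⟩ : (U 0).toSubmodule) ∈ (U 0).toRepresentation.invariants := fun g =>
      Subtype.ext (ofMulAction_sum g)
    rw [h0, Submodule.mem_bot] at this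
    exact hw0 (congrArg Subtype.val this)
  have hq2 : (Fintype.card F : ℂ) ^ Fintype.card ι - 1 ≠ Fintype.card F - 1 := by
    rw [Ne, sub_left_inj]
    norm_cast
    have : Fintype.card F ^ 1 < Fintype.card F ^ Fintype.card ι :=
      Nat.pow_lt_pow_right Fintype.one_lt_card (by omega)
    rw [pow_one] at this
    omega
  have hq3 : (Fintype.card F : ℂ) ^ Fintype.card ι - 1 ≠ 0 := by
    rw [sub_ne_zero]
    norm_cast
    exact (Nat.one_lt_pow (by omega) Fintype.one_lt_card).ne'
  let χ : (Fˣ →* ℂˣ) → SpecialLinearGroup ι F → ℂ := fun θ =>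
    if θ = 1 then φ 0 - fun _ => 1 else φ (Additive.ofMul θ)
  have hsum' : ∀ g, (Nat.card (MulAction.fixedBy (NZ ι F) g) : ℂ) = 1 + ∑ θ, χ θ g := fun g => by
    rw [hsum, ← Equiv.sum_comp Additive.ofMul, ← Finset.add_sum_erase _ _ (Finset.mem_univ 1),
      ← Finset.add_sum_erase _ _ (Finset.mem_univ 1), ← add_assoc]
    congr 1
    · simp [χ]
    · exact Finset.sum_congr rfl fun θ hθ => by simp [χ, Finset.ne_of_mem_erase hθ]
  have key := irr_of_classInner_sum_le (J := Option (Fˣ →* ℂˣ)) (fun o => o.elim (fun _ => 1) χ)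
    (by
      rintro (_ | θ)
      · exact isCharacter_one
      · simp only [Option.elim, χ]
        split_ifs
        · exact (hφ 0).sub_irr isIrrCharacter_one hinv
        · exact hφ _)
    (by
      rintro (_ | θ) h
      · simpa using congrFun h 1
      · have h1 := congrFun h 1
        simp only [Option.elim, χ] at h1
        split_ifs at h1
        · have h2 := hdeg 0
          simp only [Pi.sub_apply, Pi.zero_apply, sub_eq_zero] at h1
          rw [h1, mul_one] at h2
          exact hq2 h2.symm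
        · have h2 := hdeg (Additive.ofMul θ)
          rw [h1] at h2
          exact hq3 (by simpa using h2.symm))
    (n := Nat.card (Quotient (MulAction.orbitRel (SpecialLinearGroup ι F) (NZ ι F × NZ ι F))))
    (by
      rw [← classInner_fixedBy_self]
      congr 1 <;> ext g <;> rw [hsum'] <;> simp [Fintype.sum_option])
    (by
      refine (card_orbits_NZ_le h3).trans ?_
      rw [Fintype.card_option, ← Nat.card_eq_fintype_card (α := Fˣ →* ℂˣ),
        card_hom_comm (fun a b : Fˣ => mul_comm a b), Nat.card_eq_fintype_card, Fintype.card_units]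
      omega)
  refine ⟨χ, fun θ => key.1 (some θ), fun a b e => Option.some_injective _ (key.2 e), hsum', ?_,
    fun θ hθ => ?_⟩
  · simpa [χ] using hdeg 0
  · simpa [χ, hθ] using hdeg (Additive.ofMul θ)

end H24
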