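import Cfsg.Agent.H24.MinD2

/-! Minimal degree of `Sp_{2n}(q)`, `q` even (`symp_even_min`): the weights of the unipotent radical of
the stabilizer of a maximal isotropic subspace are quadratic forms; `card_forms` bounds the size of a
`GL`-invariant set of forms.  Tools: `shear`, `card_pairs`, `exists_equiv_pair`, `card_ann`. -/

set_option autoImplicit false
set_option linter.unusedSectionVars false

namespace H24
open Module H11 H11.PForm QuadraticMap

section pairs
variable {F : Type*} [Field F] {U : Type*} [AddCommGroup U] [Module F U]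

/-- the shear `z ↦ z + φ z • x + φ' z • y` -/
def shear (x y : U) (p : (Submodule.span F {x, y}).dualAnnihilator × (Submodule.span F {x, y}).dualAnnihilator) :
    U ≃ₗ[F] U :=
  have h : ∀ φ : (Submodule.span F {x, y}).dualAnnihilator, φ.1 x = 0 ∧ φ.1 y = 0 := fun φ =>
    ⟨(Submodule.mem_dualAnnihilator _).1 φ.2 x (Submodule.subset_span (by simp)),
      (Submodule.mem_dualAnnihilator _).1 φ.2 y (Submodule.subset_span (by simp))⟩
  LinearEquiv.ofLinear (LinearMap.id + p.1.1.smulRight x + p.2.1.smulRight y)
    (LinearMap.id - p.1.1.smulRight x - p.2.1.smulRight y)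
    (by ext z; simp [h]; abel) (by ext z; simp [h]; abel)

theorem shear_apply (x y : U) (p) (z : U) : shear (F := F) x y p z = z + p.1.1 z • x + p.2.1 z • y := rfl

theorem ann_left {x y : U} (φ : (Submodule.span F {x, y}).dualAnnihilator) : φ.1 x = 0 :=
  (Submodule.mem_dualAnnihilator _).1 φ.2 x (Submodule.subset_span (by simp))

theorem ann_right {x y : U} (φ : (Submodule.span F {x, y}).dualAnnihilator) : φ.1 y = 0 :=
  (Submodule.mem_dualAnnihilator _).1 φ.2 y (Submodule.subset_span (by simp))

theorem shear_left (x y : U) (p) : shear (F := F) x y p x = x := by simp [shear_apply, ann_left]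

theorem shear_right (x y : U) (p) : shear (F := F) x y p y = y := by simp [shear_apply, ann_right]

theorem exists_equiv_pair {x y x' y' : U} (h : LinearIndependent F ![x, y]) (h' : LinearIndependent F ![x', y']) :
    ∃ g : U ≃ₗ[F] U, g x = x' ∧ g y = y' := by
  have q0 {x y : U} (hD : LinearIndependent F ![x, y]) :
    hD.linearCombinationEquiv (Finsupp.single 0 1) = x := by simp
  have q1 {x y : U} (hD : LinearIndependent F ![x, y]) :
    hD.linearCombinationEquiv (Finsupp.single 1 1) = y := by simp
  let f := h.linearCombinationEquiv.symm ≪≫ₗ h'.linearCombinationEquiv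
  have : FiniteDimensional F (Submodule.span F (Set.range ![x, y])) :=
    FiniteDimensional.span_of_finite F (Set.finite_range _)
  obtain ⟨g, hg⟩ := Submodule.exists_linearEquiv_restrict_eq f
  exact ⟨g, by rw [← q0 h, ← hg]; simp [f], by rw [← q1 h, ← hg]; simp [f]⟩

theorem indep_of_bilin (B : U →ₗ[F] U →ₗ[F] F) (hB : ∀ z, B z z = 0) {x y : U} (h : B x y ≠ 0) :
    LinearIndependent F ![x, y] := by
  rw [LinearIndependent.pair_iff]
  intro s t e
  have h1 := congrArg (B x) e
  have h2 := congrArg (fun z => B z y) e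
  simp [hB, h] at h1 h2
  exact ⟨h2, h1⟩

variable [Fintype F] [FiniteDimensional F U]

theorem card_ann {x y : U} (h : LinearIndependent F ![x, y]) :
    Nat.card (Submodule.span F {x, y}).dualAnnihilator = Fintype.card F ^ (finrank F U - 2) := by
  have h1 := Subspace.finrank_add_finrank_dualAnnihilator_eq (Submodule.span F {x, y})
  have h2 := finrank_span_eq_card h
  rw [Matrix.range_cons_cons_empty, Fintype.card_fin] at h2
  rw [card_submodule, Nat.card_eq_fintype_card]
  congr 1
  omega

open Classical in
theorem card_pairs [Fintype U] (h : 2 ≤ finrank F U) :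
    (Finset.univ.filter fun p : U × U => LinearIndependent F ![p.1, p.2]).card =
      (Fintype.card F ^ finrank F U - 1) * (Fintype.card F ^ finrank F U - Fintype.card F) := by
  have h1 := card_linearIndependent (K := F) (V := U) h
  rw [Fin.prod_univ_two] at h1
  simp only [Fin.val_zero, pow_zero, Fin.val_one, pow_one] at h1
  rw [← h1, ← Fintype.card_subtype, ← Nat.card_eq_fintype_card]
  exact Nat.card_congr ((finTwoArrowEquiv U).symm.subtypeEquiv fun _ => Iff.rfl)

open Classical in
theorem card_fiber_le [Fintype U] (φ : U →ₗ[F] F) (c : F) (hc : c ≠ 0) :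
    Fintype.card F * (Finset.univ.filter fun z => φ z = c).card ≤ Fintype.card U := by
  rw [← Finset.card_univ, ← Finset.card_erase_add_one (Finset.mem_univ (0 : F)), ← Finset.card_univ]
  by_cases h : ∃ z, φ z = c
  · obtain ⟨z0, hz0⟩ := h
    rw [Finset.card_erase_add_one (Finset.mem_univ _), ← Finset.card_product]
    refine Finset.card_le_card_of_injOn (fun p => p.2 + p.1 • z0) (fun _ _ => by simp) ?_
    rintro ⟨a, z⟩ hz ⟨a', z'⟩ hz' e
    simp only [Finset.coe_product, Finset.coe_filter, Set.mem_prod, Set.mem_setOf_eq] at hz hz' e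
    have h1 := congrArg φ e
    simp only [map_add, map_smul, hz.2.2, hz'.2.2, hz0, smul_eq_mul, add_right_inj] at h1
    obtain rfl := mul_right_cancel₀ hc h1
    rw [add_right_cancel e]
  · rw [Finset.filter_false_of_mem fun z _ e => h ⟨z, e⟩]
    simp

end pairs

section forms
variable {F : Type*} [Field F] [Fintype F] {U : Type*} [AddCommGroup U] [Module F U] [FiniteDimensional F U]
variable (h2 : (2 : F) = 0)
include h2

theorem polar_self_two (Q : QuadraticForm F U) (x : U) : polar Q x x = 0 := by
  rw [polar_self, two_nsmul, ← two_mul, h2, zero_mul]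

theorem exists_plane_eq (Q : QuadraticForm F U) {x y : U} (h : polar Q x y ≠ 0) (c : F) :
    ∃ s t : F, Q (s • x + t • y) = c := by
  have key : ∀ s t : F, Q (s • x + t • y) ≠ 0 → ∃ s t : F, Q (s • x + t • y) = c := fun s t hst => by
    obtain ⟨r, hr⟩ := isSquare_of_two_eq_zero h2 (c / Q (s • x + t • y))
    refine ⟨r * s, r * t, ?_⟩
    rw [mul_smul, mul_smul, ← smul_add, Q.map_smul, ← hr, smul_eq_mul, div_mul_cancel₀ _ hst]
  by_contra hc
  have h1 : ∀ s t : F, Q (s • x + t • y) = 0 := fun s t => by
    by_contra h1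
    exact hc (key s t h1)
  have e1 := h1 1 0
  have e2 := h1 0 1
  have e3 := h1 1 1
  simp only [one_smul, zero_smul, add_zero, zero_add] at e1 e2 e3
  exact h (by rw [polar, e1, e2, e3]; simp)

open Classical in
theorem card_zeros [Fintype U] (Q : QuadraticForm F U) {x y : U} (h : polar Q x y = 1) :
    Fintype.card U ≤ (Finset.univ.filter fun z => Q z = 0).card * Fintype.card F ^ 2 := by
  have key : ∀ z, ∃ p : F × F, Q (z + (p.1 • x + p.2 • y)) = 0 := fun z => by
    obtain ⟨w, hw⟩ : ∃ w, w = z + (polar Q y z • x + polar Q x z • y) := ⟨_, rfl⟩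
    have hx : polar Q w x = 0 := by
      rw [hw]
      simp only [polar_add_left, polar_smul_left, polar_self_two h2, polar_comm _ y x, h, polar_comm _ z x,
        smul_eq_mul]
      linear_combination polar Q x z * h2
    have hy : polar Q w y = 0 := by
      rw [hw]
      simp only [polar_add_left, polar_smul_left, polar_self_two h2, h, polar_comm _ z y, smul_eq_mul]
      linear_combination polar Q y z * h2
    obtain ⟨s, t, hst⟩ := exists_plane_eq h2 Q (h ▸ one_ne_zero) (-Q w)
    refine ⟨(polar Q y z + s, polar Q x z + t), ?_⟩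
    have : z + ((polar Q y z + s) • x + (polar Q x z + t) • y) = w + (s • x + t • y) := by
      rw [hw]; module
    rw [this, QuadraticMap.map_add Q, hst]
    simp [hx, hy]
  choose p hp using key
  rw [pow_two, ← Fintype.card_prod, ← Finset.card_univ (α := F × F), ← Finset.card_product]
  refine Finset.card_le_card_of_injOn (s := Finset.univ) (fun z => (z + ((p z).1 • x + (p z).2 • y), p z))
    (fun z _ => by simp [hp]) fun z _ z' _ e => ?_
  obtain ⟨e1, e2⟩ := Prod.mk.inj e
  rw [e2] at e1
  exact add_right_cancel e1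

open Classical in
theorem card_one [Fintype U] (Q : QuadraticForm F U) {x y : U} (h : polar Q x y = 1) :
    (Finset.univ.filter fun z => Q z = 1).card ≤
      (Fintype.card F + 1) * Fintype.card F ^ (finrank F U - 2) := by
  have h1 := card_zeros h2 Q h
  have h3 : (Fintype.card F - 1) * (Finset.univ.filter fun z => Q z = 1).card ≤
      (Finset.univ.filter fun z => ¬ Q z = 0).card := by
    rw [← Finset.card_univ, ← Finset.card_erase_of_mem (Finset.mem_univ (0 : F)), ← Finset.card_product]
    refine Finset.card_le_card_of_injOn (fun p => p.1 • p.2) ?_ ?_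
    · rintro ⟨a, z⟩ hz
      simp only [Finset.coe_product, Finset.coe_filter, Set.mem_prod, Set.mem_setOf_eq, Finset.coe_erase,
        Set.mem_diff, Set.mem_singleton_iff] at hz ⊢
      simp [Q.map_smul, hz.2.2, hz.1.2]
    · rintro ⟨a, z⟩ hz ⟨a', z'⟩ hz' e
      simp only [Finset.coe_product, Finset.coe_filter, Set.mem_prod, Set.mem_setOf_eq, Finset.coe_erase,
        Set.mem_diff, Set.mem_singleton_iff] at hz hz' e
      have h4 := congrArg Q e
      rw [Q.map_smul, Q.map_smul, hz.2.2, hz'.2.2] at h4
      have h5 : a = a' := by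
        have : (a - a') ^ 2 = 0 := by
          simp only [smul_eq_mul, mul_one] at h4
          linear_combination h4 + (a' * a' - a * a') * h2
        exact sub_eq_zero.1 (pow_eq_zero_iff two_ne_zero |>.1 this)
      subst h5
      rw [smul_right_injective U hz.1.2 e]
  have h4 := Finset.card_filter_add_card_filter_not (s := (Finset.univ : Finset U)) fun z => Q z = 0
  have hn : 2 ≤ finrank F U := by
    simpa using (indep_of_bilin (polarBilin Q) (polar_self_two h2 Q) (x := x) (y := y)
      (by simp [h])).fintype_card_le_finrank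
  have h5 : Fintype.card U = Fintype.card F ^ (finrank F U - 2) * Fintype.card F ^ 2 := by
    rw [← pow_add, Nat.sub_add_cancel hn, Module.card_eq_pow_finrank (K := F)]
  rw [Finset.card_univ] at h4
  have hq : 2 ≤ Fintype.card F := Fintype.one_lt_card
  rw [h5] at h1 h4
  have h6 := Nat.le_of_mul_le_mul_right h1 (by positivity)
  obtain ⟨k, hk⟩ : ∃ k, Fintype.card F = k + 1 := ⟨_, (Nat.sub_add_cancel (by omega)).symm⟩
  rw [hk] at h3 h4 h6 hq ⊢
  refine Nat.le_of_mul_le_mul_left (h3.trans ?_) (show 0 < k + 1 - 1 by omega)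
  rw [Nat.add_sub_cancel]
  nlinarith

open Classical in
theorem card_partner_le [Fintype U] (Q : QuadraticForm F U) {x : U} (hx : Q x = 1) (b : F) :
    Fintype.card F ^ 2 * (Finset.univ.filter fun y => polar Q x y = 1 ∧ Q y = b).card ≤ 2 * Fintype.card U := by
  have h1 := card_fiber_le (polarBilin Q x) 1 one_ne_zero
  have h3 := Finset.card_le_mul_card_image_of_maps_to
    (s := (Finset.univ : Finset F) ×ˢ (Finset.univ.filter fun y => polar Q x y = 1 ∧ Q y = b))
    (t := Finset.univ.filter fun z => polarBilin Q x z = 1) (f := fun p => p.2 + p.1 • x)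
    (fun p hp => by
      simp only [Finset.mem_product, Finset.mem_filter, Finset.mem_univ, true_and] at hp
      simp [hp.1, polar_self_two h2]) 2 fun z hz => by
      simp only [Finset.mem_filter, Finset.mem_univ, true_and, polarBilin_apply_apply] at hz
      let f : Polynomial F := Polynomial.X ^ 2 + Polynomial.X + Polynomial.C (Q z - b)
      have hf : f.natDegree = 2 := by simp only [f]; compute_degree!
      have hf0 : f ≠ 0 := by rintro e; simp [e] at hf
      refine le_trans (Finset.card_le_card_of_injOn (t := f.roots.toFinset) Prod.fst ?_ ?_)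
        ((Multiset.toFinset_card_le _).trans (hf ▸ Polynomial.card_roots' f))
      · rintro ⟨t, y⟩ hy
        simp only [Finset.coe_filter, Finset.mem_product, Finset.mem_filter, Finset.mem_univ, true_and,
          Set.mem_setOf_eq] at hy
        have := congrArg Q hy.2
        rw [QuadraticMap.map_add Q, Q.map_smul, hx, polar_smul_right, polar_comm, hy.1.1, hy.1.2] at this
        simp only [Finset.mem_coe, Multiset.mem_toFinset, Polynomial.mem_roots hf0, Polynomial.IsRoot.def, f,
          Polynomial.eval_add, Polynomial.eval_pow, Polynomial.eval_X, Polynomial.eval_C]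
        simp only [smul_eq_mul] at this
        linear_combination this + (Q z - b) * h2
      · rintro ⟨t, y⟩ hy ⟨t', y'⟩ hy' e
        simp only [Finset.coe_filter, Set.mem_setOf_eq] at hy hy' e
        subst e
        rw [add_right_cancel (hy.2.trans hy'.2.symm)]
  rw [Finset.card_product, Finset.card_univ] at h3
  nlinarith

theorem card_forms (X : Finset (QuadraticForm F U)) (hX : ∀ Q ∈ X, ∀ g : U ≃ₗ[F] U, Q.comp (g : U →ₗ[F] U) ∈ X)
    {Q₀ : QuadraticForm F U} (h0 : Q₀ ∈ X) {x y : U} (hxy : polar Q₀ x y ≠ 0) :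
    (Fintype.card F ^ finrank F U - 1) * (Fintype.card F ^ finrank F U - Fintype.card F) ≤
      2 * (Fintype.card F + 1) * X.card := by
  classical
  have : Finite U := Module.finite_of_finite F
  have : Fintype U := Fintype.ofFinite U
  obtain ⟨s, t, hst⟩ := exists_plane_eq h2 Q₀ hxy 1
  obtain ⟨y0, hy0⟩ : ∃ y0, polar Q₀ (s • x + t • y) y0 = 1 := by
    by_cases hs : s = 0
    · have ht : t ≠ 0 := by rintro rfl; simp [hs] at hst
      exact ⟨(t * polar Q₀ x y)⁻¹ • x, by
        simp [hs, polar_comm _ y x]; field_simp⟩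
    · exact ⟨(s * polar Q₀ x y)⁻¹ • y, by simp [polar_self_two h2]; field_simp⟩
  set x0 := s • x + t • y
  have hi0 := indep_of_bilin (polarBilin Q₀) (polar_self_two h2 Q₀) (x := x0) (y := y0) (by simp [hy0])
  have hn : 2 ≤ finrank F U := by simpa using hi0.fintype_card_le_finrank
  set r := Fintype.card F ^ (finrank F U - 2) with hr
  have key := Finset.card_mul_le_card_mul (s := Finset.univ.filter fun p : U × U => LinearIndependent F ![p.1, p.2])
    (t := X) (fun (p : U × U) (Q : QuadraticForm F U) => polar Q p.1 p.2 = 1 ∧ Q p.1 = 1 ∧ Q p.2 = Q₀ y0) (m := r * r)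
    (n := (Fintype.card F + 1) * r * (2 * r)) (fun p hp => by
      have hp' := (Finset.mem_filter.1 hp).2
      obtain ⟨g, hg1, hg2⟩ := exists_equiv_pair hp' hi0
      have : Fintype (Submodule.span F {p.1, p.2}).dualAnnihilator := by
        have : Finite (Dual F U) := Module.finite_of_finite F
        exact Fintype.ofFinite _
      have hc := card_ann hp'
      rw [Nat.card_eq_fintype_card, ← hr] at hc
      rw [← hc, ← Fintype.card_prod, ← Finset.card_univ]
      have hpol : ∀ (g' : U ≃ₗ[F] U) (Q : QuadraticForm F U) a b,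
          polar (Q.comp (g' : U →ₗ[F] U)) a b = polar Q (g' a) (g' b) := fun g' Q a b => by simp [polar]
      refine Finset.card_le_card_of_injOn (fun φ => (Q₀.comp (g : U →ₗ[F] U)).comp
        (shear p.1 p.2 φ : U →ₗ[F] U)) (fun φ _ => ?_) fun φ _ φ' _ e => ?_
      · simp only [Finset.coe_bipartiteAbove, Set.mem_setOf_eq, hpol, comp_apply, LinearEquiv.coe_coe,
          shear_left, shear_right, hg1, hg2, hy0, hst, and_self, and_true]
        exact hX _ (hX _ h0 g) _
      · have e1 := fun z => congrArg (fun Q : QuadraticForm F U => polar Q p.1 z) e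
        have e2 := fun z => congrArg (fun Q : QuadraticForm F U => polar Q z p.2) e
        simp only [hpol, shear_left, shear_right] at e1 e2
        simp only [shear_apply, map_add, map_smul, hg1, hg2, polar_add_right, polar_smul_right, polar_add_left,
          polar_smul_left, polar_self_two h2, hy0, smul_eq_mul, mul_zero, add_zero, mul_one,
          add_right_inj] at e1 e2
        exact Prod.ext (Subtype.ext (LinearMap.ext e2)) (Subtype.ext (LinearMap.ext e1)))
    fun Q _ => by
      by_cases hQ : ∃ a b, polar Q a b = 1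
      · obtain ⟨a, b, hab⟩ := hQ
        have h3 := Finset.card_le_mul_card_image_of_maps_to
          (s := Finset.bipartiteBelow (fun (p : U × U) (Q : QuadraticForm F U) =>
            polar Q p.1 p.2 = 1 ∧ Q p.1 = 1 ∧ Q p.2 = Q₀ y0)
            (Finset.univ.filter fun p : U × U => LinearIndependent F ![p.1, p.2]) Q)
          (t := Finset.univ.filter fun z => Q z = 1) (f := Prod.fst)
          (fun p hp => by simp [(Finset.mem_bipartiteBelow _ |>.1 hp).2.2.1]) (2 * r) fun z hz => by
            have h4 := card_partner_le h2 Q (Finset.mem_filter.1 hz).2 (Q₀ y0)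
            have h5 : Fintype.card U = Fintype.card F ^ 2 * r := by
              rw [hr, ← pow_add, Nat.add_sub_cancel' hn, Module.card_eq_pow_finrank (K := F)]
            rw [h5, mul_left_comm] at h4
            refine le_trans (Finset.card_le_card_of_injOn Prod.snd ?_ ?_)
              (Nat.le_of_mul_le_mul_left h4 (by have := Fintype.card_pos (α := F); positivity))
            · rintro ⟨a, b⟩ hp
              simp only [Finset.coe_filter, Finset.mem_bipartiteBelow, Set.mem_setOf_eq] at hp
              obtain ⟨hp, rfl⟩ := hp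
              simp [hp.2.1, hp.2.2.2]
            · rintro ⟨a, b⟩ hp ⟨a', b'⟩ hp' e
              simp only [Finset.coe_filter, Set.mem_setOf_eq] at hp hp' e
              rw [hp.2, hp'.2, e]
        refine h3.trans ?_
        rw [mul_comm]
        exact Nat.mul_le_mul_right _ (card_one h2 Q hab)
      · rw [Finset.card_eq_zero.2 (Finset.eq_empty_of_forall_notMem fun p hp =>
          hQ ⟨_, _, (Finset.mem_bipartiteBelow _ |>.1 hp).2.1⟩)]
        exact Nat.zero_le _
  rw [card_pairs hn] at key
  have hr0 : 0 < r * r := by have := Fintype.card_pos (α := F); positivity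
  refine Nat.le_of_mul_le_mul_right (key.trans (le_of_eq ?_)) hr0
  ring

end forms

section symp
variable {F : Type*} [Field F] [Fintype F] {V : Type*} [AddCommGroup V] [Module F V] [FiniteDimensional F V]
variable {S : PForm (sympP F) V} {M : Type*} [AddCommGroup M] [Module ℂ M] [FiniteDimensional ℂ M]

theorem addChar_cancel {ψ : AddChar F ℂ} (hψ : ψ ≠ 1) {a b : F} (h : ∀ c, ψ (a * c) = ψ (b * c)) : a = b :=
  sub_eq_zero.1 (eq_zero_of_forall_addChar_mul hψ fun c => by
    rw [mul_sub, AddChar.map_sub_eq_div, mul_comm c, mul_comm c, h, div_self (AddChar.val_isUnit ψ _).ne_zero])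

theorem exists_form {U : Submodule F V} (hU : S.TS U) {ψ : AddChar F ℂ} (hψ : ψ ≠ 1) (θ : AU S U →* ℂˣ) :
    ∃ Q : QuadraticForm F U, (∀ u a, (θ (sA hU u 0 a) : ℂ) = ψ (Q u * a)) ∧
      ∀ u v, (θ (sA hU u v 0) : ℂ) = ψ (polar Q u v) := by
  have hψ' : ∃ a, ψ a ≠ 1 := by
    by_contra hc
    push Not at hc
    exact hψ (DFunLike.ext _ _ hc)
  have hz : ∀ v : U, (θ (sA hU v 0 0) : ℂ) = 1 := fun v => by rw [sA_zero, map_one, Units.val_one]
  choose Q hQ using fun u : U => exists_shift ψ.map_zero_eq_one ψ.map_add_eq_mul hψ'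
    (χ := fun a => (θ (sA hU u 0 a) : ℂ)) (hz u)
    fun a b => by rw [sA_add hU u trivial trivial, map_mul, Units.val_mul]
  choose B hB using fun u v : U => exists_shift ψ.map_zero_eq_one ψ.map_add_eq_mul hψ'
    (χ := fun c => (θ (sA hU u (c • v) 0) : ℂ)) (by simp only [zero_smul, hz])
    fun a b => by simp only [add_smul, sA_add', map_mul, Units.val_mul]
  have key : ∀ w u x, Q (w + x • u) = B w u * x + Q w + Q u * (x * x) := fun w u x =>
    addChar_cancel hψ fun a => by
      rw [← hQ, sA_decomp hU w u x (a := a) trivial, map_mul, map_mul, Units.val_mul, Units.val_mul,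
        hQ, hQ, hB, ← AddChar.map_add_eq_mul, ← AddChar.map_add_eq_mul]
      congr 1
      simp only [sympP_ε, RingHom.id_apply]
      ring
  have hp : ∀ w u, polar Q w u = B w u := fun w u => by
    have := key w u 1
    rw [one_smul] at this
    rw [polar, this]; ring
  have hQ0 : Q 0 = 0 := addChar_cancel hψ fun a => by rw [← hQ, sA_zero_left]; simp
  have hB0 : ∀ u, B 0 u = 0 := fun u => addChar_cancel hψ fun a => by rw [← hB, sA_zero_left]; simp
  refine ⟨ofPolar Q (fun a x => ?_) (fun x x' y => ?_) fun a x y => ?_, hQ, fun u v => ?_⟩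
  · have := key 0 x a
    rw [zero_add, hQ0, hB0] at this
    rw [this, smul_eq_mul]; ring
  · rw [polar_comm, polar_comm _ x, polar_comm _ x', hp, hp, hp]
    exact addChar_cancel hψ fun c => by
      rw [← hB, smul_add, sA_add', map_mul, Units.val_mul, hB, hB, ← AddChar.map_add_eq_mul, add_mul]
  · rw [polar_comm, polar_comm _ x, hp, hp]
    exact addChar_cancel hψ fun c => by
      rw [← hB, smul_smul, hB, smul_eq_mul]; congr 1; ring
  · have := hB u v 1
    rw [one_smul, mul_one, ← hp] at this
    exact this

theorem symp_even_min (ρ : S.E →* End ℂ M) (hS : S.Nondeg) (h2 : (2 : F) = 0) {n : ℕ}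
    (hV : finrank F V = 2 * n) (hn : 2 ≤ n) (hp : commutator S.Isom = ⊤) (h : ∃ g, ρ g ≠ 1) :
    (Fintype.card F ^ n - 1) * (Fintype.card F ^ n - Fintype.card F) ≤
      2 * (Fintype.card F + 1) * finrank ℂ M := by
  classical
  obtain ⟨U, hU, hUn⟩ := hS.symp_exists_ts n hV.ge
  obtain ⟨ψ, hψ⟩ := exists_addChar_complex F
  obtain ⟨s, hs⟩ := exists_linearIndependent_of_le_finrank (R := F) (M := U) (n := 2) (by omega)
  have hs0 : (s 0 : V) ≠ 0 := fun e => hs.ne_zero 0 (Subtype.ext e)
  obtain ⟨f, H⟩ := hS.exists_isHyp (e := s 0) trivial hs0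
  have hE : (⊤ : Subgroup S.Isom) = S.E := hS.symp_E_eq_top.symm
  have hpE : commutator S.E = ⊤ :=
    commutator_eq_top_of_equiv ((MulEquiv.subgroupCongr hE.symm).trans Subgroup.topEquiv) hp
  have hc : S.ECond (s 0) (s 1) 0 := ⟨trivial, hU.h_eq (s 0).2 (s 1).2, trivial⟩
  have hne : ρ (sA hU (s 0) (s 1) 0) ≠ 1 := fun e => by
    rcases H.normal_E_dichotomy hS (symp_rich _ _) (fun _ _ _ _ _ _ _ => symp_rich _ _) rfl hpE ρ.ker
      inferInstance with h1 | h1
    · obtain ⟨c, hc'⟩ := (H.mem_center_iff_scalar hS (symp_rich _ _) le_rfl _).1 (h1 e)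
      have e0 := hc' (s 0)
      have e1 := hc' f
      rw [sA_coe, eich_apply_self] at e0
      have c1 : c = 1 := smul_left_injective F hs0 (by simpa using e0.symm)
      rw [sA_coe, eich_apply hc, c1, one_smul, H.h_ef, one_smul, add_sub_assoc, add_eq_left, sub_eq_zero] at e1
      have hs' : LinearIndependent F ![s 0, s 1] := by convert hs; ext i; fin_cases i <;> rfl
      exact (LinearIndependent.pair_iff' (hs.ne_zero 0)).1 hs' _ (Subtype.ext e1.symm)
    · obtain ⟨g, hg⟩ := h
      exact hg ((Subgroup.eq_top_iff' _).1 h1 g)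
  obtain ⟨θ, hθ1, hθ⟩ := exists_WU ρ hne
  obtain ⟨Q₀, hQ1, hQ2⟩ := exists_form hU hψ θ
  have : Finite U := Module.finite_of_finite F
  have : Finite (QuadraticForm F U) := DFunLike.finite _
  have : Fintype (QuadraticForm F U) := Fintype.ofFinite _
  let φ : U × F → End ℂ M := fun p => ρ (ee S p.1 0 p.2)
  let c : QuadraticForm F U → U × F → ℂ := fun Q p => ψ (Q p.1 * p.2)
  have h3 := card_le_finrank_of_jes φ c (Finset.univ.filter fun Q => jes φ (c Q) ≠ ⊥)
    (fun Q _ Q' _ e => QuadraticMap.ext fun u => addChar_cancel hψ fun a => congrFun e (u, a))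
    fun Q hQ => (Finset.mem_filter.1 hQ).2
  have h4 := card_forms h2 (Finset.univ.filter fun Q => jes φ (c Q) ≠ ⊥) (fun Q hQ g => by
      obtain ⟨k, hk⟩ := hS.witt_subspace U (U.subtype ∘ₗ (g : U →ₗ[F] U))
        (U.subtype_injective.comp g.injective)
        (symp_isIsom fun x y => (hU.h_eq (g x).2 (g y).2).trans (hU.h_eq x.2 y.2).symm)
      let k' : S.E := ⟨k, hE ▸ trivial⟩
      refine Finset.mem_filter.2 ⟨Finset.mem_univ _, Act.ne_bot_of_map (rep_inj ρ k'⁻¹) (fun m hm p => ?_)
        (Finset.mem_filter.1 hQ).2⟩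
      have e : ee S p.1 0 p.2 * k'⁻¹ = k'⁻¹ * ee S (g p.1) 0 p.2 := by
        have := conj_eich k p.1 0 p.2
        rw [map_zero, hk] at this
        apply Subtype.ext
        simp only [Subgroup.coe_mul, ee_coe, Subgroup.coe_inv]
        rw [eq_inv_mul_iff_mul_eq, ← mul_assoc]
        exact this
      simp only [φ]
      rw [← End.mul_apply, ← map_mul, e, map_mul, End.mul_apply, hm (g p.1, p.2), map_smul]
      rfl) (Q₀ := Q₀) (Finset.mem_filter.2 ⟨Finset.mem_univ _, fun e => hθ (eq_bot_iff.2 (e ▸ fun m hm p => by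
      rw [show φ p m = _ from (mem_WU ρ).1 hm (sA hU p.1 0 p.2), hQ1]))⟩) (x := s 0) (y := s 1) fun e => by
      have := hQ2 (s 0) (s 1)
      rw [e, AddChar.map_zero_eq_one] at this
      exact hθ1 (Units.ext this)
  rw [hUn] at h4
  exact h4.trans (Nat.mul_le_mul_left _ h3)

end symp

end H24
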