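import Cfsg.Agent.H24.MinD2

/-! The Weil representation of `Sp_{2n}(q)`, `q` odd: `exists_weil` gives a nontrivial representation of
degree `(q ^ n - 1) / 2`; `irr_of_min` (a nontrivial representation of the least degree is irreducible). -/

set_option autoImplicit false
set_option linter.unusedSectionVars false

namespace H24
open Module H11 H11.PForm

theorem irr_of_min {G : Type*} [Group G] [Finite G] {M : Type} [AddCommGroup M] [Module ℂ M]
    [FiniteDimensional ℂ M] (ρ : Representation ℂ G M) (h : ∃ g, ρ g ≠ 1)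
    (hmin : ∀ (N : Type) [AddCommGroup N] [Module ℂ N] [FiniteDimensional ℂ N] (τ : G →* End ℂ N),
      (∃ g, τ g ≠ 1) → finrank ℂ M ≤ finrank ℂ N) : ρ.IsIrreducible := by
  obtain ⟨g, hg⟩ := h
  rw [H5.isIrreducible_iff]
  refine ⟨?_, fun U hU => ?_⟩
  · by_contra hc
    have := not_nontrivial_iff_subsingleton.1 hc
    exact hg (Subsingleton.elim _ _)
  by_contra hc
  push Not at hc
  have h1 : (⟨U, fun g v hv => hU g v hv⟩ : Subrepresentation ρ).toRepresentation g = 1 := by
    by_contra h1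
    exact absurd (hmin U _ ⟨g, h1⟩) (not_le.2 (Submodule.finrank_lt hc.2))
  have h2 : ρ.quotient U (fun g v hv => hU g v hv) g = 1 := by
    by_contra h2
    have h3 := hmin (M ⧸ U) _ ⟨g, h2⟩
    have h4 := U.finrank_quotient_add_finrank
    have h5 := one_le_finrank_of_ne_bot hc.1
    omega
  have h3 : ∀ v ∈ U, ρ g v = v := fun v hv => congrArg Subtype.val (LinearMap.congr_fun h1 ⟨v, hv⟩)
  have h4 : ∀ v, ρ g v - v ∈ U := fun v =>
    (Submodule.Quotient.eq U).1 (LinearMap.congr_fun h2 (Submodule.Quotient.mk v))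
  refine hg (LinearMap.ext fun v => ?_)
  have h5 : ∀ k : ℕ, ρ (g ^ k) v = v + (k : ℂ) • (ρ g v - v) := fun k => by
    induction k with
    | zero => simp
    | succ k ih =>
      rw [pow_succ', map_mul, End.mul_apply, ih, map_add, map_smul, h3 _ (h4 v), Nat.cast_succ, add_smul,
        one_smul]
      abel
  have h6 := h5 (orderOf g)
  rw [pow_orderOf_eq_one, map_one, End.one_apply, left_eq_add, smul_eq_zero] at h6
  exact sub_eq_zero.1 (h6.resolve_left (Nat.cast_ne_zero.2 (orderOf_pos g).ne'))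

section lin
variable {M : Type*} [AddCommGroup M] [Module ℂ M] [FiniteDimensional ℂ M] (P : End ℂ M)

theorem mapsTo_eig {T : End ℂ M} (h : T * P = P * T) (ε : ℂ) : ∀ v ∈ P.eigenspace ε, T v ∈ P.eigenspace ε :=
  fun v hv => by
    rw [End.mem_eigenspace_iff] at hv ⊢
    rw [← End.mul_apply, ← h, End.mul_apply, hv, map_smul]

theorem finrank_eig (hP : P * P = 1) {ε : ℂ} (hε : ε * ε = 1) :
    (2 : ℂ) * finrank ℂ (P.eigenspace ε) = finrank ℂ M + ε * LinearMap.trace ℂ M P := by
  have h : LinearMap.IsProj (P.eigenspace ε) ((2 : ℂ)⁻¹ • (1 + ε • P)) :=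
    ⟨fun v => by
      rw [End.mem_eigenspace_iff]
      simp only [LinearMap.smul_apply, LinearMap.add_apply, End.one_apply, map_smul, map_add]
      rw [← End.mul_apply, hP, End.one_apply]
      match_scalars
      · linear_combination (-2⁻¹ : ℂ) * hε
      · ring, fun v hv => by
      rw [End.mem_eigenspace_iff] at hv
      simp only [LinearMap.smul_apply, LinearMap.add_apply, End.one_apply, hv, smul_smul, hε]
      match_scalars
      ring⟩
  rw [← h.trace]
  simp
  ring

/-- linearization of a projective representation commuting with an involution of trace one -/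
theorem exists_linearization (hP : P * P = 1) (htr : LinearMap.trace ℂ M P = 1) {G : Type*} [Group G]
    (T : G → End ℂ M) (hu : ∀ g, IsUnit (T g)) (hc : ∀ g, T g * P = P * T g)
    (hm : ∀ g h, ∃ s : ℂ, T (g * h) = s • (T g * T h)) :
    ∃ ρ : G →* End ℂ (P.eigenspace (-1)), ∀ g, ∃ s : ℂ, ∀ v, (ρ g v : M) = s • T g v := by
  have hd : finrank ℂ (P.eigenspace 1) = finrank ℂ (P.eigenspace (-1)) + 1 := by
    have h1 := finrank_eig P hP (ε := 1) (by ring)
    have h2 := finrank_eig P hP (ε := -1) (by ring)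
    rw [htr] at h1 h2
    have : (finrank ℂ (P.eigenspace 1) : ℂ) = finrank ℂ (P.eigenspace (-1)) + 1 := by
      linear_combination 2⁻¹ * h1 - 2⁻¹ * h2
    exact_mod_cast this
  let r : ∀ (ε : ℂ) (g : G), End ℂ (P.eigenspace ε) := fun ε g => (T g).restrict (mapsTo_eig P (hc g) ε)
  have hr : ∀ ε g h (s : ℂ), T (g * h) = s • (T g * T h) → r ε (g * h) = s • (r ε g * r ε h) :=
    fun ε g h s hs => LinearMap.ext fun v => Subtype.ext (LinearMap.congr_fun hs v)
  have hinj : ∀ ε g, Function.Injective (r ε g) := fun ε g v w e =>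
    Subtype.ext ((End.isUnit_iff _).1 (hu g) |>.1 (congrArg Subtype.val e))
  have hru : ∀ ε g, IsUnit (r ε g) := fun ε g =>
    (End.isUnit_iff _).2 ⟨hinj ε g, LinearMap.injective_iff_surjective.1 (hinj ε g)⟩
  have hdet : ∀ ε g, LinearMap.det (r ε g) ≠ 0 := fun ε g => ((hru ε g).map LinearMap.det).ne_zero
  let ω : G → End ℂ (P.eigenspace (-1)) := fun g =>
    (LinearMap.det (r (-1) g) / LinearMap.det (r 1 g)) • r (-1) g
  have hω : ∀ g h, ω (g * h) = ω g * ω h := fun g h => by
    obtain ⟨s, hs⟩ := hm g h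
    have h1 := hdet 1 (g * h)
    simp only [ω]
    rw [hr 1 g h s hs, LinearMap.det_smul, hd] at h1
    rw [hr _ g h s hs, hr _ g h s hs, LinearMap.det_smul, LinearMap.det_smul, hd, map_mul, map_mul,
      smul_mul_smul_comm, smul_smul]
    congr 1
    have h2 : s ≠ 0 := by rintro rfl; simp at h1
    have h3 := hdet 1 g
    have h4 := hdet 1 h
    field_simp
    ring
  have hω1 : ω 1 = 1 := by
    have h1 := hω 1 1
    rw [mul_one] at h1
    have h2 : IsUnit (ω 1) := by
      simp only [ω, Algebra.smul_def]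
      exact ((Ne.isUnit (div_ne_zero (hdet _ _) (hdet _ _))).map _).mul (hru _ _)
    exact h2.mul_left_cancel (by rw [← h1, mul_one])
  exact ⟨⟨⟨ω, hω1⟩, hω⟩, fun g => ⟨_, fun v => rfl⟩⟩

end lin

section heis
variable {F : Type*} [Field F] [Fintype F] {V : Type*} [AddCommGroup V] [Module F V] [Fintype V]
variable {S : PForm (sympP F) V} {M : Type*} [AddCommGroup M] [Module ℂ M] [FiniteDimensional ℂ M]
variable {ψ : AddChar F ℂ} (hψ : ψ ≠ 1) (h2 : (2 : F) ≠ 0) (hS : S.Nondeg) {W : V → End ℂ M} (hW0 : W 0 = 1)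
  (hW : ∀ v w, W v * W w = ψ (S.h v w) • W (v + w)) (hM : Fintype.card V = finrank ℂ M ^ 2)
include hψ h2 hS hW0 hW

theorem heis_indep [Nontrivial M] : LinearIndependent ℂ W := by
  have h1 : ∀ v, W (-v) * W v = 1 := fun v => by
    rw [hW, map_neg, LinearMap.neg_apply, S.symp_h_self, neg_zero, neg_add_cancel, hW0]; simp
  refine linearIndependent_of_jes (K := ℂ) (V := End ℂ M)
    (fun b => LinearMap.mulLeft ℂ (W (-b)) ∘ₗ LinearMap.mulRight ℂ (W b)) (fun a b => ψ (2 * S.h a b))
    (fun a a' e => ?_) W (fun a b => ?_) fun a h0 => ?_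
  · by_contra hne
    obtain ⟨y, hy⟩ := hS.exists_h_eq_one (sub_ne_zero.2 hne)
    refine h2 (eq_zero_of_forall_addChar_mul hψ fun c => ?_)
    have h3 := congrFun e (c • y)
    rw [map_sub, LinearMap.sub_apply] at hy
    have h4 : 2 * S.h a (c • y) = c * 2 + 2 * S.h a' (c • y) := by
      simp only [map_smul, smul_eq_mul]
      linear_combination 2 * c * hy
    simp only at h3
    rw [h4, AddChar.map_add_eq_mul] at h3
    exact mul_right_cancel₀ (AddChar.val_isUnit ψ _).ne_zero (by rw [h3, one_mul])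
  · simp only [LinearMap.comp_apply, LinearMap.mulLeft_apply, LinearMap.mulRight_apply]
    rw [hW, mul_smul_comm, hW, smul_smul, ← AddChar.map_add_eq_mul]
    congr 2
    · simp only [map_neg, map_add, LinearMap.neg_apply, S.symp_h_self, S.symp_symm a b]
      ring
    · abel
  · have := h1 a
    rw [h0, mul_zero] at this
    exact zero_ne_one this

include hM

theorem heis_nontrivial : Nontrivial M := by
  refine Module.nontrivial_of_finrank_pos (R := ℂ) (Nat.pos_of_ne_zero fun h => ?_)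
  rw [h] at hM
  exact Fintype.card_ne_zero hM

theorem exists_heis_basis : ∃ b : Basis V ℂ (End ℂ M), ∀ v, b v = W v := by
  have := heis_nontrivial hψ h2 hS hW0 hW hM
  exact ⟨basisOfLinearIndependentOfCardEqFinrank (heis_indep hψ h2 hS hW0 hW)
    (by rw [Module.finrank_linearMap, hM, sq]), fun v => by simp⟩

theorem heis_scalar {X : End ℂ M} (h : ∀ v, X * W v = W v * X) : ∃ s : ℂ, X = s • 1 := by
  obtain ⟨b, hb⟩ := exists_heis_basis hψ h2 hS hW0 hW hM
  have h1 : LinearMap.mulLeft ℂ X = LinearMap.mulRight ℂ X := b.ext fun v => by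
    rw [hb]; exact h v
  obtain ⟨s, hs⟩ := (Algebra.IsCentral.mem_center_iff ℂ (x := X)).1
    (Subalgebra.mem_center_iff.2 fun Y => (LinearMap.congr_fun h1 Y).symm)
  exact ⟨s, by rw [hs, Algebra.algebraMap_eq_smul_one]⟩

theorem heis_unique {g : V → V} {T T' : End ℂ M} (hu : IsUnit T') (h : ∀ v, T * W v = W (g v) * T)
    (h' : ∀ v, T' * W v = W (g v) * T') : ∃ s : ℂ, T = s • T' := by
  obtain ⟨u, rfl⟩ := hu
  obtain ⟨s, hs⟩ := heis_scalar hψ h2 hS hW0 hW hM (X := u⁻¹ * T) fun v => by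
    rw [mul_assoc, h, ← mul_assoc, ← mul_assoc]
    congr 1
    rw [Units.inv_mul_eq_iff_eq_mul, ← mul_assoc, h', Units.mul_inv_cancel_right]
  exact ⟨s, by rw [Units.inv_mul_eq_iff_eq_mul] at hs; rw [hs, mul_smul_comm, mul_one]⟩

theorem heis_exists (g : S.Isom) : ∃ T : End ℂ M, IsUnit T ∧ ∀ v, T * W v = W (g.1 v) * T := by
  obtain ⟨b, hb⟩ := exists_heis_basis hψ h2 hS hW0 hW hM
  let l := b.equiv b g.1.toEquiv
  have hl : ∀ v, l (W v) = W (g.1 v) := fun v => by rw [← hb, ← hb]; exact b.equiv_apply v b _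
  have hmul : (LinearMap.mul ℂ (End ℂ M)).compr₂ l.toLinearMap =
      (LinearMap.mul ℂ (End ℂ M)).compl₁₂ l.toLinearMap l.toLinearMap := b.ext fun v => b.ext fun w => by
    simp only [LinearMap.compr₂_apply, LinearMap.compl₁₂_apply, LinearMap.mul_apply', hb,
      LinearEquiv.coe_coe, hW, hl, map_smul, map_add]
    rw [(isom_isIsom g).h_eq]
  obtain ⟨T, hT⟩ := (AlgEquiv.ofLinearEquiv l (by rw [← hW0, hl, map_zero])
    fun x y => LinearMap.congr_fun (LinearMap.congr_fun hmul x) y).eq_linearEquivConjAlgEquiv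
  refine ⟨T, (End.isUnit_iff _).2 T.bijective, fun v => LinearMap.ext fun m => ?_⟩
  have h1 : l (W v) = T.conjAlgEquiv ℂ (W v) := by rw [← hT]; rfl
  rw [← hl, h1]
  simp

/-- the Weil representation on the odd part -/
theorem exists_weil_abs {P : End ℂ M} (hP : P * P = 1) (htr : LinearMap.trace ℂ M P = 1) {c : ℂ}
    (hPW : P = c • ∑ v, W v) : ∃ ρ : S.Isom →* End ℂ (P.eigenspace (-1)),
      ∀ (g : S.Isom) (D : End ℂ M), IsUnit D → (∀ v, D * W v = W (g.1 v) * D) →
        ∃ s : ℂ, ∀ v, (ρ g v : M) = s • D v := by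
  choose T hu hT using heis_exists hψ h2 hS hW0 hW hM
  obtain ⟨ρ, hρ⟩ := exists_linearization P hP htr T hu (fun g => by
    rw [hPW, mul_smul_comm, smul_mul_assoc, Finset.mul_sum, Finset.sum_mul,
      ← Equiv.sum_comp g.1.toEquiv fun v => W v * T g]
    exact congrArg _ (Finset.sum_congr rfl fun v _ => hT g v)) fun g h =>
    heis_unique hψ h2 hS hW0 hW hM ((hu g).mul (hu h)) (hT (g * h)) fun v => by
      rw [mul_assoc, hT, ← mul_assoc, hT, mul_assoc]; rfl
  refine ⟨ρ, fun g D hD h => ?_⟩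
  obtain ⟨s, hs⟩ := hρ g
  obtain ⟨t, ht⟩ := heis_unique hψ h2 hS hW0 hW hM hD (hT g) h
  exact ⟨s * t, fun v => by rw [hs, ht, LinearMap.smul_apply, smul_smul]⟩

end heis

section model
variable {F : Type*} [Field F] [Fintype F] [DecidableEq F] {n : ℕ} (ψ : AddChar F ℂ)

/-- weighted translation operators -/
def wtr (c : (Fin n → F) → F) (τ : (Fin n → F) → (Fin n → F)) : End ℂ ((Fin n → F) → ℂ) where
  toFun f t := ψ (c t) * f (τ t)
  map_add' f g := by ext t; simp [mul_add]
  map_smul' a f := by ext t; simp; ring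

theorem wtr_apply (c : (Fin n → F) → F) (τ : (Fin n → F) → (Fin n → F)) (f : (Fin n → F) → ℂ)
    (t : Fin n → F) : wtr ψ c τ f t = ψ (c t) * f (τ t) := rfl

theorem wtr_mul (c c' : (Fin n → F) → F) (τ τ' : (Fin n → F) → (Fin n → F)) :
    wtr ψ c τ * wtr ψ c' τ' = wtr ψ (fun t => c t + c' (τ t)) fun t => τ' (τ t) := by
  refine LinearMap.ext fun f => funext fun t => ?_
  simp only [End.mul_apply, wtr_apply, AddChar.map_add_eq_mul, mul_assoc]

theorem smul_wtr (a : F) (c : (Fin n → F) → F) (τ : (Fin n → F) → (Fin n → F)) :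
    ψ a • wtr ψ c τ = wtr ψ (fun t => a + c t) τ := by
  refine LinearMap.ext fun f => funext fun t => ?_
  simp only [LinearMap.smul_apply, Pi.smul_apply, wtr_apply, AddChar.map_add_eq_mul, mul_assoc, smul_eq_mul]

theorem wtr_one : wtr ψ (fun _ : Fin n → F => 0) (fun t => t) = 1 := by
  refine LinearMap.ext fun f => funext fun t => ?_
  simp [wtr_apply]

/-- the Schrödinger model -/
def schr (v : Fin n ⊕ Fin n → F) : End ℂ ((Fin n → F) → ℂ) :=
  wtr ψ (fun t => ∑ i, -(2 * t i + v (.inl i)) * v (.inr i)) fun t i => t i + v (.inl i)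

theorem schr_zero : schr ψ (0 : Fin n ⊕ Fin n → F) = 1 := by
  rw [← wtr_one ψ, schr]
  simp

theorem schr_mul (v w : Fin n ⊕ Fin n → F) :
    schr ψ v * schr ψ w = ψ ((stdSymp n F).h v w) • schr ψ (v + w) := by
  rw [schr, schr, schr, wtr_mul, smul_wtr, stdSymp_h, sympForm_eq]
  congr 1
  · funext t
    rw [← Finset.sum_add_distrib, ← Finset.sum_add_distrib]
    exact Finset.sum_congr rfl fun i _ => by simp only [Pi.add_apply]; ring
  · funext t i
    simp only [Pi.add_apply, add_assoc]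

theorem sum_schr (hψ : ψ ≠ 1) :
    wtr ψ (fun _ : Fin n → F => 0) (fun t => -t) = ((Fintype.card (Fin n → F) : ℂ))⁻¹ • ∑ v, schr ψ v := by
  refine LinearMap.ext fun f => funext fun t => ?_
  rw [← (Equiv.sumArrowEquivProdArrow _ _ _).symm.sum_comp, Fintype.sum_prod_type]
  simp only [LinearMap.smul_apply, LinearMap.sum_apply, Pi.smul_apply, Finset.sum_apply, schr, wtr_apply,
    Equiv.sumArrowEquivProdArrow_symm_apply_inl, Equiv.sumArrowEquivProdArrow_symm_apply_inr,
    ← Finset.sum_mul]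
  have h1 : ∀ x : Fin n → F, ∑ y : Fin n → F, ψ (∑ i, -(2 * t i + x i) * y i) =
      if x = -(2 : F) • t then (Fintype.card (Fin n → F) : ℂ) else 0 := fun x => by
    have := (dotPairing hψ (Fin n)).sum_right (-((2 : F) • t + x))
    simp only [show (-((2 : F) • t + x) = 0) ↔ (x = -(2 : F) • t) by
      rw [neg_eq_zero, neg_smul, add_eq_zero_iff_eq_neg']] at this
    rw [← this]
    rfl
  simp only [h1, ite_mul, zero_mul, Finset.sum_ite_eq', Finset.mem_univ, if_true, smul_eq_mul]
  rw [inv_mul_cancel_left₀ (Nat.cast_ne_zero.2 Fintype.card_ne_zero), AddChar.map_zero_eq_one, one_mul]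
  congr 1
  funext i
  simp only [Pi.smul_apply, Pi.neg_apply, smul_eq_mul]
  ring

theorem trace_parity (h2 : (2 : F) ≠ 0) :
    LinearMap.trace ℂ _ (wtr ψ (fun _ : Fin n → F => 0) fun t => -t) = 1 := by
  rw [LinearMap.trace_eq_matrix_trace ℂ (Pi.basisFun ℂ _), Matrix.trace]
  have : ∀ t : Fin n → F, (-t = t) = (t = 0) := fun t => by
    rw [neg_eq_iff_add_eq_zero, ← two_smul F, smul_eq_zero, eq_iff_iff]
    simp [h2]
  simp [wtr_apply, Pi.single_apply, this]

theorem exists_weil (hn : 2 ≤ n) (ho : Odd (Fintype.card F)) :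
    ∃ ρ : (stdSymp n F).Isom →* End ℂ (Fin ((Fintype.card F ^ n - 1) / 2) → ℂ), ∃ g, ρ g ≠ 1 := by
  obtain ⟨ψ, hψ⟩ := exists_addChar_complex F
  have h2 := two_ne_zero_of_odd_card ho
  have hP : wtr ψ (fun _ : Fin n → F => 0) (fun t => -t) * wtr ψ (fun _ => 0) (fun t => -t) = 1 := by
    rw [wtr_mul, ← wtr_one ψ]; simp
  have hex := exists_weil_abs hψ h2 (stdSymp_nondeg n) (schr_zero ψ) (schr_mul ψ)
    (by simp [← pow_mul, mul_two]) hP (trace_parity ψ h2) (sum_schr ψ hψ)
  set N := (wtr ψ (fun _ : Fin n → F => 0) (fun t => -t)).eigenspace (-1) with hN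
  obtain ⟨ρ, hρ⟩ := hex
  have hd : finrank ℂ N = (Fintype.card F ^ n - 1) / 2 := by
    have := finrank_eig _ hP (ε := -1) (by ring)
    rw [trace_parity ψ h2, finrank_fintype_fun_eq_card, Fintype.card_fun, Fintype.card_fin] at this
    have h3 : ((2 * finrank ℂ N + 1 : ℕ) : ℂ) = (Fintype.card F ^ n : ℕ) := by
      push_cast at this ⊢
      linear_combination this
    have h4 := Nat.cast_injective h3
    omega
  let e : N ≃ₗ[ℂ] (Fin ((Fintype.card F ^ n - 1) / 2) → ℂ) := LinearEquiv.ofFinrankEq _ _ (by simp [hd])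
  obtain ⟨a, ha⟩ : ∃ a, ψ a ≠ 1 := by
    by_contra hc
    push Not at hc
    exact hψ (DFunLike.ext _ _ hc)
  let i : Fin n := ⟨0, by omega⟩
  let j : Fin n := ⟨1, by omega⟩
  have hij : i ≠ j := by simp [i, j]
  refine ⟨(e.conjAlgEquiv ℂ).toMonoidHom.comp ρ, (stdSymp n F).eich (Pi.single (.inr i) 1) 0 a, fun h => ?_⟩
  have h1 : ρ ((stdSymp n F).eich (Pi.single (.inr i) 1) 0 a) = 1 :=
    (e.conjAlgEquiv ℂ).injective (h.trans (map_one _).symm)
  obtain ⟨s, hs⟩ := hρ ((stdSymp n F).eich (Pi.single (.inr i) 1) 0 a) (wtr ψ (fun t => a * t i ^ 2) fun t => t)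
    (IsUnit.of_mul_eq_one (wtr ψ (fun t => -(a * t i ^ 2)) fun t => t) (by rw [wtr_mul, ← wtr_one ψ]; simp))
    fun v => by
      rw [schr, schr, wtr_mul, wtr_mul, symp_transv_apply, stdSymp_single_inr]
      congr 1
      · funext t
        simp only [Pi.add_apply, Pi.smul_apply, smul_eq_mul, Pi.single_apply, mul_add, Finset.sum_add_distrib,
          Sum.inr.injEq, reduceCtorEq, if_false, mul_zero, add_zero, mul_ite, Finset.sum_ite_eq',
          Finset.mem_univ, if_true]
        ring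
      · funext t k
        simp
  rw [h1] at hs
  have h3 : ∀ k : Fin n, s * ψ (a * (Pi.single k 1 : Fin n → F) i ^ 2) = 1 := fun k => by
    have hk : (-Pi.single k 1 : Fin n → F) ≠ Pi.single k 1 := fun e => h2 (by
      have := congrFun e k
      simp only [Pi.neg_apply, Pi.single_eq_same] at this
      linear_combination -this)
    have := congrFun (hs ⟨Pi.single (Pi.single k 1) 1 - Pi.single (-Pi.single k 1) 1, by
      rw [hN, End.mem_eigenspace_iff]
      funext t
      simp [wtr_apply, Pi.single_apply, neg_eq_iff_eq_neg]⟩) (Pi.single k 1)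
    simpa [wtr_apply, Pi.single_apply, hk.symm] using this.symm
  have h4 := h3 j
  have h5 := h3 i
  simp [hij] at h4 h5
  rw [h4, one_mul] at h5
  exact ha h5

end model

end H24
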